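import Cfsg.Agent.Lib.SmallN.Setup

/-!
Values on the complement `Q`.
-/

set_option autoImplicit false
set_option linter.style.haveILetI false
set_option linter.unusedSectionVars false

namespace Cfsg.Agent.SmallN

open Cfsg Cfsg.Agent.Char Cfsg.Agent.Blocks Cfsg.Agent.BrauerPairs
open scoped ComplexConjugate Classical

universe u

variable {G : Type u} [Group G] [Fintype G] {p : ℕ} {P Q : Subgroup G} {q n : ℕ}
  (H : Hyp p P Q q n) (T : Table (G := G) p P q n)

omit [Fintype G] in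
theorem norm_le_one {H' : Type u} [Group H'] [Finite H'] {f : H' → ℂ} (hf : IsCharacter H' f) {d : ℕ}
    (hd : f 1 = d) (x : H') : ‖f x‖ ≤ d := by
  obtain ⟨m, ρ, rfl⟩ := hf
  rw [Representation.char_one] at hd
  have := norm_char_le ρ x
  rw [show Module.finrank ℂ (Fin m → ℂ) = d by exact_mod_cast hd] at this
  exact this

/-- The sum over the subgroup of a character with maximal sum: the character is constant. -/
theorem const_of_sum {H' : Type u} [Group H'] [Fintype H'] {f : H' → ℂ} (hf : IsCharacter H' f)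
    {d : ℕ} (hd : f 1 = d) (hsum : ∑ x, f x = (Nat.card H' : ℂ) * d) (x : H') : f x = d := by
  have hn := norm_le_one hf hd
  have hre : ∀ x, (f x).re ≤ d := fun x => le_trans (Complex.re_le_norm _) (hn x)
  have h0 : ∑ x, ((d : ℝ) - (f x).re) = 0 := by
    have := congrArg Complex.re hsum
    simp only [Complex.re_sum, Complex.mul_re, Complex.natCast_re, Complex.natCast_im, mul_zero,
      sub_zero] at this
    rw [Finset.sum_sub_distrib, this, Finset.sum_const, Finset.card_univ, nsmul_eq_mul,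
      ← Nat.card_eq_fintype_card, sub_self]
  have hx := (Finset.sum_eq_zero_iff_of_nonneg fun y _ => sub_nonneg.2 (hre y)).1 h0 x (Finset.mem_univ x)
  have hr : (f x).re = d := by linarith
  have him : (f x).im = 0 := by
    have h1 : ‖f x‖ ^ 2 ≤ (d : ℝ) ^ 2 := pow_le_pow_left₀ (norm_nonneg _) (hn x) 2
    rw [← Complex.normSq_eq_norm_sq, Complex.normSq_apply, hr] at h1
    nlinarith [sq_nonneg (f x).im]
  exact Complex.ext (by simpa using hr) (by simpa using him)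

namespace Hyp

include H

theorem p_ne_zero : (p : ℂ) ≠ 0 := Nat.cast_ne_zero.2 H.hp.ne_zero

theorem q_ne_zero : (q : ℂ) ≠ 0 := Nat.cast_ne_zero.2 (by have := H.two_le; omega)

theorem card_Q : Fintype.card Q = q := by rw [← Nat.card_eq_fintype_card, H.cardQ]

theorem sum_P (χ : IrrCharacter G) (v : ℂ) (h : ∀ y ∈ P, y ≠ 1 → (χ : G → ℂ) y = v) :
    ∑ y : P, (χ : G → ℂ) y = (χ : G → ℂ) 1 + ((p : ℂ) - 1) * v := by
  rw [← Finset.add_sum_erase _ _ (Finset.mem_univ (1 : P)), OneMemClass.coe_one]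
  congr 1
  rw [Finset.sum_congr rfl fun (y : P) hy => h y y.2 fun e => Finset.ne_of_mem_erase hy (Subtype.ext e),
    Finset.sum_const, Finset.card_erase_of_mem (Finset.mem_univ _), Finset.card_univ,
    ← Nat.card_eq_fintype_card, H.cardP, nsmul_eq_mul, Nat.cast_sub H.hp.pos, Nat.cast_one]

theorem irr_class (χ : IrrCharacter G) : IsClassFunction G (χ : G → ℂ) :=
  IsCharacter.isClassFunction (IsIrrCharacter.isCharacter χ.2)

theorem irr_fix_char (χ : IrrCharacter G) : IsCharacter Q (fixFun P Q (χ : G → ℂ)) :=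
  H.fix_isCharacter (IsIrrCharacter.isCharacter χ.2)

theorem irr_fix_apply (χ : IrrCharacter G) {x : Q} (hx : x ≠ 1) :
    fixFun P Q (χ : G → ℂ) x = (χ : G → ℂ) x :=
  H.fix_apply (H.irr_class χ) hx

end Hyp

namespace Table

include H

theorem fix_one_A {χ : IrrCharacter G} (hχ : χ ∈ T.As) :
    fixFun P Q (χ : G → ℂ) 1 = (n : ℂ) + 1 := by
  refine mul_left_cancel₀ H.p_ne_zero ?_
  rw [H.fix_one, H.sum_P χ 1 (T.valA χ hχ), T.degA χ hχ]
  ring

theorem fix_one_B {χ : IrrCharacter G} (hχ : χ ∈ T.Bs) : fixFun P Q (χ : G → ℂ) 1 = 0 := by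
  refine mul_left_cancel₀ H.p_ne_zero ?_
  rw [H.fix_one, H.sum_P χ (-1) (T.valB χ hχ), T.degB χ hχ]
  ring

theorem fix_B {χ : IrrCharacter G} (hχ : χ ∈ T.Bs) : fixFun P Q (χ : G → ℂ) = 0 :=
  IsCharacter.eq_zero_of_one (H.irr_fix_char χ) (T.fix_one_B H hχ)

theorem B_vanish {χ : IrrCharacter G} (hχ : χ ∈ T.Bs) {x : Q} (hx : x ≠ 1) :
    (χ : G → ℂ) x = 0 := by
  rw [← H.irr_fix_apply χ hx, T.fix_B H hχ]
  rfl

theorem T_apply {θ : IrrCharacter G} (hθ : θ ∈ T.Th) (x : Q) : (θ : G → ℂ) x = T.ex x :=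
  T.agree θ hθ _ (H.regular_Q x.2)

theorem deg_T {θ : IrrCharacter G} (hθ : θ ∈ T.Th) : (θ : G → ℂ) 1 = (T.c : ℂ) := by
  rw [T.agree θ hθ 1 (by simpa using H.hp.ne_one), T.ex_one]

theorem fix_one_T {θ : IrrCharacter G} (hθ : θ ∈ T.Th) :
    ∃ k : ℕ, fixFun P Q (θ : G → ℂ) 1 = k ∧ (T.c : ℤ) + T.δ * q = p * k := by
  obtain ⟨k, hk⟩ := IsCharacter.exists_degree (H.irr_fix_char θ)
  refine ⟨k, hk, ?_⟩
  have h := H.fix_one (θ : G → ℂ) (Q := Q)
  rw [hk, T.sumT θ hθ] at h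
  exact_mod_cast h.symm

/-- Relation on `Q`. -/
theorem relation_Q {x : Q} (hx : x ≠ 1) :
    1 + ∑ χ ∈ T.As, (χ : G → ℂ) x + (T.δ : ℂ) * T.ex x = 0 := by
  have h := T.relation x (H.regular_Q x.2)
  rw [Finset.sum_eq_zero fun χ hχ => T.B_vanish H hχ hx, sub_zero] at h
  exact h

theorem relation_one : 1 + (T.As.card : ℂ) * ((n : ℂ) * p + 1) - (T.Bs.card : ℂ) * ((p : ℂ) - 1) +
    (T.δ : ℂ) * T.c = 0 := by
  have h := T.relation 1 (by simpa using H.hp.ne_one)
  rw [Finset.sum_congr rfl fun χ hχ => T.degA χ hχ, Finset.sum_congr rfl fun χ hχ => T.degB χ hχ,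
    Finset.sum_const, Finset.sum_const, T.ex_one, nsmul_eq_mul, nsmul_eq_mul] at h
  exact h

omit H in
/-- Characters of degree divisible by `p`. -/
noncomputable def Zs : Finset (IrrCharacter G) :=
  Finset.univ.filter fun χ => p ∣ charDegree (χ : G → ℂ)

theorem A_not_dvd {χ : IrrCharacter G} (hχ : χ ∈ T.As) : ¬ p ∣ charDegree (χ : G → ℂ) := by
  intro h
  have h1 := T.degA χ hχ
  rw [irr_one_eq_charDegree] at h1
  have h2 : charDegree (χ : G → ℂ) = n * p + 1 := by exact_mod_cast h1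
  rw [h2] at h
  exact H.hp.not_dvd_one ((Nat.dvd_add_right (dvd_mul_left p n)).1 h)

theorem B_not_dvd {χ : IrrCharacter G} (hχ : χ ∈ T.Bs) : ¬ p ∣ charDegree (χ : G → ℂ) := by
  intro h
  have h1 := T.degB χ hχ
  rw [irr_one_eq_charDegree] at h1
  have h2 : charDegree (χ : G → ℂ) + 1 = p := by
    rw [eq_sub_iff_add_eq] at h1
    exact_mod_cast h1
  exact H.hp.not_dvd_one ((Nat.dvd_add_right h).1 (by rw [h2]))

theorem T_not_dvd {θ : IrrCharacter G} (hθ : θ ∈ T.Th) : ¬ p ∣ charDegree (θ : G → ℂ) := by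
  intro h
  have h1 := T.deg_T H hθ
  rw [irr_one_eq_charDegree] at h1
  have h2 : charDegree (θ : G → ℂ) = T.c := by exact_mod_cast h1
  rw [h2] at h
  obtain ⟨k, -, hk⟩ := T.fix_one_T H hθ
  have h3 : (p : ℤ) ∣ T.δ * q :=
    (dvd_add_right (Int.natCast_dvd_natCast.2 h)).1 (hk ▸ dvd_mul_right _ _)
  refine H.not_dvd_q (Int.natCast_dvd_natCast.1 ?_)
  rcases T.sign with e | e <;> rw [e] at h3 <;> simpa using h3

theorem sum_split {M : Type*} [AddCommMonoid M] (φ : IrrCharacter G → M) :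
    ∑ χ, φ χ = φ (principal G) + ∑ χ ∈ T.As, φ χ + ∑ χ ∈ T.Bs, φ χ + ∑ χ ∈ T.Th, φ χ +
      ∑ χ ∈ Zs (p := p), φ χ := by
  obtain ⟨hA, hB, hT⟩ := T.ne_principal
  have hu : (Finset.univ : Finset (IrrCharacter G)) =
      {principal G} ∪ T.As ∪ T.Bs ∪ T.Th ∪ Zs (p := p) := by
    refine (Finset.eq_univ_iff_forall.2 fun χ => ?_).symm
    simp only [Finset.mem_union, Finset.mem_singleton, Zs, Finset.mem_filter, Finset.mem_univ,
      true_and]
    rcases T.cover χ with h | h | h | h | h <;> simp [h]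
  have hp1 : ¬ p ∣ charDegree (principal G : G → ℂ) := by
    rw [show charDegree (principal G : G → ℂ) = 1 from Cfsg.Agent.CharX.charDegree_one]
    exact H.hp.not_dvd_one
  rw [hu, Finset.sum_union, Finset.sum_union, Finset.sum_union, Finset.sum_union,
    Finset.sum_singleton]
  · simp [hA]
  · rw [Finset.disjoint_union_left]
    exact ⟨by simp [hB], T.disjAB⟩
  · rw [Finset.disjoint_union_left, Finset.disjoint_union_left]
    exact ⟨⟨by simp [hT], T.disjAT⟩, T.disjBT⟩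
  · rw [Finset.disjoint_right]
    intro χ hχ hχ'
    have hd := (Finset.mem_filter.1 hχ).2
    simp only [Finset.mem_union, Finset.mem_singleton] at hχ'
    rcases hχ' with ((h | h) | h) | h
    · exact hp1 (h ▸ hd)
    · exact T.A_not_dvd H h hd
    · exact T.B_not_dvd H h hd
    · exact T.T_not_dvd H h hd

omit H in
/-- The degree over `p`. -/
noncomputable def zd (p : ℕ) (χ : IrrCharacter G) : ℕ := charDegree (χ : G → ℂ) / p

include T in
theorem zd_spec {χ : IrrCharacter G} (hχ : χ ∈ Zs (p := p)) :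
    (χ : G → ℂ) 1 = (p : ℂ) * zd p χ ∧ fixFun P Q (χ : G → ℂ) 1 = zd p χ ∧ 0 < zd p χ := by
  have hd := (Finset.mem_filter.1 hχ).2
  have h1 : (χ : G → ℂ) 1 = (p : ℂ) * zd p χ := by
    rw [irr_one_eq_charDegree, zd, ← Nat.cast_mul, Nat.mul_div_cancel' hd]
  refine ⟨h1, ?_, Nat.div_pos (Nat.le_of_dvd (charDegree_pos χ) hd) H.hp.pos⟩
  refine mul_left_cancel₀ H.p_ne_zero ?_
  rw [H.fix_one, H.sum_P χ 0 (T.valZ χ hd), mul_zero, add_zero, h1]

/-- Sum of the squares. -/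
theorem squares : (p : ℂ) * q * ((n : ℂ) * p + 1) = 1 + T.As.card * ((n : ℂ) * p + 1) ^ 2 +
    T.Bs.card * ((p : ℂ) - 1) ^ 2 + T.Th.card * (T.c : ℂ) ^ 2 +
    (p : ℂ) ^ 2 * ∑ χ ∈ Zs (G := G) (p := p), (zd p χ : ℂ) ^ 2 := by
  have h := sum_sq_degree (G := G)
  have eA : ∑ χ ∈ T.As, (χ : G → ℂ) 1 ^ 2 = ∑ χ ∈ T.As, ((n : ℂ) * p + 1) ^ 2 :=
    Finset.sum_congr rfl fun χ hχ => by rw [T.degA χ hχ]
  have eB : ∑ χ ∈ T.Bs, (χ : G → ℂ) 1 ^ 2 = ∑ χ ∈ T.Bs, ((p : ℂ) - 1) ^ 2 :=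
    Finset.sum_congr rfl fun χ hχ => by rw [T.degB χ hχ]
  have eT : ∑ χ ∈ T.Th, (χ : G → ℂ) 1 ^ 2 = ∑ χ ∈ T.Th, (T.c : ℂ) ^ 2 :=
    Finset.sum_congr rfl fun χ hχ => by rw [T.deg_T H hχ]
  have eZ : ∑ χ ∈ Zs (G := G) (p := p), (χ : G → ℂ) 1 ^ 2 =
      ∑ χ ∈ Zs (G := G) (p := p), (p : ℂ) ^ 2 * (zd p χ : ℂ) ^ 2 :=
    Finset.sum_congr rfl fun χ hχ => by rw [(T.zd_spec H hχ).1, mul_pow]
  rw [H.cardG, T.sum_split H, eA, eB, eT, eZ,
    Finset.sum_const, Finset.sum_const, Finset.sum_const, ← Finset.mul_sum, nsmul_eq_mul,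
    nsmul_eq_mul, nsmul_eq_mul] at h
  push_cast at h
  rw [show (principal G : G → ℂ) 1 = 1 from rfl, one_pow] at h
  exact h.symm

/-- The regular character summed over `N(P)`. -/
theorem sum_regular_N :
    ∑ χ : IrrCharacter G, (χ : G → ℂ) 1 * ∑ x : Q, fixFun P Q (χ : G → ℂ) x =
      (q : ℂ) * ((n : ℂ) * p + 1) := by
  refine mul_left_cancel₀ H.p_ne_zero ?_
  have hx : ∀ (x : Q) (y : P), ∑ χ : IrrCharacter G, (χ : G → ℂ) 1 * (χ : G → ℂ) ((x : G) * y) =
      if x = 1 ∧ y = 1 then (Nat.card G : ℂ) else 0 := by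
    intro x y
    rw [Finset.sum_congr rfl fun (χ : IrrCharacter G) _ =>
        show (χ : G → ℂ) 1 * (χ : G → ℂ) ((x : G) * y) =
          (χ : G → ℂ) ((x : G) * y) * conj ((χ : G → ℂ) 1) by
      rw [irr_one_eq_charDegree, map_natCast, mul_comm]]
    split_ifs with h
    · rw [h.1, h.2, OneMemClass.coe_one, OneMemClass.coe_one, one_mul,
        column_orth_of_isConj (IsConj.refl _), show Subgroup.centralizer ({(1 : G)} : Set G) = ⊤ by
          ext; simp [Subgroup.mem_centralizer_singleton_iff], Subgroup.card_top]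
    · refine column_orth_of_not_isConj fun hc => h ?_
      have he : (x : G) * y = 1 := isConj_one_left.1 hc
      have hxP : (x : G) ∈ P := by rw [mul_eq_one_iff_eq_inv.1 he]; exact P.inv_mem y.2
      have hx1 := H.eq_one_of_mem hxP x.2
      rw [hx1, one_mul] at he
      exact ⟨Subtype.ext hx1, Subtype.ext he⟩
  calc (p : ℂ) * ∑ χ : IrrCharacter G, (χ : G → ℂ) 1 * ∑ x : Q, fixFun P Q (χ : G → ℂ) x
      = ∑ x : Q, ∑ y : P, ∑ χ : IrrCharacter G, (χ : G → ℂ) 1 * (χ : G → ℂ) ((x : G) * y) := by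
        simp only [fixFun, H.cardP, Finset.mul_sum]
        rw [Finset.sum_comm]
        refine Finset.sum_congr rfl fun x _ => ?_
        rw [Finset.sum_comm]
        refine Finset.sum_congr rfl fun y _ => Finset.sum_congr rfl fun χ _ => ?_
        have := H.p_ne_zero
        field_simp
    _ = _ := by
        simp only [hx, ite_and]
        rw [Finset.sum_eq_single (1 : Q), Finset.sum_eq_single (1 : P), if_pos rfl, if_pos rfl]
        · rw [H.cardG]
          push_cast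
          ring
        · exact fun y _ hy => by rw [if_pos rfl, if_neg hy]
        · simp
        · exact fun x _ hx => by simp [hx]
        · simp

end Table

end Cfsg.Agent.SmallN
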