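import Cfsg.Agent.Lib.Char.Invariants
import Cfsg.Agent.Lib.Char.Complete
import Cfsg.Agent.Lib.Char.Galois
import Cfsg.Agent.Lib.Char.Degree
import Cfsg.Agent.Lib.Blocks.PairSingular
import Cfsg.Agent.Lib.BrauerPairs.Bridge

/-!
General tools: characters of fixed spaces, sums of characters over a subgroup, counting pairs.
-/

set_option autoImplicit false
set_option linter.style.haveILetI false
set_option linter.unusedSectionVars false

namespace Cfsg.Agent.SmallN

open Cfsg Cfsg.Agent.Char Cfsg.Agent.BrauerPairs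
open scoped ComplexConjugate Classical

universe u

variable {G : Type u} [Group G] [Fintype G]

/-- The character of the fixed space of `P`, on a subgroup normalizing `P`. -/
noncomputable def fixFun (P Q : Subgroup G) (χ : G → ℂ) (x : Q) : ℂ :=
  (Nat.card P : ℂ)⁻¹ * ∑ y : P, χ ((x : G) * y)

theorem isCharacter_fixFun (P Q : Subgroup G) (hQP : Q ≤ Subgroup.normalizer (P : Set G))
    {χ : G → ℂ} (hχ : IsCharacter G χ) : IsCharacter Q (fixFun P Q χ) := by
  obtain ⟨n, ρ, rfl⟩ := hχ
  let τ : Representation ℂ P (Fin n → ℂ) := ρ.comp P.subtype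
  have hinv : ∀ (x : Q) (v : Fin n → ℂ), v ∈ τ.invariants → ρ (x : G) v ∈ τ.invariants := by
    intro x v hv
    rw [Representation.mem_invariants] at hv ⊢
    intro y
    have hy : (x : G)⁻¹ * y * x ∈ P := by
      have := (Subgroup.mem_normalizer_iff.1 (inv_mem (hQP x.2)) y).1 y.2
      simpa using this
    show ρ (y : G) (ρ (x : G) v) = ρ (x : G) v
    have h1 : ρ ((x : G)⁻¹ * y * x) v = v := hv ⟨_, hy⟩
    calc ρ (y : G) (ρ (x : G) v) = ρ ((y : G) * x) v := by rw [map_mul]; rfl
      _ = ρ ((x : G) * ((x : G)⁻¹ * y * x)) v := by group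
      _ = ρ (x : G) (ρ ((x : G)⁻¹ * y * x) v) := by rw [map_mul]; rfl
      _ = _ := by rw [h1]
  let σ : Representation ℂ Q τ.invariants :=
    { toFun := fun x => (ρ (x : G)).restrict (hinv x)
      map_one' := LinearMap.ext fun v => Subtype.ext (by simp)
      map_mul' := fun a b => LinearMap.ext fun v => Subtype.ext (by simp) }
  have hσ : σ.character = fixFun P Q ρ.character := by
    funext x
    show LinearMap.trace ℂ _ (σ x) = _
    have hmem : ∀ v, (ρ (x : G) ∘ₗ avgMap τ) v ∈ τ.invariants := fun v =>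
      hinv x _ ((isProj_avgMap τ).map_mem v)
    have h1 := LinearMap.trace_restrict_eq_of_forall_mem τ.invariants (ρ (x : G) ∘ₗ avgMap τ) hmem
    have h2 : (ρ (x : G) ∘ₗ avgMap τ).restrict (fun v _ => hmem v) = σ x :=
      LinearMap.ext fun v => Subtype.ext (by
        show ρ (x : G) (avgMap τ v) = ρ (x : G) v
        rw [(isProj_avgMap τ).map_id v v.2])
    rw [h2] at h1
    have h3 : ρ (x : G) ∘ₗ avgMap τ = (Nat.card P : ℂ)⁻¹ • ∑ y : P, ρ ((x : G) * y) :=
      LinearMap.ext fun v => by
        rw [LinearMap.comp_apply, avgMap_apply, map_smul, map_sum, LinearMap.smul_apply,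
          LinearMap.sum_apply]
        refine congrArg _ (Finset.sum_congr rfl fun y _ => ?_)
        rw [map_mul]
        rfl
    rw [h1, h3, fixFun, map_smul, map_sum, smul_eq_mul]
    rfl
  exact hσ ▸ isCharacter_of_rep σ

/-- The sum over a subgroup of a product of two characters is a multiple of its order. -/
theorem sum_mul_conj_nat {H : Type u} [Group H] [Fintype H] {f g : H → ℂ}
    (hf : IsCharacter H f) (hg : IsCharacter H g) :
    ∃ m : ℕ, ∑ x, f x * conj (g x) = (Nat.card H : ℂ) * m := by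
  obtain ⟨m, hm⟩ := IsCharacter.exists_classInner_nat hf hg
  refine ⟨m, ?_⟩
  rw [← hm, classInner, ← mul_assoc, mul_inv_cancel₀ (Nat.cast_ne_zero.2 Nat.card_pos.ne'), one_mul]

theorem sum_nat {H : Type u} [Group H] [Fintype H] {f : H → ℂ} (hf : IsCharacter H f) :
    ∃ m : ℕ, ∑ x, f x = (Nat.card H : ℂ) * m := by
  simpa using sum_mul_conj_nat hf isCharacter_one

/-- The number of ways to write `y` as a product of two conjugates of `x`. -/
noncomputable def pairsCount (x y : G) : ℕ :=
  (Finset.univ.filter fun a : G => IsConj x a ∧ IsConj x (a⁻¹ * y)).card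

theorem pairsCount_eq (x y : G) :
    (Nat.card G : ℂ) * pairsCount x y =
      ((Subgroup.centralizer ({x} : Set G)).index : ℂ) ^ 2 *
        ∑ χ : IrrCharacter G, (χ : G → ℂ) x ^ 2 * conj ((χ : G → ℂ) y) / (χ : G → ℂ) 1 := by
  have hS : ∀ g h : G, h ∈ classFinset y → g * h * g⁻¹ ∈ classFinset y := by
    intro g h hh
    rw [mem_classFinset] at hh ⊢
    exact hh.trans (isConj_iff.2 ⟨g, rfl⟩)
  have h := Blocks.PairSing.count_pairs x (classFinset y) hS
  have hsum : ∀ χ : IrrCharacter G, ∑ g ∈ classFinset y, conj ((χ : G → ℂ) g) =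
      ((classFinset y).card : ℂ) * conj ((χ : G → ℂ) y) := fun χ => by
    rw [Finset.sum_congr rfl fun g hg => show conj ((χ : G → ℂ) g) = conj ((χ : G → ℂ) y) by
      rw [(isClassFunction_iff.1 (IsCharacter.isClassFunction (IsIrrCharacter.isCharacter χ.2)))
        y g (mem_classFinset.1 hg)], Finset.sum_const, nsmul_eq_mul]
  simp only [hsum] at h
  have hcnt : ((classFinset x ×ˢ classFinset x).filter
      fun ab : G × G => ab.1 * ab.2 ∈ classFinset y).card = (classFinset y).card * pairsCount x y := by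
    rw [Finset.card_eq_sum_card_fiberwise (f := fun ab : G × G => ab.1 * ab.2) (t := classFinset y)
      (s := (classFinset x ×ˢ classFinset x).filter fun ab : G × G => ab.1 * ab.2 ∈ classFinset y)
      fun ab hab => (Finset.mem_filter.1 hab).2, ← smul_eq_mul, ← Finset.sum_const]
    refine Finset.sum_congr rfl fun w hw => ?_
    obtain ⟨c, hc⟩ := isConj_iff.1 (mem_classFinset.1 hw)
    refine Finset.card_bij' (fun ab _ => c⁻¹ * ab.1 * c)
      (fun a _ => (c * a * c⁻¹, c * (a⁻¹ * y) * c⁻¹)) ?_ ?_ ?_ ?_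
    · rintro ⟨a, b⟩ hab
      simp only [Finset.mem_filter, Finset.mem_product, mem_classFinset] at hab
      simp only [Finset.mem_filter, Finset.mem_univ, true_and]
      refine ⟨hab.1.1.1.trans (isConj_iff.2 ⟨c⁻¹, by group⟩), ?_⟩
      refine hab.1.1.2.trans (isConj_iff.2 ⟨c⁻¹, ?_⟩)
      rw [show c⁻¹ * b * c⁻¹⁻¹ = (c⁻¹ * a * c)⁻¹ * (c⁻¹ * (a * b) * c) by group, hab.2, ← hc]
      group
    · intro a ha
      simp only [Finset.mem_filter, Finset.mem_univ, true_and] at ha
      simp only [Finset.mem_filter, Finset.mem_product, mem_classFinset]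
      have e : c * a * c⁻¹ * (c * (a⁻¹ * y) * c⁻¹) = w := by rw [← hc]; group
      exact ⟨⟨⟨ha.1.trans (isConj_iff.2 ⟨c, rfl⟩), ha.2.trans (isConj_iff.2 ⟨c, rfl⟩)⟩,
        e.symm ▸ mem_classFinset.1 hw⟩, e⟩
    · rintro ⟨a, b⟩ hab
      simp only [Finset.mem_filter] at hab
      refine Prod.ext (by show c * (c⁻¹ * a * c) * c⁻¹ = a; group) ?_
      show c * ((c⁻¹ * a * c)⁻¹ * y) * c⁻¹ = b
      rw [show c * ((c⁻¹ * a * c)⁻¹ * y) * c⁻¹ = a⁻¹ * (c * y * c⁻¹) by group, hc, ← hab.2,
        inv_mul_cancel_left]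
    · intro a _
      show c⁻¹ * (c * a * c⁻¹) * c = a
      group
  rw [hcnt, Nat.cast_mul] at h
  have hne : ((classFinset y).card : ℂ) ≠ 0 :=
    Nat.cast_ne_zero.2 (Finset.card_ne_zero.2 ⟨y, mem_classFinset.2 (IsConj.refl y)⟩)
  refine mul_left_cancel₀ hne ?_
  rw [← mul_assoc, mul_comm ((classFinset y).card : ℂ), mul_assoc, h, Finset.mul_sum, Finset.mul_sum]
  exact Finset.sum_congr rfl fun χ _ => by ring

/-- One term of column orthogonality is at most the centralizer order. -/
theorem sum_normSq_le (g : G) (s : Finset (IrrCharacter G)) :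
    ∑ χ ∈ s, Complex.normSq ((χ : G → ℂ) g) ≤
      (Nat.card (Subgroup.centralizer ({g} : Set G)) : ℝ) := by
  have h := column_orth_of_isConj (IsConj.refl g)
  simp only [Complex.mul_conj, ← Complex.ofReal_sum] at h
  have h' : ∑ χ : IrrCharacter G, Complex.normSq ((χ : G → ℂ) g) =
      (Nat.card (Subgroup.centralizer ({g} : Set G)) : ℝ) := by exact_mod_cast h
  rw [← h']
  exact Finset.sum_le_sum_of_subset_of_nonneg (Finset.subset_univ s) fun χ _ _ => Complex.normSq_nonneg _

end Cfsg.Agent.SmallN
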