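import Cfsg.Agent.Lib.SmallN.Main

/-!
Simple groups of order less than the cube of a prime divisor: the Sylow subgroup is self-centralizing.
-/

set_option autoImplicit false
set_option linter.style.haveILetI false
set_option linter.unusedSectionVars false

namespace Cfsg.Agent.SmallN

open Cfsg Cfsg.Agent.Char Cfsg.Agent.Blocks Cfsg.Agent.BrauerPairs
open scoped ComplexConjugate Classical

universe u

/-- A divisor congruent to one. -/
theorem divisor_one {p n m u d : ℕ} (hu : 0 < u) (hd : d = u * p + 1) (hm0 : 0 < m) (hm : m < p)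
    (hdvd : d ∣ m * (n * p + 1)) (hsmall : m * (n * p + 1) < p ^ 2) : d = n * p + 1 := by
  obtain ⟨a, ha⟩ := hdvd
  subst hd
  have hap : a < p := by
    by_contra h
    push Not at h
    have h1 : (1 * p + 1) * p ≤ (u * p + 1) * a :=
      Nat.mul_le_mul (Nat.add_le_add_right (Nat.mul_le_mul_right _ hu) 1) h
    nlinarith
  have h1 : a % p = m % p := by
    rw [show m * (n * p + 1) = m * n * p + m by ring] at ha
    have h3 : (m * n * p + m) % p = ((u * a) * p + a) % p := by rw [ha]; ring_nf
    rw [Nat.mul_add_mod_self_right, Nat.mul_add_mod_self_right] at h3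
    exact h3.symm
  rw [Nat.mod_eq_of_lt hap, Nat.mod_eq_of_lt hm] at h1
  subst h1
  rw [mul_comm] at ha
  exact (Nat.eq_of_mul_eq_mul_right hm0 ha).symm

/-- A divisor congruent to minus one. -/
theorem divisor_neg {p n m d u : ℕ} (hu : d + 1 = u * p) (hd : 2 ≤ d) (hm0 : 0 < m) (hm : 2 * m < p)
    (hdvd : d ∣ m * (n * p + 1)) (hsmall : m * (n * p + 1) < p ^ 2) : d + 1 = p := by
  obtain ⟨a, ha⟩ := hdvd
  rcases (show u = 0 ∨ u = 1 ∨ 2 ≤ u by omega) with rfl | rfl | h2
  · simp at hu
  · simpa using hu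
  exfalso
  have hbig : 2 * p ≤ d + 1 := hu ▸ Nat.mul_le_mul_right p h2
  obtain ⟨b, hb⟩ : p ∣ a + m := by
    have h3 : (a + m : ℤ) = (p : ℤ) * (u * a - m * n) := by
      have e1 : (d : ℤ) + 1 = u * p := by exact_mod_cast hu
      have e2 : (m : ℤ) * (n * p + 1) = d * a := by exact_mod_cast ha
      linear_combination e2 + (a : ℤ) * e1
    exact Int.natCast_dvd_natCast.1 ⟨_, by exact_mod_cast h3⟩
  have hb1 : 1 ≤ b := by
    rcases Nat.eq_zero_or_pos b with rfl | h
    · simp at hb; omega
    · exact h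
  have ha2 : p + 1 ≤ 2 * a := by
    have := Nat.mul_le_mul_left p hb1
    omega
  nlinarith

variable {G : Type u} [Group G] [Fintype G]

/-- Simplicity and `|G| < p ^ 3` make `P` self-centralizing, if there are at least `2 p + 1` conjugates. -/
theorem centralizer_eq_of_many [IsSimpleGroup G] {p : ℕ} [hpF : Fact p.Prime] (S : Sylow p G)
    (hS : Nat.card (S : Subgroup G) = p) (hbig : Nat.card G < p ^ 3) (hperf : commutator G = ⊤)
    (hne : Subgroup.normalizer ((S : Subgroup G) : Set G) ≠
      Subgroup.centralizer ((S : Subgroup G) : Set G))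
    {n : ℕ} (hn : Nat.card (Sylow p G) = n * p + 1) (hn2 : 2 ≤ n) :
    Subgroup.centralizer ((S : Subgroup G) : Set G) = (S : Subgroup G) := by
  have hp : p.Prime := Fact.out
  obtain ⟨V, e, K, he⟩ := DefOne.exists_conf hp S hS
  haveI : Fintype V := Fintype.ofFinite _
  haveI : Fintype (Subgroup.normalizer ((S : Subgroup G) : Set G)) := Fintype.ofFinite _
  haveI : Fintype ((S : Subgroup G) →* ℂˣ) := Fintype.ofFinite _
  set v := Nat.card V with hv
  have hcC : Nat.card (Subgroup.centralizer ((S : Subgroup G) : Set G)) = p * v :=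
    DefOne.card_centralizer K
  have hle : (S : Subgroup G) ≤ Subgroup.centralizer ((S : Subgroup G) : Set G) := by
    haveI : IsCyclic (S : Subgroup G) := isCyclic_of_prime_card hS
    letI := IsCyclic.commGroup (α := (S : Subgroup G))
    exact fun x hx => Subgroup.mem_centralizer_iff.2 fun t ht =>
      congrArg Subtype.val (mul_comm (⟨t, ht⟩ : (S : Subgroup G)) ⟨x, hx⟩)
  by_contra hcon
  have hv2 : 2 ≤ v := by
    by_contra h
    have hv1 : v = 1 := by have : 0 < v := Nat.card_pos; omega
    exact hcon (Subgroup.eq_of_le_of_card_ge hle (le_of_eq (by rw [hcC, hv1, mul_one, hS]))).symm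
  have hcN : Nat.card (Subgroup.normalizer ((S : Subgroup G) : Set G)) = p * v * e := by
    rw [K.D.hcard, K.hP, ← hv]; ring
  have hG : Nat.card G = p * (e * v * (n * p + 1)) := by
    have h1 := Subgroup.card_mul_index (Subgroup.normalizer ((S : Subgroup G) : Set G))
    have h2 : (Subgroup.normalizer ((S : Subgroup G) : Set G)).index = n * p + 1 :=
      (S.card_eq_index_normalizer).symm.trans hn
    rw [hcN, h2] at h1
    rw [← h1]
    ring
  have he2 : 2 ≤ e := by
    by_contra h
    rcases (show e = 0 ∨ e = 1 by omega) with h0 | h1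
    · rw [h0, mul_zero] at hcN
      exact Nat.card_pos.ne' hcN
    · refine hne (Subgroup.eq_of_le_of_card_ge (Subgroup.centralizer_le_normalizer _)
        (le_of_eq (by rw [hcN, hcC, h1, mul_one]))).symm
  set m := e * v with hm
  have hsmall : m * (n * p + 1) < p ^ 2 := by
    rw [hG, pow_succ' p 2] at hbig
    exact Nat.lt_of_mul_lt_mul_left hbig
  have hm2 : 2 * m < p := by
    by_contra h
    push Not at h
    have h1 : m * (2 * p + 1) ≤ m * (n * p + 1) :=
      Nat.mul_le_mul_left _ (Nat.add_le_add_right (Nat.mul_le_mul_right _ hn2) 1)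
    have h2 : p * p ≤ 2 * m * p := Nat.mul_le_mul_right _ h
    nlinarith
  have hem : e ≤ m := Nat.le_mul_of_pos_right _ (by omega)
  obtain ⟨M, hM⟩ := exists_isPModular_witness p
  haveI : M.IsMaximal := hM.2.1
  obtain ⟨eb, X, Y, δ, sg, F⟩ := DefOne.exists_families K hM (DefOne.trivB V)
  have hee : eb = e := DefOne.eb_triv K F
  have hB := DefOne.principal_eq K hM F
  have hmem : ∀ χ, χ ∈ X ∨ χ ∈ Y → χ ∈ principalBlock M G := fun χ h => by rw [hB]; exact h
  haveI : Nontrivial (S : Subgroup G) :=
    Finite.one_lt_card_iff_nontrivial.1 (by rw [hS]; exact hp.one_lt)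
  obtain ⟨y0, hy0⟩ := exists_ne (1 : (S : Subgroup G))
  have hvX : ∀ χ ∈ X, ∀ y : (S : Subgroup G), y ≠ 1 → (χ : G → ℂ) y = (sg χ : ℂ) := fun χ hχ y hy => by
    rw [← DefOne.phi_principal K hM (hmem χ (Or.inl hχ)) hy, DefOne.Families.phi_X K F hχ hy]
  have hYc : 2 ≤ Y.card := by
    by_contra h
    have hc := F.cardY
    rw [hee] at hc
    have h1 : Y.card * e ≤ 1 * e := Nat.mul_le_mul_right _ (by omega)
    omega
  have hprin : principal G ∈ X := by
    have h : principal G ∈ X ∨ principal G ∈ Y := by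
      have := principal_mem_principalBlock (M := M) (G := G)
      rw [hB] at this
      exact this
    refine h.resolve_right fun h => ?_
    have : Y = {principal G} := Finset.eq_singleton_iff_unique_mem.2 ⟨h, fun θ hθ => by
      obtain ⟨σ, -, rfl⟩ := F.transY _ h θ hθ
      exact Subtype.ext (funext fun g => map_one σ)⟩
    rw [this, Finset.card_singleton] at hYc
    omega
  have hsg1 : sg (principal G) = 1 := by
    have := hvX _ hprin y0 hy0
    simp only [principal] at this
    exact_mod_cast this.symm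
  have hdvd : ∀ χ : IrrCharacter G, ¬ p ∣ charDegree (χ : G → ℂ) →
      charDegree (χ : G → ℂ) ∣ m * (n * p + 1) := fun χ hd => by
    have h := charDegree_dvd_card χ
    rw [hG] at h
    exact ((hp.coprime_iff_not_dvd.2 hd).symm).dvd_of_dvd_mul_left h
  have hdeg : ∀ χ ∈ X.erase (principal G), sg χ = 1 ∧ (χ : G → ℂ) 1 = (n : ℂ) * p + 1 := by
    intro χ hχ
    have hχX := Finset.mem_of_mem_erase hχ
    have hne' := Finset.ne_of_mem_erase hχ
    set d := charDegree (χ : G → ℂ) with hd
    have hmod : (d : ℤ) ≡ sg χ [ZMOD p] := by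
      have h := DefOne.degree_congr K hM (hmem χ (Or.inl hχX))
      rw [DefOne.Families.sum_X K F hχX] at h
      exact h.trans (Int.modEq_iff_dvd.2 ⟨sg χ, by ring⟩)
    have hd2 : 2 ≤ d := by
      by_contra h
      refine hne' (eq_principal_of_deg_one hperf ?_)
      rw [irr_one_eq_charDegree, ← hd, show d = 1 by have := charDegree_pos χ; omega, Nat.cast_one]
    have hnd : ¬ p ∣ d := fun h => by
      have h2 : (p : ℤ) ∣ sg χ := by
        have h3 : (p : ℤ) ∣ (d : ℤ) := Int.natCast_dvd_natCast.2 h
        simpa using dvd_add (Int.modEq_iff_dvd.1 hmod) h3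
      rcases F.signX χ hχX with e | e <;> rw [e] at h2
      · exact hp.not_dvd_one (Int.natCast_dvd_natCast.1 h2)
      · exact hp.not_dvd_one (Int.natCast_dvd_natCast.1 (dvd_neg.1 h2))
    obtain ⟨k, hk⟩ := Int.modEq_iff_dvd.1 hmod
    rcases F.signX χ hχX with es | es
    · refine ⟨es, ?_⟩
      rw [es] at hk
      have hk0 : k < 0 := by
        by_contra hc
        have h1 : (0 : ℤ) ≤ (p : ℤ) * k := mul_nonneg (Nat.cast_nonneg p) (by omega)
        omega
      obtain ⟨u, hu⟩ : ∃ u : ℕ, k = -(u : ℤ) := ⟨k.natAbs, by omega⟩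
      have hdu : d = u * p + 1 := by
        have : (d : ℤ) = ((u * p + 1 : ℕ) : ℤ) := by
          rw [hu] at hk
          push_cast
          linarith
        exact_mod_cast this
      rw [irr_one_eq_charDegree, ← hd,
        divisor_one (by omega) hdu (by omega) (by omega) (hdvd χ hnd) hsmall]
      push_cast
      ring
    · exfalso
      rw [es] at hk
      have hk0 : k < 0 := by
        by_contra hc
        have h1 : (0 : ℤ) ≤ (p : ℤ) * k := mul_nonneg (Nat.cast_nonneg p) (by omega)
        omega
      obtain ⟨u, hu⟩ : ∃ u : ℕ, k = -(u : ℤ) := ⟨k.natAbs, by omega⟩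
      have hdu : d + 1 = u * p := by
        have : ((d + 1 : ℕ) : ℤ) = ((u * p : ℕ) : ℤ) := by
          rw [hu] at hk
          push_cast
          linarith
        exact_mod_cast this
      have hdp := divisor_neg hdu hd2 (by omega) hm2 (hdvd χ hnd) hsmall
      have hdp' : (d : ℂ) + 1 = p := by exact_mod_cast hdp
      -- `V` is in the kernel
      have hVN : V ≤ Subgroup.normalizer ((S : Subgroup G) : Set G) :=
        (DefOne.V_le_centralizer K).trans (Subgroup.centralizer_le_normalizer _)
      have hpz : (p : ℂ) ≠ 0 := Nat.cast_ne_zero.2 hp.ne_zero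
      have hval : ∀ x : V, fixFun (S : Subgroup G) V (χ : G → ℂ) x =
          (p : ℂ)⁻¹ * ((χ : G → ℂ) x - ((p : ℂ) - 1)) := by
        intro x
        rw [fixFun, hS, ← Finset.add_sum_erase _ _ (Finset.mem_univ (1 : (S : Subgroup G)))]
        congr 1
        rw [OneMemClass.coe_one, mul_one,
          Finset.sum_congr rfl (g := fun _ => (-1 : ℂ)) fun y hy => by
            have hy' := Finset.ne_of_mem_erase hy
            rw [(K.D.pv y y.2 x x.2).symm,
              DefOne.section_const K hM (hmem χ (Or.inl hχX)) y.2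
                (fun e => hy' (Subtype.ext e)) x.2, hvX χ hχX y hy', es]
            norm_num,
          Finset.sum_const, Finset.card_erase_of_mem (Finset.mem_univ _), Finset.card_univ,
          ← Nat.card_eq_fintype_card, hS, nsmul_eq_mul, Nat.cast_sub hp.pos, Nat.cast_one]
        ring
      have hzero : fixFun (S : Subgroup G) V (χ : G → ℂ) = 0 := by
        refine IsCharacter.eq_zero_of_one (isCharacter_fixFun _ _ hVN (IsIrrCharacter.isCharacter χ.2)) ?_
        rw [hval, OneMemClass.coe_one, irr_one_eq_charDegree, ← hd]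
        linear_combination (p : ℂ)⁻¹ * hdp'
      haveI : Nontrivial V := Finite.one_lt_card_iff_nontrivial.1 hv2
      obtain ⟨x, hx⟩ := exists_ne (1 : V)
      have hχx : (χ : G → ℂ) x = (χ : G → ℂ) 1 := by
        have h := hval x
        rw [hzero, Pi.zero_apply, eq_comm, mul_eq_zero, inv_eq_zero, or_iff_right hpz, sub_eq_zero] at h
        rw [h, irr_one_eq_charDegree, ← hd]
        linear_combination -hdp'
      obtain ⟨N, hN, hNmem, -⟩ := IsCharacter.exists_kernel (IsIrrCharacter.isCharacter χ.2)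
      rcases hN.eq_bot_or_eq_top with h | h
      · have h1 := (hNmem x).2 hχx
        rw [h, Subgroup.mem_bot] at h1
        exact hx (Subtype.ext h1)
      · have h1 := (hNmem y0).1 (h ▸ Subgroup.mem_top _)
        rw [hvX χ hχX y0 hy0, es, irr_one_eq_charDegree, ← hd] at h1
        push_cast at h1
        have : (((d + 1 : ℕ)) : ℂ) = ((0 : ℕ) : ℂ) := by push_cast; linear_combination -h1
        norm_cast at this
  -- the exceptional degree
  obtain ⟨θ, hθ⟩ := F.nonempty
  have hrel := DefOne.Families.relation K F hθ (g := 1) (by simpa using hp.ne_one)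
  rw [← Finset.add_sum_erase _ _ hprin, hsg1,
    Finset.sum_congr rfl fun χ hχ => by rw [(hdeg χ hχ).1, (hdeg χ hχ).2],
    Finset.sum_const, Finset.card_erase_of_mem hprin, F.cardX, hee, nsmul_eq_mul,
    irr_one_eq_charDegree θ,
    show ((principal G : IrrCharacter G) : G → ℂ) 1 = 1 from rfl] at hrel
  set c := charDegree (θ : G → ℂ) with hc
  have hrelZ : (1 : ℤ) + ((e - 1 : ℕ) : ℤ) * ((n : ℤ) * p + 1) + δ * (c : ℤ) = 0 := by
    have h : (((1 : ℤ) + ((e - 1 : ℕ) : ℤ) * ((n : ℤ) * p + 1) + δ * (c : ℤ) : ℤ) : ℂ) = ((0 : ℤ) : ℂ) := by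
      push_cast at hrel ⊢
      linear_combination hrel
    exact_mod_cast h
  have hceq : c = 1 + (e - 1) * (n * p + 1) := by
    rcases F.sign with h | h <;> rw [h] at hrelZ
    · exfalso
      have : (0 : ℤ) ≤ ((e - 1 : ℕ) : ℤ) * ((n : ℤ) * p + 1) := by positivity
      omega
    · have : ((c : ℕ) : ℤ) = ((1 + (e - 1) * (n * p + 1) : ℕ) : ℤ) := by push_cast; linarith
      exact_mod_cast this
  have hnd : ¬ p ∣ c := by
    intro hd
    have h1 : c = (e - 1) * n * p + e := by
      rw [hceq, mul_add, mul_one, ← mul_assoc]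
      omega
    rw [h1] at hd
    have := Nat.le_of_dvd (by omega) ((Nat.dvd_add_right (dvd_mul_left p _)).1 hd)
    omega
  have hcm : c ∣ m := by
    refine (Nat.Coprime.dvd_of_dvd_mul_right ?_ (hdvd θ hnd))
    rw [hceq]
    exact Nat.coprime_add_mul_right_left 1 (n * p + 1) (e - 1) |>.2 (Nat.coprime_one_left _)
  have h1 := Nat.le_of_dvd (Nat.mul_pos (by omega) (by omega)) hcm
  have h2 : 1 * (n * p + 1) ≤ (e - 1) * (n * p + 1) := Nat.mul_le_mul_right _ (by omega)
  have h3 : 2 * p ≤ n * p := Nat.mul_le_mul_right _ hn2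
  omega

/-- With `p + 1` conjugates the Sylow subgroup is self-centralizing. -/
theorem centralizer_eq_of_few [IsSimpleGroup G] {p : ℕ} [Fact p.Prime] (S : Sylow p G)
    (hS : Nat.card (S : Subgroup G) = p) (hn : Nat.card (Sylow p G) = p + 1) :
    Subgroup.centralizer ((S : Subgroup G) : Set G) = (S : Subgroup G) := by
  have hp : p.Prime := Fact.out
  haveI : Fintype (Sylow p G) := Fintype.ofFinite _
  haveI : IsCyclic (S : Subgroup G) := isCyclic_of_prime_card hS
  set ι := MulAction.toPermHom G (Sylow p G)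
  have hinj : Function.Injective ι := by
    rw [← MonoidHom.ker_eq_bot_iff]
    rcases (MonoidHom.normal_ker ι).eq_bot_or_eq_top with h | h
    · exact h
    exfalso
    have : Subsingleton (Sylow p G) := ⟨fun T T' => by
      obtain ⟨g, rfl⟩ := MulAction.exists_smul_eq G T T'
      have hg : g ∈ ι.ker := by rw [h]; exact Subgroup.mem_top g
      exact (Equiv.congr_fun (MonoidHom.mem_ker.1 hg : ι g = 1) T).symm⟩
    have h1 : Nat.card (Sylow p G) ≤ 1 := Finite.card_le_one_iff_subsingleton.2 this
    have := hp.two_le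
    omega
  refine le_antisymm (fun c hc => ?_) fun x hx => Subgroup.mem_centralizer_iff.2 fun t ht => by
    letI := IsCyclic.commGroup (α := (S : Subgroup G))
    exact congrArg Subtype.val (mul_comm (⟨t, ht⟩ : (S : Subgroup G)) ⟨x, hx⟩)
  -- the orbit of any other Sylow subgroup under `S` is everything else
  haveI : Nontrivial (Sylow p G) := Finite.one_lt_card_iff_nontrivial.1 (by rw [hn]; have := hp.pos; omega)
  obtain ⟨T0, hT0⟩ := exists_ne S
  have hfix : ∀ T : Sylow p G, (∀ y ∈ (S : Subgroup G), y • T = T) → T = S := by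
    intro T hT
    have hle : (S : Subgroup G) ≤ Subgroup.normalizer ((T : Subgroup G) : Set G) := fun y hy =>
      Sylow.smul_eq_iff_mem_normalizer.1 (hT y hy)
    have h1 := S.2.inf_normalizer_sylow T
    change (S : Subgroup G) ⊓ Subgroup.normalizer ((T : Subgroup G) : Set G) = (S : Subgroup G) ⊓ (T : Subgroup G) at h1
    rw [inf_eq_left.2 hle] at h1
    refine Sylow.ext (Subgroup.eq_of_le_of_card_ge (h1.le.trans inf_le_right) (le_of_eq ?_)).symm
    rw [S.card_eq_multiplicity, T.card_eq_multiplicity]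
  have horb : ∀ T : Sylow p G, T ≠ S → ∃ y : (S : Subgroup G), y • T0 = T := by
    intro T hT
    set O := (Finset.univ : Finset (S : Subgroup G)).image fun y => y • T0
    have hOS : S ∉ O := by
      intro h
      obtain ⟨y, -, hy⟩ := Finset.mem_image.1 h
      refine hT0 ?_
      have h1 : (y : (S : Subgroup G))⁻¹ • S = T0 :=
        (congrArg (fun T : Sylow p G => y⁻¹ • T) hy.symm).trans (inv_smul_smul y T0)
      rw [← h1]
      exact Sylow.smul_eq_iff_mem_normalizer.2 (Subgroup.le_normalizer (inv_mem y.2))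
    have hinjO : Function.Injective fun y : (S : Subgroup G) => y • T0 := by
      intro y z hyz
      by_contra hne
      refine hT0 (hfix T0 fun w hw => ?_)
      have hz : (z⁻¹ * y) • T0 = T0 := by
        rw [mul_smul, show y • T0 = z • T0 from hyz, inv_smul_smul]
      obtain ⟨i, hi⟩ := Subgroup.mem_zpowers_iff.1
        (mem_zpowers_of_prime_card hS (g := z⁻¹ * y) (g' := (⟨w, hw⟩ : (S : Subgroup G)))
          fun h => hne (inv_mul_eq_one.1 h).symm)
      have : ((z⁻¹ * y) ^ i) • T0 = T0 :=
        MulAction.mem_stabilizer_iff.1 (Subgroup.zpow_mem _ (MulAction.mem_stabilizer_iff.2 hz) i)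
      rw [hi] at this
      exact this
    have hO : O = Finset.univ.erase S := by
      refine Finset.eq_of_subset_of_card_le
        (fun x hx => Finset.mem_erase.2 ⟨fun h => hOS (h ▸ hx), Finset.mem_univ _⟩) ?_
      rw [Finset.card_erase_of_mem (Finset.mem_univ _), Finset.card_univ, ← Nat.card_eq_fintype_card, hn,
        Finset.card_image_of_injective _ hinjO, Finset.card_univ, ← Nat.card_eq_fintype_card, hS,
        Nat.add_sub_cancel]
    obtain ⟨y, -, hy⟩ := Finset.mem_image.1
      (hO ▸ Finset.mem_erase.2 ⟨hT, Finset.mem_univ T⟩ : T ∈ O)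
    exact ⟨y, hy⟩
  have hcS : c • S = S :=
    Sylow.smul_eq_iff_mem_normalizer.2 (Subgroup.centralizer_le_normalizer _ hc)
  obtain ⟨y, hy⟩ := horb (c • T0) fun h => hT0 (by
    have := congrArg (c⁻¹ • ·) h
    simp only [inv_smul_smul] at this
    rw [this]
    conv_lhs => rw [← hcS]
    rw [inv_smul_smul])
  have hd : ι ((y : G)⁻¹ * c) = 1 := by
    refine Equiv.ext fun T => ?_
    show ((y : G)⁻¹ * c) • T = T
    by_cases hT : T = S
    · subst hT
      rw [mul_smul, hcS]
      exact Sylow.smul_eq_iff_mem_normalizer.2 (Subgroup.le_normalizer (inv_mem y.2))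
    obtain ⟨z, rfl⟩ := horb T hT
    have hcomm : (z : G) * ((y : G)⁻¹ * c) = (y : G)⁻¹ * c * z := by
      letI := IsCyclic.commGroup (α := (S : Subgroup G))
      have h1 : (z : G) * c = c * z := Subgroup.mem_centralizer_iff.1 hc z z.2
      have h2 : (z : G) * (y : G)⁻¹ = (y : G)⁻¹ * z :=
        congrArg Subtype.val (mul_comm z y⁻¹ : z * y⁻¹ = y⁻¹ * z)
      rw [← mul_assoc, h2, mul_assoc, h1, mul_assoc]
    show ((y : G)⁻¹ * c) • ((z : G) • T0) = (z : G) • T0
    rw [← mul_smul, ← hcomm, mul_smul, mul_smul, ← hy]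
    show (z : G) • (y : G)⁻¹ • (y : G) • T0 = (z : G) • T0
    rw [inv_smul_smul]
  have := hinj (hd.trans (map_one ι).symm)
  rw [inv_mul_eq_one] at this
  exact this ▸ y.2

end Cfsg.Agent.SmallN
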