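import Cfsg.Agent.Lib.SmallN.KOneGroup
import Cfsg.Agent.S1230

/-!
The positive case without characters of degree `n p + 1` outside the exceptional ones.
-/

set_option autoImplicit false
set_option linter.style.haveILetI false
set_option linter.unusedSectionVars false

namespace Cfsg.Agent.SmallN

open Cfsg Cfsg.Agent.Char Cfsg.Agent.Blocks Cfsg.Agent.BrauerPairs
open scoped ComplexConjugate Classical

universe u

variable {G : Type u} [Group G]

/-- Two involutions whose product has odd order are conjugate. -/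
theorem isConj_of_odd_product {a b : G} (ha : a * a = 1) (hb : b * b = 1) {m : ℕ}
    (hw : (a * b) ^ (2 * m + 1) = 1) : IsConj a b := by
  refine isConj_iff.2 ⟨(a * b) ^ m, ?_⟩
  have ha' : a⁻¹ = a := inv_eq_of_mul_eq_one_right ha
  have hb' : b⁻¹ = b := inv_eq_of_mul_eq_one_right hb
  have hinv : a * (a * b) * a⁻¹ = (a * b)⁻¹ := by
    rw [mul_inv_rev, hb', ha', ← mul_assoc, ha, one_mul]
  have h1 : a * (a * b) ^ m * a⁻¹ = ((a * b) ^ m)⁻¹ := by
    rw [← conj_pow, hinv, inv_pow]
  have h2 : (a * b) ^ m * a = a * ((a * b) ^ m)⁻¹ := by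
    rw [← h1, ← mul_assoc, ← mul_assoc, ha, one_mul, ha']
  have h3 : ((a * b) ^ m)⁻¹ * ((a * b) ^ m)⁻¹ = a * b := by
    rw [← mul_inv_rev, inv_eq_iff_mul_eq_one, ← pow_add, ← pow_succ, show m + m + 1 = 2 * m + 1 by ring]
    exact hw
  rw [h2, mul_assoc, h3, ← mul_assoc, ha, one_mul]

variable [Fintype G] {p : ℕ} {P Q : Subgroup G} {q n : ℕ} (H : Hyp p P Q q n)

namespace Table.PosData

variable {T : Table (G := G) p P q n} {k : ℕ} (D : T.PosData Q k)
include H D

theorem alpha_zero_basic (hα : T.As.card = 0) :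
    k + 1 = q ∧ 2 ≤ T.Th.card ∧ T.Th.card * k = n + 1 ∧ T.Th.card * q + 1 = p ∧
      T.Th.card * T.c = n * p + 1 ∧ T.c + q = p * k := by
  have he := D.eqn
  rw [hα, zero_mul, zero_add] at he
  rcases D.cases with ⟨-, hk, -, -⟩ | ⟨ht, htk, htq, htc, hck⟩
  · rw [hk] at he
    have := H.two_le
    omega
  · exact ⟨he, ht, htk, htq, htc, hck⟩

theorem not_three_le (hα : T.As.card = 0) (hq : 3 ≤ q) : False := by
  obtain ⟨hk, ht, htk, htq, htc, hck⟩ := PosData.alpha_zero_basic H D hα
  have hA0 : T.As = ∅ := Finset.card_eq_zero.1 hα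
  set t := T.Th.card with htdef
  -- every element of `Q` has the same centralizer order, so all of them are conjugate
  have hC : ∀ x : Q, x ≠ 1 → Nat.card (Subgroup.centralizer ({(x : G)} : Set G)) = p - 1 := by
    intro x hx
    have hE : T.E Q x = -1 := by
      have h := PosData.regular H D x
      rw [if_neg hx, hA0, Finset.sum_empty] at h
      linear_combination h
    have h := (column_orth_of_isConj (IsConj.refl (x : G))).symm.trans (PosData.column H D hx hx)
    rw [hA0, Finset.sum_empty, hE, map_neg, map_one, ← htdef] at h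
    have h2 : Nat.card (Subgroup.centralizer ({(x : G)} : Set G)) = n + 1 + t := by
      have : (Nat.card (Subgroup.centralizer ({(x : G)} : Set G)) : ℂ) = ((n + 1 + t : ℕ) : ℂ) := by
        push_cast; linear_combination h
      exact_mod_cast this
    rw [h2, ← htk, ← Nat.mul_succ, Nat.succ_eq_add_one, hk]
    omega
  have hall : ∀ x y : Q, x ≠ 1 → y ≠ 1 → IsConj (x : G) y := by
    intro x y hx hy
    have h := PosData.centralizer_mul_mates H D hx
    rw [hC x hx, show p - 1 = q * t by rw [mul_comm]; omega, ← htk, mul_assoc] at h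
    have h1 := Nat.eq_of_mul_eq_mul_left (show 0 < q by omega) h
    have h2 : mates x = q - 1 := by
      have := Nat.eq_of_mul_eq_mul_left (show 0 < t by omega) h1
      omega
    have heq : (Finset.univ.filter fun z : Q => z ≠ 1 ∧ IsConj (x : G) z) =
        Finset.univ.erase (1 : Q) := by
      refine Finset.eq_of_subset_of_card_le
        (fun z hz => Finset.mem_erase.2 ⟨(Finset.mem_filter.1 hz).2.1, Finset.mem_univ z⟩) ?_
      rw [Finset.card_erase_of_mem (Finset.mem_univ _), Finset.card_univ, H.card_Q, ← h2]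
      exact le_rfl
    exact (Finset.mem_filter.1 (heq.symm ▸ Finset.mem_erase.2 ⟨hy, Finset.mem_univ y⟩ :
      y ∈ Finset.univ.filter fun z : Q => z ≠ 1 ∧ IsConj (x : G) z)).2.2
  obtain ⟨g0, hg0⟩ := isCyclic_iff_exists_orderOf_eq_natCard.1 H.cyc
  rw [H.cardQ] at hg0
  have hg1 : g0 ≠ 1 := fun e => by rw [e, orderOf_one] at hg0; omega
  have hqodd : Odd q := by
    by_contra he
    obtain ⟨m, hm⟩ := Nat.not_odd_iff_even.1 he
    have hxo : orderOf (g0 ^ m) = 2 := by
      rw [orderOf_pow_of_dvd (by omega) (hg0 ▸ ⟨2, by omega⟩), hg0, hm]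
      exact Nat.div_eq_of_eq_mul_left (by omega) (by ring)
    have hx1 : g0 ^ m ≠ 1 := fun e => by rw [e, orderOf_one] at hxo; omega
    obtain ⟨g, hg⟩ := isConj_iff.1 (hall _ _ hx1 hg1)
    have h1 := congrArg orderOf hg
    rw [show g * ((g0 ^ m : Q) : G) * g⁻¹ = MulAut.conj g ((g0 ^ m : Q) : G) from rfl,
      MulEquiv.orderOf_eq, Subgroup.orderOf_coe, Subgroup.orderOf_coe, hxo, hg0] at h1
    omega
  have hpo : Odd p := H.hp.odd_of_ne_two (by have := H.three; omega)
  have hco : Odd T.c := by
    obtain ⟨m, hm⟩ := hqodd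
    by_contra hc
    have h1 : Odd (T.c + q) := (Nat.not_odd_iff_even.1 hc).add_odd ⟨m, hm⟩
    rw [hck, show k = 2 * m by omega] at h1
    exact (Nat.not_even_iff_odd.2 h1) ((even_two_mul m).mul_left p)
  -- a Sylow `2`-subgroup of `G` centralizes the generator
  haveI : Fact (Nat.Prime 2) := ⟨Nat.prime_two⟩
  set C := Subgroup.centralizer ({(g0 : G)} : Set G) with hCdef
  obtain ⟨S0⟩ : Nonempty (Sylow 2 C) := inferInstance
  have hG : Nat.card G = (p - 1) * (p * T.c) := by
    rw [H.cardG, ← htc, show p - 1 = t * q by omega]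
    ring
  have hodd2 : Odd (p * T.c) := hpo.mul hco
  have hS0 : Nat.card ((S0 : Subgroup C).map C.subtype) = 2 ^ (Nat.card G).factorization 2 := by
    have h3 := H.three
    rw [Subgroup.card_map_of_injective C.subtype_injective, S0.card_eq_multiplicity, hC g0 hg1, hG,
      Nat.factorization_mul (by omega) (fun e => Nat.not_odd_zero (e ▸ hodd2)), Finsupp.add_apply,
      Nat.factorization_eq_zero_of_not_dvd (n := p * T.c)
        (fun h2 => (Nat.not_even_iff_odd.2 hodd2) (even_iff_two_dvd.2 h2)), add_zero]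
  have hg2 : (g0 : G) ^ 2 ≠ 1 := fun e => by
    have h1 : orderOf (g0 : G) ∣ 2 := orderOf_dvd_of_pow_eq_one e
    rw [Subgroup.orderOf_coe, hg0] at h1
    have := Nat.le_of_dvd (by norm_num) h1
    omega
  obtain ⟨g, hg⟩ := isConj_iff.1 (hall g0 g0⁻¹ hg1 (inv_ne_one.2 hg1))
  refine not_inverted (Sylow.ofCard _ hS0) ?_ hg2 (g := g) hg
  intro s hs
  obtain ⟨y, -, rfl⟩ := hs
  exact Subgroup.mem_centralizer_singleton_iff.1 y.2

/-- For `q = 2`, all involutions are conjugate and their centralizers have exponent `2`. -/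
theorem two_case (hα : T.As.card = 0) (hq : q = 2) :
    ∃ (m : ℕ) (F : Type) (_ : Field F) (_ : Fintype F), Fintype.card F = 2 ^ m ∧ p = 2 ^ m + 1 ∧
      Nonempty (G ≃* Matrix.ProjectiveSpecialLinearGroup (Fin 2) F) := by
  obtain ⟨hk, ht, htk, htq, htc, hck⟩ := PosData.alpha_zero_basic H D hα
  subst hq
  obtain rfl : k = 1 := by omega
  rw [mul_one] at htk hck
  set t := T.Th.card with htdef
  have hA0 : T.As = ∅ := Finset.card_eq_zero.1 hα
  obtain ⟨B, hB⟩ : ∃ B, T.Bs = {B} := by
    refine Finset.card_eq_one.1 ?_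
    rcases T.count with ⟨hT, -⟩ | ⟨-, -, hab, -⟩
    · rw [htdef, hT, Finset.card_empty] at ht; omega
    · omega
  have hodd : ∃ m, p = 2 * m + 1 := ⟨t, by omega⟩
  have hp2 : ¬ p ∣ 2 := fun h => by have := Nat.le_of_dvd (by norm_num) h; have := H.three; omega
  have hgcard : Nat.card G = p * (p - 1) * T.c := by
    rw [H.cardG, ← htc, show p - 1 = t * 2 by omega]
    ring
  have hc0 : 0 < T.c := by
    rcases Nat.eq_zero_or_pos T.c with h | h
    · rw [h, mul_zero] at htc; omega
    · exact h
  have htC : (2 : ℂ) * (t : ℂ) = (p : ℂ) - 1 := by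
    rw [eq_sub_iff_add_eq]; exact_mod_cast (show 2 * t + 1 = p by omega)
  have hnC : (n : ℂ) + 1 = t := by exact_mod_cast htk.symm
  have hcC : (T.c : ℂ) + 2 = p := by exact_mod_cast hck
  -- the involution of `Q`
  obtain ⟨x, hx⟩ : ∃ x : Q, x ≠ 1 := by
    haveI : Nontrivial Q := Finite.one_lt_card_iff_nontrivial.1 (by rw [H.cardQ]; norm_num)
    exact exists_ne 1
  have hxo : orderOf (x : G) = 2 := by
    rw [Subgroup.orderOf_coe]
    have h := orderOf_dvd_natCard x
    rw [H.cardQ, Nat.dvd_prime Nat.prime_two, orderOf_eq_one_iff] at h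
    exact h.resolve_left hx
  have hxx : (x : G) * x = 1 := by rw [← pow_two, ← hxo]; exact pow_orderOf_eq_one _
  have hxreg : ¬ p ∣ orderOf (x : G) := hxo ▸ hp2
  have hE : T.E Q x = -1 := by
    have h := PosData.regular H D x
    rw [if_neg hx, hA0, Finset.sum_empty] at h
    linear_combination h
  have hTi : ∀ θ ∈ T.Th, (θ : G → ℂ) x = -1 := fun θ hθ => by
    rw [← H.irr_fix_apply θ hx, T.fix_T H hθ, hE]
  have hBi : (B : G → ℂ) x = 0 := T.B_vanish H (by rw [hB]; exact Finset.mem_singleton_self B) hx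
  have hCi : Nat.card (Subgroup.centralizer ({(x : G)} : Set G)) = p - 1 := by
    have h := (column_orth_of_isConj (IsConj.refl (x : G))).symm.trans (PosData.column H D hx hx)
    rw [hA0, Finset.sum_empty, hE, map_neg, map_one, ← htdef, hnC] at h
    have h2 : Nat.card (Subgroup.centralizer ({(x : G)} : Set G)) = 2 * t := by
      have : (Nat.card (Subgroup.centralizer ({(x : G)} : Set G)) : ℂ) = ((2 * t : ℕ) : ℂ) := by
        push_cast; linear_combination h
      exact_mod_cast this
    omega
  -- all involutions are conjugate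
  have hconj : ∀ u : G, orderOf u = 2 → IsConj (x : G) u := by
    intro u hu
    by_contra hnc
    have huu : u * u = 1 := by rw [← pow_two, ← hu]; exact pow_orderOf_eq_one _
    have hureg : ¬ p ∣ orderOf u := hu ▸ hp2
    have heq : ∀ y ∈ P, y ≠ 1 →
        1 - T.ex u / T.c * ∑ θ ∈ T.Th, conj ((θ : G → ℂ) y) = 0 := by
      intro y hy hy1
      have h := sum_triple_eq_zero (x : G) u y (by
        intro a b ha hb hab
        refine hnc (ha.trans ((isConj_of_odd_product (m := hodd.choose) ?_ ?_ ?_).trans hb.symm))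
        · obtain ⟨g, hg⟩ := isConj_iff.1 ha
          rw [← hg, conj_mul, hxx]; group
        · obtain ⟨g, hg⟩ := isConj_iff.1 hb
          rw [← hg, conj_mul, huu]; group
        · obtain ⟨g, hg⟩ := isConj_iff.1 hab.symm
          rw [← hodd.choose_spec, ← hg, conj_pow,
            show y ^ p = 1 by
              rw [← orderOf_dvd_iff_pow_eq_one, ← H.cardP]; exact Subgroup.orderOf_dvd_natCard P hy]
          group)
      rw [T.sum_split H, hA0, Finset.sum_empty, hB, Finset.sum_singleton, hBi, zero_mul, zero_mul,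
        zero_div, Finset.sum_eq_zero (s := Zs (p := p)) fun χ hχ => by
          rw [T.valZ χ (Finset.mem_filter.1 hχ).2 y hy hy1, map_zero, mul_zero, zero_div],
        show ((principal G : IrrCharacter G) : G → ℂ) x = 1 from rfl,
        show ((principal G : IrrCharacter G) : G → ℂ) u = 1 from rfl,
        show ((principal G : IrrCharacter G) : G → ℂ) y = 1 from rfl,
        show ((principal G : IrrCharacter G) : G → ℂ) 1 = 1 from rfl,
        Finset.sum_congr (s₁ := T.Th) rfl (g := fun θ => -(T.ex u / T.c) * conj ((θ : G → ℂ) y))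
          fun θ hθ => by rw [hTi θ hθ, T.agree θ hθ u hureg, T.deg_T H hθ]; ring,
        ← Finset.mul_sum, map_one] at h
      linear_combination h
    -- sum over `P`
    have hsum : ∑ y ∈ Finset.univ.erase (1 : P),
        (1 - T.ex u / T.c * ∑ θ ∈ T.Th, conj ((θ : G → ℂ) y)) = 0 :=
      Finset.sum_eq_zero fun y hy =>
        heq y y.2 fun e => Finset.ne_of_mem_erase hy (Subtype.ext e)
    have hθ : ∀ θ ∈ T.Th, ∑ y ∈ Finset.univ.erase (1 : P), conj ((θ : G → ℂ) y) = 2 := by
      intro θ hθ
      rw [← map_sum, eq_sub_of_add_eq (Finset.sum_erase_add Finset.univ (fun y : P => (θ : G → ℂ) y)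
        (Finset.mem_univ 1)), T.sumT θ hθ, OneMemClass.coe_one, T.deg_T H hθ, D.sign]
      simp [map_ofNat]
    rw [Finset.sum_sub_distrib, Finset.sum_const, Finset.card_erase_of_mem (Finset.mem_univ _),
      Finset.card_univ, ← Nat.card_eq_fintype_card, H.cardP, ← Finset.mul_sum, Finset.sum_comm,
      Finset.sum_congr rfl hθ, Finset.sum_const, nsmul_eq_mul, nsmul_eq_mul, ← htdef,
      Nat.cast_sub H.hp.pos, Nat.cast_one, ← htC] at hsum
    have hcz : (T.c : ℂ) ≠ 0 := Nat.cast_ne_zero.2 (by omega)
    have hex : T.ex u = T.c := by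
      field_simp at hsum
      have htz : (t : ℂ) ≠ 0 := Nat.cast_ne_zero.2 (by omega)
      refine mul_left_cancel₀ htz ?_
      linear_combination (-1 / 2 : ℂ) * hsum
    obtain ⟨θ, hθm⟩ := Finset.card_pos.1 (show 0 < T.Th.card by omega)
    refine absurd (H.eq_one_of_kernel (χ := θ) ?_ (g := u) ?_) fun e => ?_
    · by_contra hcon
      push Not at hcon
      have h1 := T.sumT θ hθm
      rw [Finset.sum_congr rfl fun (y : P) _ => hcon y y.2, Finset.sum_const, Finset.card_univ,
        ← Nat.card_eq_fintype_card, H.cardP, T.deg_T H hθm, D.sign, nsmul_eq_mul] at h1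
      push_cast at h1
      rw [← hcC] at h1
      have h2 : ((T.c + 2) * T.c : ℕ) = T.c + 2 := by
        have : (((T.c + 2) * T.c : ℕ) : ℂ) = ((T.c + 2 : ℕ) : ℂ) := by
          push_cast; linear_combination h1
        exact_mod_cast this
      have := H.three
      nlinarith
    · rw [T.agree θ hθm u hureg, hex, T.deg_T H hθm]
    · rw [e, orderOf_one] at hu; omega
  -- the centralizer of `x` has exponent two
  have hexp : ∀ z ∈ Subgroup.centralizer ({(x : G)} : Set G), z ^ 2 = 1 := by
    suffices h : ∀ z ∈ Subgroup.centralizer ({(x : G)} : Set G), Even (orderOf z) → z ^ 2 = 1 by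
      intro z hz
      rcases Nat.even_or_odd (orderOf z) with he | ho
      · exact h z hz he
      · have hc : Commute (x : G) z := (Subgroup.mem_centralizer_singleton_iff.1 hz).symm
        have hord : orderOf ((x : G) * z) = 2 * orderOf z := by
          rw [hc.orderOf_mul_eq_mul_orderOf_of_coprime, hxo]
          rw [hxo]
          exact Nat.coprime_two_left.2 ho
        have h1 := h ((x : G) * z) (Subgroup.mul_mem _ (Subgroup.mem_centralizer_singleton_iff.2 rfl) hz)
          ⟨orderOf z, by rw [hord]; ring⟩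
        rwa [hc.mul_pow, pow_two (x : G), hxx, one_mul] at h1
    intro z hz heven
    by_contra hz2
    have hd : orderOf z ∣ p - 1 := hCi ▸ Subgroup.orderOf_dvd_natCard _ hz
    have hzreg : ¬ p ∣ orderOf z := fun h => by
      have := Nat.le_of_dvd (by have := H.three; omega) (h.trans hd)
      have := H.three
      omega
    have hnc : ¬ IsConj (x : G) z := fun h => by
      obtain ⟨g, hg⟩ := isConj_iff.1 h
      refine hz2 ?_
      rw [← hg, conj_pow, pow_two (x : G), hxx]; group
    set Θ := conj (T.ex z) with hΘ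
    set S := ∑ χ ∈ Zs (G := G) (p := p), (zd p χ : ℂ) * conj ((χ : G → ℂ) z) with hS
    have hrel : 1 - conj ((B : G → ℂ) z) + Θ = 0 := by
      have h := congrArg conj (T.relation z hzreg)
      rw [hA0, Finset.sum_empty, hB, Finset.sum_singleton, D.sign, Int.cast_one, one_mul] at h
      simp only [map_add, map_sub, map_one, map_zero, add_zero] at h
      exact h
    have hcol : 1 - (t : ℂ) * Θ + S = 0 := by
      have h := column_orth_of_not_isConj hnc
      rw [T.sum_split H, hA0, Finset.sum_empty, hB, Finset.sum_singleton, hBi, zero_mul,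
        show ((principal G : IrrCharacter G) : G → ℂ) x = 1 from rfl,
        show ((principal G : IrrCharacter G) : G → ℂ) z = 1 from rfl,
        Finset.sum_congr (s₁ := T.Th) rfl (g := fun _ => -Θ)
          fun θ hθ => by rw [hTi θ hθ, T.agree θ hθ z hzreg, hΘ]; ring,
        Finset.sum_congr (s₁ := Zs (G := G) (p := p)) rfl
          (g := fun χ => (zd p χ : ℂ) * conj ((χ : G → ℂ) z))
          fun χ hχ => by rw [PosData.Z_apply H D hχ hx],
        Finset.sum_const, nsmul_eq_mul, map_one, ← htdef, ← hS] at h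
      linear_combination h
    have hN := pairsCount_eq (x : G) z
    have hidx : (Subgroup.centralizer ({(x : G)} : Set G)).index = p * T.c := by
      have h := (Subgroup.centralizer ({(x : G)} : Set G)).card_mul_index
      rw [hCi, hgcard, show p * (p - 1) * T.c = (p - 1) * (p * T.c) by ring] at h
      exact Nat.eq_of_mul_eq_mul_left (by have := H.three; omega) h
    rw [hidx, hgcard, T.sum_split H, hA0, Finset.sum_empty, hB, Finset.sum_singleton, hBi,
      show ((principal G : IrrCharacter G) : G → ℂ) x = 1 from rfl,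
      show ((principal G : IrrCharacter G) : G → ℂ) z = 1 from rfl,
      show ((principal G : IrrCharacter G) : G → ℂ) 1 = 1 from rfl,
      Finset.sum_congr (s₁ := T.Th) rfl (g := fun _ => Θ / T.c)
        fun θ hθ => by rw [hTi θ hθ, T.agree θ hθ z hzreg, T.deg_T H hθ, hΘ]; ring,
      Finset.sum_congr (s₁ := Zs (G := G) (p := p)) rfl
        (g := fun χ => (zd p χ : ℂ) * conj ((χ : G → ℂ) z) * (p : ℂ)⁻¹) fun χ hχ => by
          rw [PosData.Z_apply H D hχ hx, (T.zd_spec H hχ).1]
          have : (zd p χ : ℂ) ≠ 0 := Nat.cast_ne_zero.2 (T.zd_spec H hχ).2.2.ne'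
          field_simp,
      Finset.sum_const, nsmul_eq_mul, map_one, ← htdef, ← Finset.sum_mul, ← hS] at hN
    push_cast [Nat.cast_sub (show 1 ≤ p from H.hp.pos)] at hN
    simp only [zero_pow (show 2 ≠ 0 by norm_num), zero_mul, zero_div, add_zero, one_pow, mul_one,
      div_one] at hN
    have hcz : (T.c : ℂ) ≠ 0 := Nat.cast_ne_zero.2 (by omega)
    have hpz := H.p_ne_zero
    have htz : (t : ℂ) ≠ 0 := Nat.cast_ne_zero.2 (by omega)
    set N := pairsCount (x : G) z with hNdef
    have hval : conj ((B : G → ℂ) z) = ((N + 1 : ℕ) : ℂ) / ((p - 1 : ℕ) : ℂ) := by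
      push_cast [Nat.cast_sub (show 1 ≤ p from H.hp.pos)]
      rw [← htC] at hN ⊢
      rw [eq_div_iff (mul_ne_zero (by norm_num) htz)]
      field_simp at hN
      refine mul_left_cancel₀ (mul_ne_zero (by norm_num : (2 : ℂ) ≠ 0) htz) ?_
      linear_combination -4 * (t : ℂ) ^ 2 * hrel - hN - (T.c : ℂ) * hcol +
        (2 * (t : ℂ) - 1 + ((p : ℂ) - 1) + 2 * t * Θ) * htC - (((p : ℂ) - 1) + t * Θ) * hcC
    have hint : IsIntegral ℤ (((N + 1 : ℕ) : ℂ) / ((p - 1 : ℕ) : ℂ)) := by
      rw [← hval]
      exact Char.IsCharacter.isIntegral (IsCharacter.conj (IsIrrCharacter.isCharacter B.2)) z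
    have hdvd := Nat.le_of_dvd (by omega) (dvd_of_isIntegral_div (by have := H.three; omega) hint)
    obtain ⟨m, hm⟩ := heven
    set s := z ^ m with hsdef
    have hso : orderOf s = 2 := by
      have hm0 : m ≠ 0 := fun h => by
        have := orderOf_pos z
        omega
      rw [hsdef, orderOf_pow_of_dvd hm0 ⟨2, by omega⟩, hm,
        Nat.div_eq_of_eq_mul_left (Nat.pos_of_ne_zero hm0) (show m + m = 2 * m by ring)]
    have hCs : Nat.card (Subgroup.centralizer ({s} : Set G)) = p - 1 := by
      have h1 := column_orth_of_isConj (hconj s hso)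
      obtain ⟨g, hg⟩ := isConj_iff.1 (hconj s hso)
      rw [← hCi, ← hg]
      refine (Nat.card_congr ?_).symm
      exact Equiv.subtypeEquiv (MulAut.conj g).toEquiv fun c => mem_centralizer_conj.symm
    have hNle : N + 2 ≤ p - 1 := by
      rw [← hCs, Nat.card_eq_fintype_card, ← Finset.card_univ,
        ← Finset.card_map (Function.Embedding.subtype _), hNdef, pairsCount]
      have hsne : s ≠ 1 := fun h => by rw [h, orderOf_one] at hso; omega
      rw [← Finset.card_pair hsne, ← Finset.card_union_of_disjoint]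
      · refine Finset.card_le_card fun a ha => Finset.mem_map.2 ?_
        suffices a ∈ Subgroup.centralizer ({s} : Set G) from ⟨⟨a, this⟩, Finset.mem_univ _, rfl⟩
        rcases Finset.mem_union.1 ha with h | h
        · simp only [Finset.mem_filter, Finset.mem_univ, true_and] at h
          obtain ⟨g, hg⟩ := isConj_iff.1 h.1
          obtain ⟨g', hg'⟩ := isConj_iff.1 h.2
          have haa : a * a = 1 := by rw [← hg, conj_mul, hxx]; group
          have hbb : (a⁻¹ * z) * (a⁻¹ * z) = 1 := by rw [← hg', conj_mul, hxx]; group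
          have hinv : a * z * a⁻¹ = z⁻¹ := by
            rw [inv_eq_of_mul_eq_one_right haa] at hbb ⊢
            exact eq_inv_of_mul_eq_one_left (by simpa [mul_assoc] using hbb)
          have h1 : a * s * a⁻¹ = s := by
            rw [hsdef, ← conj_pow, hinv, inv_pow, ← hsdef]
            exact inv_eq_of_mul_eq_one_right (by rw [← pow_two, ← hso]; exact pow_orderOf_eq_one _)
          exact Subgroup.mem_centralizer_singleton_iff.2 (mul_inv_eq_iff_eq_mul.1 h1)
        · rcases Finset.mem_insert.1 h with rfl | h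
          · exact Subgroup.mem_centralizer_singleton_iff.2 rfl
          · rw [Finset.mem_singleton.1 h]; exact one_mem _
      · refine Finset.disjoint_left.2 fun a ha h => ?_
        simp only [Finset.mem_filter, Finset.mem_univ, true_and] at ha
        rcases Finset.mem_insert.1 h with rfl | h
        · obtain ⟨g', hg'⟩ := isConj_iff.1 ha.2
          have hbb : (s⁻¹ * z) * (s⁻¹ * z) = 1 := by rw [← hg', conj_mul, hxx]; group
          have hc : Commute s⁻¹ z := ((Commute.refl z).pow_left m).inv_left
          rw [← pow_two, hc.mul_pow, inv_pow, ← hso, pow_orderOf_eq_one, inv_one, one_mul, hso] at hbb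
          exact hz2 hbb
        · rw [Finset.mem_singleton.1 h] at ha
          obtain ⟨g, hg⟩ := isConj_iff.1 ha.1
          exact hx (Subtype.ext (conj_eq_one_iff.1 hg))
    omega
  -- recognition
  set Cx := Subgroup.centralizer ({(x : G)} : Set G) with hCx
  have hC2 : IsPGroup 2 Cx := fun z => ⟨1, Subtype.ext (by simpa using hexp z z.2)⟩
  haveI : Fact (Nat.Prime 2) := ⟨Nat.prime_two⟩
  obtain ⟨m, hm⟩ := IsPGroup.iff_card.1 hC2
  have hidx : ¬ 2 ∣ Cx.index := by
    have h := Cx.card_mul_index
    rw [hCi, hgcard, show p * (p - 1) * T.c = (p - 1) * (p * T.c) by ring] at h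
    rw [Nat.eq_of_mul_eq_mul_left (by have := H.three; omega) h, Nat.prime_two.dvd_mul]
    omega
  let S2 : Sylow 2 G := hC2.toSylow hidx
  have hS2 : (S2 : Subgroup G) = Cx := rfl
  have hcomm : ∀ (t : G), orderOf t = 2 → IsMulCommutative (Subgroup.centralizer ({t} : Set G)) ∧
      ∀ c ∈ Subgroup.centralizer ({t} : Set G), c ^ 2 = 1 := by
    intro t ht
    obtain ⟨g, hg⟩ := isConj_iff.1 (hconj t ht)
    have hc2 : ∀ c ∈ Subgroup.centralizer ({t} : Set G), c ^ 2 = 1 := by
      intro c hc
      rw [← hg, show c = g * (g⁻¹ * c * g) * g⁻¹ by group, mem_centralizer_conj] at hc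
      have := hexp _ hc
      rw [show c = g * (g⁻¹ * c * g) * g⁻¹ by group, conj_pow, this]
      group
    refine ⟨⟨⟨fun a b => ?_⟩⟩, hc2⟩
    have hinv : ∀ a : Subgroup.centralizer ({t} : Set G), a⁻¹ = a := fun a =>
      inv_eq_of_mul_eq_one_right (Subtype.ext (by rw [Subgroup.coe_mul, ← pow_two]; exact hc2 a a.2))
    calc a * b = (a * b)⁻¹ := (hinv _).symm
      _ = b * a := by rw [mul_inv_rev, hinv, hinv]
  have hnc : ¬ IsCyclic (S2 : Subgroup G) := by
    intro hcyc
    obtain ⟨g, hg⟩ := (isCyclic_iff_exists_orderOf_eq_natCard).1 hcyc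
    have h1 : orderOf g ∣ 2 := orderOf_dvd_of_pow_eq_one (Subtype.ext (by
      rw [Subgroup.coe_pow]; exact hexp g g.2))
    rw [hg, hS2, hCi] at h1
    have := Nat.le_of_dvd (by norm_num) h1
    have := H.three
    omega
  have hnn : ¬ (S2 : Subgroup G).Normal := by
    intro hn
    have hle := H.le_of_normal hn fun h => by
      rw [hS2] at h
      rw [h, Subgroup.card_bot] at hCi
      have := H.three
      omega
    have h1 := Subgroup.card_dvd_of_le hle
    rw [H.cardP, hS2, hCi] at h1
    have := Nat.le_of_dvd (by have := H.three; omega) h1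
    have := H.three
    omega
  obtain ⟨F, iF, iT, hF, hiso⟩ := Cfsg.Agent.S1230.result S2 hnc hnn hcomm
  rw [hS2, hm] at hF
  rw [hm] at hCi
  exact ⟨m, F, iF, iT, hF, by have := H.three; omega, hiso⟩

end Table.PosData

end Cfsg.Agent.SmallN
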