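import Cfsg.Agent.Lib.SmallN.KOneGroup

/-!
A linear exceptional fixed part forces at most two exceptional characters.
-/

set_option autoImplicit false
set_option linter.style.haveILetI false
set_option linter.unusedSectionVars false

namespace Cfsg.Agent.SmallN

open Cfsg Cfsg.Agent.Char Cfsg.Agent.Blocks Cfsg.Agent.BrauerPairs
open scoped ComplexConjugate Classical

universe u

variable {G : Type u} [Group G] [Fintype G] {p : ℕ} {P Q : Subgroup G} {q n : ℕ}
  (H : Hyp p P Q q n)

/-- The final numerical contradiction. -/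
theorem k_one_arith {a t q c p C : ℕ} (ht : 4 ≤ t) (ha : 2 ≤ a) (hq : q = a * t + 2)
    (hp : t * q + 1 = p) (hc : c + q = p) (hC : C ≤ 2 * t * c)
    (h : p ^ 2 ≤ (t - 1) * C ∨ c ^ 2 ≤ (a + 1) * C) : False := by
  subst hq hp
  rcases h with h | h
  · have h1 : (t * (a * t + 2) + 1) ^ 2 ≤ 2 * t * t * (t * (a * t + 2) + 1) :=
      calc (t * (a * t + 2) + 1) ^ 2 ≤ (t - 1) * C := h
        _ ≤ t * (2 * t * c) := Nat.mul_le_mul (Nat.sub_le t 1) hC
        _ ≤ t * (2 * t * (t * (a * t + 2) + 1)) :=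
            Nat.mul_le_mul_left _ (Nat.mul_le_mul_left _ (by omega))
        _ = _ := by ring
    rw [pow_two] at h1
    have h2 := Nat.le_of_mul_le_mul_right h1 (Nat.succ_pos _)
    have h3 : 2 * (t * t) ≤ a * (t * t) := Nat.mul_le_mul_right _ ha
    nlinarith
  · rcases Nat.eq_zero_or_pos c with rfl | hc0
    · have h4 : 4 * (a * t + 2) ≤ t * (a * t + 2) := Nat.mul_le_mul_right _ ht
      omega
    have h1 : c * c ≤ (a + 1) * (2 * t) * c := by
      rw [← pow_two]
      exact h.trans ((Nat.mul_le_mul_left _ hC).trans (le_of_eq (by ring)))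
    have h2 := Nat.le_of_mul_le_mul_right h1 hc0
    have h4 : 4 * (a * t + 2) ≤ t * (a * t + 2) := Nat.mul_le_mul_right _ ht
    have h5 : 2 * t ≤ a * t := Nat.mul_le_mul_right _ ha
    have h6 : (a + 1) * (2 * t) = 2 * (a * t) + 2 * t := by ring
    omega

namespace Table.PosData

variable {T : Table (G := G) p P q n} (D : T.PosData Q 1)
include H D

theorem k_one_c : 2 ≤ T.Th.card ∧ T.Th.card = n + 1 ∧ T.Th.card * q + 1 = p ∧
    T.Th.card * T.c = n * p + 1 ∧ T.c + q = p := by
  rcases D.cases with ⟨-, h, -⟩ | ⟨ht, htk, htq, htc, hck⟩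
  · exact absurd h one_ne_zero
  · exact ⟨ht, by omega, htq, htc, by rw [hck, mul_one]⟩

/-- The exceptional fixed part is a real linear character, so `Q` has an involution. -/
theorem k_one_linear : ∃ f : Q →* ℂˣ, (∀ x, T.E Q x = (f x : ℂ)) ∧ (∀ x, f x = 1 ∨ f x = -1) ∧
    2 ∣ q := by
  obtain ⟨ht, -, htq, htc, hck⟩ := PosData.k_one_c H D
  obtain ⟨θ, hθ⟩ := Finset.card_pos.1 (show 0 < T.Th.card by omega)
  have hcθ : charDegree (θ : G → ℂ) = T.c := by
    have h := T.deg_T H hθ
    rw [irr_one_eq_charDegree] at h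
    exact_mod_cast h
  have hp5 := H.three
  have hq2 := H.two_le
  have hbig : 2 * q ≤ T.Th.card * q := Nat.mul_le_mul_right _ ht
  have hθ' : conjIrr θ ∈ T.Th := by
    have hd := (charDegree_conjIrr θ).trans hcθ
    rcases T.cover (conjIrr θ) with h | h | h | h | h
    · rw [h, show charDegree (principal G : G → ℂ) = 1 from Cfsg.Agent.CharX.charDegree_one] at hd
      omega
    · have h1 := T.degA _ h
      rw [irr_one_eq_charDegree, hd] at h1
      have h2 : T.c = n * p + 1 := by exact_mod_cast h1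
      rw [← h2] at htc
      have h3 : 2 * T.c ≤ T.Th.card * T.c := Nat.mul_le_mul_right _ ht
      omega
    · have h1 := T.degB _ h
      rw [irr_one_eq_charDegree, hd, eq_sub_iff_add_eq] at h1
      have h2 : T.c + 1 = p := by exact_mod_cast h1
      omega
    · exact h
    · rw [hd] at h
      have := Nat.le_of_dvd (by omega) h
      omega
  have hreal : ∀ x : Q, conj (T.E Q x) = T.E Q x := by
    intro x
    by_cases hx : x = 1
    · subst hx
      rw [D.E_one, map_natCast]
    · rw [T.E_apply H hx, ← T.T_apply H hθ x, ← conjIrr_apply, T.T_apply H hθ' x, T.T_apply H hθ x]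
  obtain ⟨f, hf⟩ := exists_hom_of_degree_one (T.E_char H (Q := Q)) (by rw [D.E_one, Nat.cast_one])
  have hE : ∀ x, T.E Q x = (f x : ℂ) := congrFun hf
  have hpm : ∀ x, f x = 1 ∨ f x = -1 := by
    intro x
    have h1 : ((f x : ℂˣ) : ℂ) ^ orderOf x = 1 := by
      rw [← Units.val_pow_eq_pow_val, ← map_pow, pow_orderOf_eq_one, map_one, Units.val_one]
    have h2 := norm_eq_one_of_pow (orderOf_pos x).ne' h1
    have h3 : ((f x : ℂˣ) : ℂ) * (f x : ℂ) = 1 := by
      nth_rw 2 [← hE]
      rw [← hreal, hE, Complex.mul_conj, Complex.normSq_eq_norm_sq, h2, one_pow, Complex.ofReal_one]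
    rcases mul_self_eq_one_iff.1 h3 with h | h
    · exact Or.inl (Units.ext h)
    · exact Or.inr (Units.ext (by rw [Units.val_neg, Units.val_one, h]))
  refine ⟨f, hE, hpm, ?_⟩
  by_contra hodd
  have hall : ∀ x, f x = 1 := fun x => (hpm x).resolve_right fun e => by
    have h1 : ((f x : ℂˣ) : ℂ) ^ q = 1 := by
      rw [← Units.val_pow_eq_pow_val, ← map_pow,
        show x ^ q = 1 by rw [← H.cardQ]; exact pow_card_eq_one', map_one, Units.val_one]
    rw [e, Units.val_neg, Units.val_one,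
      (Nat.not_even_iff_odd.1 fun he => hodd (even_iff_two_dvd.1 he)).neg_one_pow] at h1
    norm_num at h1
  have h := PosData.sum_E H D
  simp [hE, hall, H.card_Q] at h
  omega

/-- Two conjugates of the involution and the relations at an element of its centralizer. -/
theorem k_one_identity (hs : 0 < T.As.card) {i : Q} (hi : i ≠ 1) (hEi : T.E Q i * T.E Q i = 1)
    (hAi : ∀ χ ∈ T.As, (χ : G → ℂ) i ^ 2 = (T.Th.card : ℂ) ^ 2) {y : G}
    (hyreg : ¬ p ∣ orderOf y) (hno : ∀ g : G, g * y * g⁻¹ ≠ y⁻¹) (hi2 : (i : G) * i = 1)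
    {θ : IrrCharacter G} (hθ : θ ∈ T.Th) :
    1 + (T.Th.card : ℂ) * (∑ χ ∈ insert θ T.As, (χ : G → ℂ) y) / T.c +
      (∑ χ ∈ Zs (G := G) (p := p), (zd p χ : ℂ) * (χ : G → ℂ) y) / p = 0 := by
  obtain ⟨ht, -, htq, htc, hck⟩ := PosData.k_one_c H D
  have hN0 : pairsCount (i : G) y = 0 := by
    rw [pairsCount, Finset.card_eq_zero, Finset.filter_eq_empty_iff]
    rintro a - ⟨h1, h2⟩
    obtain ⟨g, hg⟩ := isConj_iff.1 h1
    obtain ⟨g', hg'⟩ := isConj_iff.1 h2
    have haa : a * a = 1 := by rw [← hg, conj_mul, hi2]; group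
    have hbb : (a⁻¹ * y) * (a⁻¹ * y) = 1 := by rw [← hg', conj_mul, hi2]; group
    refine hno a ?_
    rw [inv_eq_of_mul_eq_one_right haa] at hbb ⊢
    exact eq_inv_of_mul_eq_one_left (by simpa [mul_assoc] using hbb)
  have h := pairsCount_eq (i : G) y
  rw [hN0, Nat.cast_zero, mul_zero, eq_comm, mul_eq_zero,
    or_iff_right (pow_ne_zero 2 (Nat.cast_ne_zero.2
      (Subgroup.centralizer ({(i : G)} : Set G)).index_ne_zero_of_finite))] at h
  have hcz : (T.c : ℂ) ≠ 0 := Nat.cast_ne_zero.2 fun e => by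
    rw [e, mul_zero] at htc; omega
  have hpz := H.p_ne_zero
  have hA : ∀ χ ∈ T.As, (χ : G → ℂ) i ^ 2 * conj ((χ : G → ℂ) y) / (χ : G → ℂ) 1 =
      (T.Th.card : ℂ) * conj ((χ : G → ℂ) y) / T.c := by
    intro χ hχ
    have e : (χ : G → ℂ) 1 = (T.Th.card : ℂ) * T.c := by
      rw [T.degA χ hχ]; exact_mod_cast htc.symm
    have htz : (T.Th.card : ℂ) ≠ 0 := Nat.cast_ne_zero.2 (by omega)
    rw [hAi χ hχ, e]
    field_simp
  rw [T.sum_split H, Finset.sum_congr rfl hA,
    Finset.sum_eq_zero (s := T.Bs) fun χ hχ => by rw [T.B_vanish H hχ hi]; simp,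
    Finset.sum_congr (s₁ := T.Th) rfl (g := fun _ => conj ((θ : G → ℂ) y) / T.c) fun χ hχ => by
      rw [← H.irr_fix_apply χ hi, T.fix_T H hχ, sq, hEi, one_mul, T.deg_T H hχ,
        T.agree χ hχ y hyreg, T.agree θ hθ y hyreg],
    Finset.sum_congr (s₁ := Zs (G := G) (p := p)) rfl
      (g := fun χ => (zd p χ : ℂ) * conj ((χ : G → ℂ) y) / p) fun χ hχ => by
        rw [PosData.Z_apply H D hχ hi, (T.zd_spec H hχ).1]
        have : (zd p χ : ℂ) ≠ 0 := Nat.cast_ne_zero.2 (T.zd_spec H hχ).2.2.ne'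
        field_simp,
    Finset.sum_const, nsmul_eq_mul, show ((principal G : IrrCharacter G) : G → ℂ) i = 1 from rfl,
    show ((principal G : IrrCharacter G) : G → ℂ) y = 1 from rfl,
    show ((principal G : IrrCharacter G) : G → ℂ) 1 = 1 from rfl] at h
  have h' := congrArg conj h
  simp only [map_add, map_one, map_zero, map_sum, map_mul, map_div₀, map_natCast, map_pow,
    Complex.conj_conj, ← Finset.sum_div, ← Finset.mul_sum, one_pow, mul_one, div_one, add_zero] at h'
  rw [Finset.sum_insert fun hm => Finset.disjoint_left.1 T.disjAT hm hθ]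
  linear_combination h'

theorem not_k_one (hs : 0 < T.As.card)
    (hN : Nat.card (Subgroup.normalizer (Q : Set G)) = q * (n + 1)) (hn : 2 ≤ n) : False := by
  obtain ⟨ht2, htn, htq, htc, hck⟩ := PosData.k_one_c H D
  obtain ⟨f, hf, hpm, h2q⟩ := PosData.k_one_linear H D
  set t := T.Th.card with htdef
  set a := T.As.card with hadef
  have hq : q = a * t + 2 := by rw [htn]; exact D.eqn.symm
  haveI : Fact (Nat.Prime 2) := ⟨Nat.prime_two⟩
  obtain ⟨i, hio⟩ := exists_prime_orderOf_dvd_card' (G := Q) 2 (H.cardQ.symm ▸ h2q)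
  have hi1 : i ≠ 1 := fun e => by rw [e, orderOf_one] at hio; omega
  have hio' : orderOf (i : G) = 2 := by rw [Subgroup.orderOf_coe, hio]
  have hii : (i : G) * i = 1 := by rw [← pow_two, ← hio']; exact pow_orderOf_eq_one _
  haveI := H.cyc
  have huniq : ∀ y : Q, y ^ 2 = 1 → y ≠ 1 → y = i := by
    intro y hy hy1
    have h := mem_zpowers_of_pow (a := i) (y := y) (by rw [hio]; exact hy)
    rw [mem_zpowers_iff_mem_range_orderOf] at h
    simp only [Finset.mem_image, Finset.mem_range, hio] at h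
    obtain ⟨j, hj, rfl⟩ := h
    interval_cases j
    · simp at hy1
    · simp
  -- the centralizer of the involution
  have hCi : Nat.card (Subgroup.centralizer ({(i : G)} : Set G)) = q * t := by
    have h := PosData.centralizer_mul_mates H D hi1
    have hm : mates i = 1 := by
      rw [mates, Finset.card_eq_one]
      refine ⟨i, Finset.eq_singleton_iff_unique_mem.2
        ⟨Finset.mem_filter.2 ⟨Finset.mem_univ _, hi1, IsConj.refl _⟩, fun y hy => ?_⟩⟩
      obtain ⟨-, hy1, hy2⟩ := Finset.mem_filter.1 hy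
      obtain ⟨g, hg⟩ := isConj_iff.1 hy2
      refine huniq y (Subtype.ext ?_) hy1
      rw [Subgroup.coe_pow, ← hg, conj_pow, pow_two, hii]
      group
      rfl
    rwa [hm, mul_one, ← htn] at h
  have hCN : Subgroup.centralizer ({(i : G)} : Set G) = Subgroup.normalizer (Q : Set G) := by
    refine (Subgroup.eq_of_le_of_card_ge ?_ (le_of_eq (by rw [hCi, hN, htn]))).symm
    intro g hg
    rw [Subgroup.mem_centralizer_singleton_iff]
    have h1 : g * (i : G) * g⁻¹ ∈ Q := (Subgroup.mem_normalizer_iff.1 hg _).1 i.2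
    have h2 := huniq ⟨_, h1⟩ (Subtype.ext (by
      rw [Subgroup.coe_pow, conj_pow, pow_two, hii]; group; rfl))
      (fun e => hi1 (Subtype.ext (conj_eq_one_iff.1 (congrArg Subtype.val e))))
    exact mul_inv_eq_iff_eq_mul.1 (congrArg Subtype.val h2)
  -- the other centralizers
  have hothers : ∀ x : Q, x ≠ 1 → x ≠ i →
      Nat.card (Subgroup.centralizer ({(x : G)} : Set G)) = q := by
    have hsum := PosData.sum_centralizer_le H D
    rw [← hadef, ← htdef, ← Finset.add_sum_erase _ _ (Finset.mem_erase.2 ⟨hi1, Finset.mem_univ i⟩),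
      hCi, one_pow, mul_one, ← htn] at hsum
    have hle : ∀ x ∈ (Finset.univ.erase (1 : Q)).erase i,
        q ≤ Nat.card (Subgroup.centralizer ({(x : G)} : Set G)) := fun x _ =>
      Nat.le_of_dvd Nat.card_pos (H.dvd_card_centralizer x.2)
    have hge : ∑ x ∈ (Finset.univ.erase (1 : Q)).erase i,
        Nat.card (Subgroup.centralizer ({(x : G)} : Set G)) ≤
          ∑ x ∈ (Finset.univ.erase (1 : Q)).erase i, q := by
      rw [Finset.sum_const, Finset.card_erase_of_mem (Finset.mem_erase.2 ⟨hi1, Finset.mem_univ i⟩),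
        Finset.card_erase_of_mem (Finset.mem_univ _), Finset.card_univ, H.card_Q, smul_eq_mul]
      rw [show q - 1 = a * t + 1 by omega] at hsum
      rw [show q - 1 - 1 = a * t by omega]
      nlinarith
    intro x hx hxi
    exact ((Finset.sum_eq_sum_iff_of_le hle).1 (le_antisymm (Finset.sum_le_sum hle) hge) x
      (Finset.mem_erase.2 ⟨hxi, Finset.mem_erase.2 ⟨hx, Finset.mem_univ x⟩⟩)).symm
  have K : KFacts Q q t (i : G) := ⟨H.cyc, H.cardQ, i.2, hio', by rw [hN, htn], hCN,
    fun x hx h1 h2 => hothers ⟨x, hx⟩ (fun e => h1 (congrArg Subtype.val e))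
      (fun e => h2 (congrArg Subtype.val e))⟩
  obtain ⟨m, hm⟩ := h2q
  -- no element of order four
  have hmodd : Odd m := by
    by_contra hev
    obtain ⟨m', rfl⟩ := even_iff_two_dvd.1 (Nat.not_odd_iff_even.1 hev)
    obtain ⟨g0, hg0⟩ := isCyclic_iff_exists_orderOf_eq_natCard.1 H.cyc
    rw [H.cardQ] at hg0
    have hm0 : m' ≠ 0 := fun e => by subst e; have := H.two_le; omega
    set x : Q := g0 ^ m' with hxdef
    have hxo : orderOf x = 4 := by
      rw [hxdef, orderOf_pow_of_dvd hm0 (hg0 ▸ ⟨4, by rw [hm]; ring⟩), hg0, hm]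
      exact Nat.div_eq_of_eq_mul_left (Nat.pos_of_ne_zero hm0) (by ring)
    have hx1 : x ≠ 1 := fun e => by rw [e, orderOf_one] at hxo; omega
    have hxi : x ≠ i := fun e => by rw [e, hio] at hxo; omega
    have h := PosData.centralizer_mul_mates H D hx1
    rw [hothers x hx1 hxi] at h
    have hmates : mates x ≤ 2 := by
      refine le_trans (Finset.card_le_card fun y hy => ?_)
        (le_of_eq (show (Finset.univ.filter fun y : Q => orderOf y = 4).card = 2 by
          rw [IsCyclic.card_orderOf_eq_totient (by rw [← Nat.card_eq_fintype_card, H.cardQ, hm]; exact ⟨m', by ring⟩)]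
          decide))
      obtain ⟨g, hg⟩ := isConj_iff.1 (Finset.mem_filter.1 hy).2.2
      refine Finset.mem_filter.2 ⟨Finset.mem_univ _, ?_⟩
      rw [← Subgroup.orderOf_coe, ← hg, show g * (x : G) * g⁻¹ = MulAut.conj g (x : G) from rfl,
        MulEquiv.orderOf_eq, Subgroup.orderOf_coe, hxo]
    have := Nat.eq_of_mul_eq_mul_left (show 0 < q by have := H.two_le; omega) h
    omega
  have hpo : Odd p := H.hp.odd_of_ne_two (by have := H.three; omega)
  have hco : Odd T.c := by
    by_contra hc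
    have h1 : Even (T.c + q) := (Nat.not_odd_iff_even.1 hc).add ⟨m, by omega⟩
    rw [hck] at h1
    exact (Nat.not_even_iff_odd.2 hpo) h1
  set r := p * m * T.c with hrdef
  have hr : Odd r := (hpo.mul hmodd).mul hco
  have hG : Nat.card G = 2 * t * r := by
    have e : p * q * (t * T.c) = p * (2 * m) * (t * T.c) := congrArg (fun z => p * z * (t * T.c)) hm
    rw [H.cardG, ← htc, e, hrdef]; ring
  have hteven : Even t := by
    by_contra hc
    obtain ⟨u, hu⟩ := (Nat.not_even_iff_odd.1 hc).mul hr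
    refine card_mod_four H.perfect ?_
    rw [hG, mul_assoc, hu]
    omega
  have ha2 : 2 ≤ a := by
    by_contra hlt
    have ha1 : a = 1 := by omega
    refine Nat.not_prime_mul (show t + 1 ≠ 1 by omega) (show t + 1 ≠ 1 by omega) ?_
    convert H.hp using 1
    rw [← htq, hq, ha1]
    ring
  have ht4 : 4 ≤ t := by obtain ⟨u, hu⟩ := hteven; omega
  have hm1 : 1 < m := by
    have : 2 * t ≤ a * t := Nat.mul_le_mul_right _ ha2
    omega
  obtain ⟨h, S, hhC, hh2, hhS⟩ := K.exists_element hm hmodd hm1 (by omega) hG hr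
  have hppos := H.hp.pos
  have hpnt : ¬ p ∣ q * t := fun hd => by
    rcases H.hp.dvd_mul.1 hd with h1 | h1
    · exact H.not_dvd_q h1
    · have := Nat.le_of_dvd (by omega) h1
      have := Nat.mul_le_mul_left t (show 2 ≤ q from H.two_le)
      omega
  -- every generator of the cyclic group of `h` behaves alike
  set s := Finset.univ.filter fun y : G => Subgroup.zpowers y = Subgroup.zpowers h with hs'
  have hgood : ∀ y ∈ s, y ∈ Subgroup.centralizer ({(i : G)} : Set G) ∧ y ^ 2 ≠ 1 ∧
      ∀ z ∈ (S : Subgroup G), z * y = y * z := by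
    intro y hy
    have he : Subgroup.zpowers y = Subgroup.zpowers h := (Finset.mem_filter.1 hy).2
    have hyh : y ∈ Subgroup.zpowers h := he ▸ Subgroup.mem_zpowers y
    refine ⟨Subgroup.zpowers_le.2 hhC hyh, fun e => hh2 ?_, fun z hz => ?_⟩
    · have h1 : orderOf h = orderOf y := by rw [← Nat.card_zpowers, ← Nat.card_zpowers, he]
      exact orderOf_dvd_iff_pow_eq_one.1 (h1 ▸ orderOf_dvd_iff_pow_eq_one.2 e)
    · have h2 : Subgroup.zpowers h ≤ Subgroup.centralizer ({z} : Set G) :=
        Subgroup.zpowers_le.2 (Subgroup.mem_centralizer_singleton_iff.2 (hhS z hz).symm)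
      exact (Subgroup.mem_centralizer_singleton_iff.1 (h2 hyh)).symm
  have hreg : ∀ y ∈ s, ¬ p ∣ orderOf y := fun y hy hd =>
    hpnt (hd.trans (hCi ▸ Subgroup.orderOf_dvd_natCard _ (hgood y hy).1))
  -- the centralizer bound
  have hbound : ∀ y ∈ s, Nat.card (Subgroup.centralizer ({y} : Set G)) ≤ 2 * t * T.c := by
    intro y hy
    obtain ⟨hyC, hy2, hyS⟩ := hgood y hy
    have hdvd : Nat.card (Subgroup.centralizer ({y} : Set G)) ∣ (p * m) * (2 * t * T.c) := by
      have h1 := Subgroup.card_subgroup_dvd_card (Subgroup.centralizer ({y} : Set G))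
      rwa [hG, hrdef, show 2 * t * (p * m * T.c) = (p * m) * (2 * t * T.c) by ring] at h1
    refine Nat.le_of_dvd (Nat.mul_pos (by omega) hco.pos) ((Nat.Coprime.mul_right ?_ ?_).dvd_of_dvd_mul_left hdvd)
    · refine ((Nat.Prime.coprime_iff_not_dvd H.hp).2 fun hd => ?_).symm
      haveI : Fact p.Prime := ⟨H.hp⟩
      obtain ⟨w, hw⟩ := exists_prime_orderOf_dvd_card' (G := Subgroup.centralizer ({y} : Set G)) p hd
      have hwo : orderOf (w : G) = p := by rw [Subgroup.orderOf_coe, hw]
      have hPc : Nat.card P = p ^ (Nat.card G).factorization p := by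
        rw [H.cardP]
        have h1 : (Nat.card G).factorization p = 1 := by
          refine le_antisymm ?_ ((H.hp.dvd_iff_one_le_factorization Nat.card_pos.ne').1
            (H.cardP ▸ P.card_subgroup_dvd_card))
          by_contra h2
          exact H.not_sq ((Nat.Prime.pow_dvd_iff_le_factorization H.hp Nat.card_pos.ne').2 (by omega))
        rw [h1, pow_one]
      let SP : Sylow p G := Sylow.ofCard P hPc
      obtain ⟨T', hT'⟩ := (IsPGroup.of_card (n := 1)
        (by rw [Nat.card_zpowers, hwo, pow_one]) : IsPGroup p (Subgroup.zpowers (w : G))).exists_le_sylow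
      obtain ⟨g, hg⟩ := MulAction.exists_smul_eq G SP T'
      have hwT := hT' (Subgroup.mem_zpowers (w : G))
      rw [← hg, Sylow.coe_subgroup_smul] at hwT
      obtain ⟨u, hu, huw⟩ := (Subgroup.mem_smul_pointwise_iff_exists _ _ _).1 hwT
      have huw' : g * u * g⁻¹ = w := huw
      have hu1 : u ≠ 1 := fun e => by
        rw [e] at huw'
        rw [← huw', show g * 1 * g⁻¹ = (1 : G) by group, orderOf_one] at hwo
        exact H.hp.ne_one hwo.symm
      have h1 : g⁻¹ * y * g ∈ P := by
        rw [← H.centralizer_y hu hu1, ← mem_centralizer_conj (g := g), huw',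
          show g * (g⁻¹ * y * g) * g⁻¹ = y by group, Subgroup.mem_centralizer_singleton_iff]
        exact (Subgroup.mem_centralizer_singleton_iff.1 w.2).symm
      have h2 : orderOf y = orderOf (g⁻¹ * y * g) := by
        rw [show g⁻¹ * y * g = MulAut.conj g⁻¹ y by simp, MulEquiv.orderOf_eq]
      have h3 := Subgroup.orderOf_dvd_natCard P h1
      rw [← h2, H.cardP, Nat.dvd_prime H.hp] at h3
      rcases h3 with h3 | h3
      · rw [orderOf_eq_one_iff] at h3
        exact hy2 (by rw [h3, one_pow])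
      · exact hreg y hy (dvd_of_eq h3.symm)
    · refine Nat.coprime_of_dvd fun ρ hρ h1 h2 => ?_
      haveI : Fact ρ.Prime := ⟨hρ⟩
      have hρ2 : ρ ≠ 2 := fun e => by
        subst e
        exact (Nat.not_even_iff_odd.2 hmodd) (even_iff_two_dvd.2 h2)
      have hρq : ρ ∣ q := hm ▸ dvd_mul_of_dvd_right h2 2
      obtain ⟨w, hw⟩ := exists_prime_orderOf_dvd_card' (G := Subgroup.centralizer ({y} : Set G)) ρ h1
      have hwo : orderOf (w : G) = ρ := by rw [Subgroup.orderOf_coe, hw]
      obtain ⟨-, -, -, -, -, hρt, -⟩ := K.prime_facts hρ hρ2 hρq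
      have hρle : ρ ≤ q := Nat.le_of_dvd (by omega) hρq
      have hρgt : t < ρ := by
        have := hρ.two_le
        have := Nat.le_of_dvd (by omega) hρt
        omega
      have hnd : ¬ ρ ∣ p * t * T.c := by
        intro hd
        have hρp : ρ ∣ p → False := fun hd => by
          rw [Nat.prime_dvd_prime_iff_eq hρ H.hp] at hd
          have := H.q_lt
          omega
        rcases hρ.dvd_mul.1 hd with hd | hd
        · rcases hρ.dvd_mul.1 hd with hd | hd
          · exact hρp hd
          · exact absurd (Nat.le_of_dvd (by omega) hd) (by omega)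
        · exact hρp (hck ▸ dvd_add hd hρq)
      obtain ⟨g, hg⟩ := K.centralizer_conj hρ hρ2 (r := p * t * T.c)
        (by rw [H.cardG, ← htc]; ring) hnd hwo
      have hy' : g⁻¹ * y * g ∈ Q := hg y
        (Subgroup.mem_centralizer_singleton_iff.2 (Subgroup.mem_centralizer_singleton_iff.1 w.2).symm)
      have hne : (g⁻¹ * y * g) ^ 2 ≠ 1 := fun e => by
        refine hy2 ?_
        rw [show g⁻¹ * y * g = g⁻¹ * y * g⁻¹⁻¹ by group, conj_pow, conj_eq_one_iff] at e
        exact e
      have hC : Nat.card (Subgroup.centralizer ({y} : Set G)) = q := by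
        rw [← K.cent _ hy' (fun e => hne (by rw [e, one_pow]))
          (fun e => hne (by rw [e, pow_two, hii]))]
        exact (Nat.card_congr (Equiv.subtypeEquiv (MulAut.conj g).toEquiv fun c => by
          show _ ↔ g * c * g⁻¹ ∈ _
          conv_rhs => rw [show y = g * (g⁻¹ * y * g) * g⁻¹ by group, mem_centralizer_conj])).symm
      have hS4 : Nat.card (S : Subgroup G) ∣ q := hC ▸ Subgroup.card_dvd_of_le
        (fun z hz => Subgroup.mem_centralizer_singleton_iff.2 (hyS z hz))
      have h4 : 2 ^ 2 ∣ Nat.card G := by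
        obtain ⟨u, hu⟩ := hteven
        exact ⟨u * r, by rw [hG, hu]; ring⟩
      have h5 := (Nat.Prime.pow_dvd_iff_le_factorization Nat.prime_two Nat.card_pos.ne').1 h4
      have h6 : 2 ^ 2 ∣ q := (pow_dvd_pow 2 h5).trans (S.card_eq_multiplicity ▸ hS4)
      rw [hm] at h6
      exact (Nat.not_even_iff_odd.2 hmodd)
        (even_iff_two_dvd.2 (Nat.dvd_of_mul_dvd_mul_left (by norm_num) h6))
  -- values at the involution
  have hEi : T.E Q i * T.E Q i = 1 := by
    rw [hf]; rcases hpm i with e | e <;> rw [e] <;> simp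
  have hfl : ∀ χ ∈ T.As, fixFun P Q (χ : G → ℂ) 1 = ((t : ℕ) : ℂ) := fun χ hχ => by
    rw [T.fix_one_A H hχ, htn]; push_cast; ring
  have hcjI : ∀ χ : IrrCharacter G, conj ((χ : G → ℂ) i) = (χ : G → ℂ) i := fun χ => by
    rw [← Char.IsCharacter.inv (IsIrrCharacter.isCharacter χ.2), inv_eq_of_mul_eq_one_right hii]
  have hAi : ∀ χ ∈ T.As, (χ : G → ℂ) i ^ 2 = (T.Th.card : ℂ) ^ 2 := by
    have hcol := (column_orth_of_isConj (IsConj.refl (i : G))).symm.trans (PosData.column H D hi1 hi1)
    rw [hCi, ← htdef, show conj (T.E Q i) = T.E Q i by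
        rw [hf]; rcases hpm i with e | e <;> rw [e] <;> simp, hEi, mul_one] at hcol
    simp only [Complex.mul_conj] at hcol
    have hsumA : ∑ χ ∈ T.As, Complex.normSq (fixFun P Q (χ : G → ℂ) i) =
        ∑ χ ∈ T.As, (t : ℝ) ^ 2 := by
      rw [Finset.sum_const, nsmul_eq_mul, ← hadef]
      have h1 := congrArg Complex.re hcol
      simp only [Complex.add_re, Complex.natCast_re, Complex.one_re, Complex.re_sum,
        Complex.ofReal_re] at h1
      have hqR : (q : ℝ) = (a : ℝ) * t + 2 := by exact_mod_cast hq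
      have htR : (t : ℝ) = (n : ℝ) + 1 := by exact_mod_cast htn
      push_cast at h1
      rw [hqR] at h1
      linarith
    have hle : ∀ χ ∈ T.As, Complex.normSq (fixFun P Q (χ : G → ℂ) i) ≤ (t : ℝ) ^ 2 := fun χ hχ => by
      rw [Complex.normSq_eq_norm_sq]
      exact pow_le_pow_left₀ (norm_nonneg _) (norm_le_one (H.irr_fix_char χ) (hfl χ hχ) i) 2
    intro χ hχ
    have h1 := (Finset.sum_eq_sum_iff_of_le hle).1 hsumA χ hχ
    rw [← htdef, sq]
    nth_rw 2 [← hcjI]
    rw [← H.irr_fix_apply χ hi1, Complex.mul_conj, h1]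
    push_cast
    rfl
  -- the sums
  obtain ⟨θ, hθ⟩ := Finset.card_pos.1 (show 0 < T.Th.card by omega)
  set ψ : G → ℂ := fun y => ∑ χ ∈ insert θ T.As, (χ : G → ℂ) y with hψ
  have hψc : IsCharacter G ψ := by
    have := isCharacter_sum (insert θ T.As) (χ := fun χ : IrrCharacter G => (χ : G → ℂ))
      (fun χ _ => IsIrrCharacter.isCharacter χ.2)
    rwa [show ψ = ∑ χ ∈ insert θ T.As, (χ : G → ℂ) by funext y; simp [hψ]]
  have hid : ∀ y ∈ s, 1 + (t : ℂ) * ψ y / T.c +
      (∑ χ ∈ Zs (G := G) (p := p), (zd p χ : ℂ) * (χ : G → ℂ) y) / p = 0 := fun y hy =>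
    PosData.k_one_identity H D hs hi1 hEi hAi (hreg y hy)
      (fun g hg => not_inverted S (hgood y hy).2.2 (hgood y hy).2.1 hg) hii hθ
  have hcz : (T.c : ℂ) ≠ 0 := Nat.cast_ne_zero.2 hco.pos.ne'
  have hins : (insert θ T.As).card = a + 1 :=
    Finset.card_insert_of_notMem fun hm => Finset.disjoint_left.1 T.disjAT hm hθ
  by_cases hzero : ∃ y ∈ s, ψ y = 0
  · obtain ⟨y, hy, hy0⟩ := hzero
    have h1 := hid y hy
    rw [hy0, mul_zero, zero_div, add_zero, ← eq_neg_iff_add_eq_zero, eq_comm, neg_eq_iff_eq_neg,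
      div_eq_iff H.p_ne_zero] at h1
    have h2 : (p : ℝ) ≤ ∑ χ ∈ Zs (G := G) (p := p), (zd p χ : ℝ) * ‖(χ : G → ℂ) y‖ := by
      have h3 := congrArg norm h1
      rw [norm_mul, norm_neg, norm_one, one_mul, Complex.norm_natCast] at h3
      rw [← h3]
      refine (norm_sum_le _ _).trans (le_of_eq (Finset.sum_congr rfl fun χ _ => ?_))
      rw [norm_mul, Complex.norm_natCast]
    have h4 := Finset.sum_mul_sq_le_sq_mul_sq (Zs (G := G) (p := p)) (fun χ => (zd p χ : ℝ))
      (fun χ => ‖(χ : G → ℂ) y‖)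
    have h5 : ∑ χ ∈ Zs (G := G) (p := p), (zd p χ : ℝ) ^ 2 = n := by
      exact_mod_cast PosData.sum_zd_sq H D
    have h6 : ∑ χ ∈ Zs (G := G) (p := p), ‖(χ : G → ℂ) y‖ ^ 2 ≤
        (Nat.card (Subgroup.centralizer ({y} : Set G)) : ℝ) := by
      simp only [← Complex.normSq_eq_norm_sq]
      exact sum_normSq_le y _
    rw [h5] at h4
    have h7 : (p : ℝ) ^ 2 ≤ (n : ℝ) * (Nat.card (Subgroup.centralizer ({y} : Set G)) : ℝ) :=
      ((pow_le_pow_left₀ (Nat.cast_nonneg p) h2 2).trans h4).trans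
        (mul_le_mul_of_nonneg_left h6 (Nat.cast_nonneg n))
    refine k_one_arith ht4 ha2 hq htq hck (hbound y hy) (Or.inl ?_)
    rw [htn, Nat.add_sub_cancel]
    exact_mod_cast h7
  · push Not at hzero
    have hcop : Nat.Coprime (t * p) T.c := by
      refine Nat.Coprime.mul_left ?_ ((Nat.Prime.coprime_iff_not_dvd H.hp).2 fun hd => ?_)
      · refine Nat.coprime_of_dvd' fun ρ _ h1 h2 => ?_
        have h7 : T.c + a * t + 1 = t * q := by omega
        exact (Nat.dvd_add_right (dvd_add h2 (h1.trans (dvd_mul_left t a)))).1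
          (h7 ▸ h1.trans (dvd_mul_right t q))
      · have := Nat.le_of_dvd hco.pos hd
        have := H.two_le
        omega
    obtain ⟨u, v, huv⟩ := (Int.isCoprime_iff_gcd_eq_one.2 (by
      rw [Int.gcd_natCast_natCast]; exact hcop) : IsCoprime ((t * p : ℕ) : ℤ) (T.c : ℤ))
    have huv' : (u : ℂ) * ((t : ℂ) * p) + (v : ℂ) * T.c = 1 := by
      have := congrArg (fun z : ℤ => (z : ℂ)) huv
      push_cast at this
      exact this
    have hintv : ∀ y ∈ s, IsIntegral ℤ (ψ y / T.c) := by
      intro y hy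
      have hS : IsIntegral ℤ (∑ χ ∈ Zs (G := G) (p := p), (zd p χ : ℂ) * (χ : G → ℂ) y) :=
        IsIntegral.sum _ fun χ _ => (isIntegral_algebraMap (x := (zd p χ : ℤ)) |> fun h => by
          simpa using h : IsIntegral ℤ (zd p χ : ℂ)).mul
            (Char.IsCharacter.isIntegral (IsIrrCharacter.isCharacter χ.2) y)
      have e : ψ y / T.c = (v : ℂ) * ψ y +
          (u : ℂ) * (-(p : ℂ) - ∑ χ ∈ Zs (G := G) (p := p), (zd p χ : ℂ) * (χ : G → ℂ) y) := by
        have h1 := hid y hy
        have := H.p_ne_zero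
        field_simp at h1 ⊢
        linear_combination (u : ℂ) * h1 - ψ y * huv'
      rw [e]
      have hint : ∀ z : ℤ, IsIntegral ℤ (z : ℂ) := fun z => by
        simpa using (isIntegral_algebraMap (R := ℤ) (A := ℂ) (x := z))
      refine ((hint v).mul (Char.IsCharacter.isIntegral hψc y)).add ((hint u).mul (IsIntegral.sub ?_ hS))
      simpa using hint (-(p : ℤ))
    have hsclosed : ∀ g ∈ s, ∀ k : ℕ, k.Coprime (Nat.card G) → g ^ k ∈ s := by
      intro g hg k hk
      refine Finset.mem_filter.2 ⟨Finset.mem_univ _, ?_⟩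
      rw [← (Finset.mem_filter.1 hg).2]
      refine Subgroup.eq_of_le_of_card_ge (Subgroup.zpowers_le.2 (Subgroup.pow_mem _ (Subgroup.mem_zpowers g) k)) ?_
      rw [Nat.card_zpowers, Nat.card_zpowers,
        Nat.Coprime.orderOf_pow (Nat.Coprime.coprime_dvd_left (orderOf_dvd_natCard g) hk.symm)]
    have hsum := Cfsg.Agent.CharGalois.card_le_sum_normSq s (fun y => ψ y / T.c) hintv
      (fun y hy => div_ne_zero (hzero y hy) hcz) fun σ => by
        rw [Finset.prod_div_distrib, Finset.prod_const, map_div₀, map_pow, map_natCast,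
          Cfsg.Agent.CharGalois.prod_char_fixed hψc s hsclosed σ]
    obtain ⟨y, hy, hy1⟩ : ∃ y ∈ s, (1 : ℝ) ≤ ‖ψ y / T.c‖ ^ 2 := by
      by_contra hcon
      push Not at hcon
      have hne : s.Nonempty := ⟨h, Finset.mem_filter.2 ⟨Finset.mem_univ _, rfl⟩⟩
      have h1 := Finset.sum_lt_sum_of_nonempty hne hcon
      rw [Finset.sum_const, nsmul_eq_mul, mul_one] at h1
      linarith
    rw [norm_div, div_pow, Complex.norm_natCast, one_le_div₀ (pow_pos (Nat.cast_pos.2 hco.pos) 2)] at hy1
    have h2 : ‖ψ y‖ ^ 2 ≤ ((a : ℝ) + 1) * (Nat.card (Subgroup.centralizer ({y} : Set G)) : ℝ) := by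
      refine (pow_le_pow_left₀ (norm_nonneg _) (norm_sum_le _ _) 2).trans ?_
      refine (sq_sum_le_card_mul_sum_sq (f := fun χ : IrrCharacter G => ‖(χ : G → ℂ) y‖)).trans ?_
      rw [hins, Nat.cast_add, Nat.cast_one]
      refine mul_le_mul_of_nonneg_left ?_ (by positivity)
      simp only [← Complex.normSq_eq_norm_sq]
      exact sum_normSq_le y _
    refine k_one_arith ht4 ha2 hq htq hck (hbound y hy) (Or.inr ?_)
    exact_mod_cast hy1.trans h2

end Table.PosData

end Cfsg.Agent.SmallN
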