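import Cfsg.Agent.Lib.SmallN.Base
import Cfsg.Agent.S0732

/-!
Exactly `p + 1` conjugates of the self-centralizing subgroup: the group is `PSL(2, p)`.
-/

set_option autoImplicit false
set_option linter.style.haveILetI false
set_option linter.unusedSectionVars false

namespace Cfsg.Agent.SmallN

open Cfsg

universe u v w

/-- Two automorphisms of a finite field commute. -/
theorem ringEquiv_comm {F : Type*} [Field F] [Finite F] (φ ψ : F ≃+* F) (x : F) :
    φ (ψ x) = ψ (φ x) := by
  classical
  by_cases hx : x = 0
  · simp [hx]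
  obtain ⟨α, hα⟩ := IsCyclic.exists_generator (α := Fˣ)
  obtain ⟨i, hi⟩ := Subgroup.mem_zpowers_iff.1 (hα (Units.mk0 x hx))
  obtain ⟨k, hk⟩ := Subgroup.mem_zpowers_iff.1 (hα (Units.map (φ : F →* F) α))
  obtain ⟨l, hl⟩ := Subgroup.mem_zpowers_iff.1 (hα (Units.map (ψ : F →* F) α))
  have key : Units.map (φ : F →* F) (Units.map (ψ : F →* F) (Units.mk0 x hx)) =
      Units.map (ψ : F →* F) (Units.map (φ : F →* F) (Units.mk0 x hx)) := by
    rw [← hi, map_zpow, map_zpow, ← hl, map_zpow, map_zpow, ← hk, map_zpow, map_zpow,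
      ← hl, ← zpow_mul α k l, ← zpow_mul α l k, mul_comm k l]
  exact congrArg Units.val key

/-- A perfect group of semiaffine maps of a finite field is small. -/
theorem card_le_of_semiaffine {G : Type u} [Group G] [Finite G] (hperf : commutator G = ⊤)
    {α : Type v} {F : Type w} [Field F] [Finite F] (ι : G →* Equiv.Perm α) (hι : Function.Injective ι)
    (e : α ≃ F) (h : ∀ g, e.symm.trans ((ι g).trans e) ∈ Cfsg.semiaffineGroup F) :
    Nat.card G ≤ Nat.card Fˣ * Nat.card F := by
  classical
  choose a b φ hφ using h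
  have hσ : ∀ g x, e (ι g (e.symm x)) = (a g : F) * φ g x + b g := fun g x => hφ g x
  have hmul : ∀ g g', φ (g * g') = (φ g').trans (φ g) := by
    intro g g'
    have hcomp : ∀ x, (a (g * g') : F) * φ (g * g') x + b (g * g') =
        (a g : F) * φ g (a g' : F) * φ g (φ g' x) + ((a g : F) * φ g (b g') + b g) := by
      intro x
      rw [← hσ, map_mul, Equiv.Perm.mul_apply]
      have h1 := hσ g (e (ι g' (e.symm x)))
      rw [e.symm_apply_apply] at h1
      rw [h1, hσ, map_add, map_mul]
      ring
    have h0 := hcomp 0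
    simp only [map_zero, mul_zero, zero_add] at h0
    have h1 := hcomp 1
    simp only [map_one, mul_one, h0, add_left_inj] at h1
    refine RingEquiv.ext fun x => mul_left_cancel₀ (Units.ne_zero (a (g * g'))) ?_
    have h2 := hcomp x
    rw [h0, add_left_inj, ← h1] at h2
    rw [RingEquiv.trans_apply, h2]
  let f : G → Equiv.Perm F := fun g => (φ g).toEquiv
  have hf : ∀ g g' : G, f (g * g') = f g * f g' := fun g g' => Equiv.ext fun x => by
    show φ (g * g') x = φ g (φ g' x)
    rw [hmul]
    rfl
  let Φ : G →* Equiv.Perm F := MonoidHom.mk' f hf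
  have hc : ∀ x y, Commute (Φ x) (Φ y) := fun x y => Equiv.ext fun z => ringEquiv_comm (φ x) (φ y) z
  have hker : commutator G ≤ Φ.ker := by
    rw [commutator_def, Subgroup.commutator_le]
    intro x _ y _
    rw [MonoidHom.mem_ker, map_commutatorElement, commutatorElement_eq_one_iff_commute]
    exact hc x y
  rw [hperf, top_le_iff] at hker
  have hid : ∀ g x, φ g x = x := fun g x => by
    have : g ∈ Φ.ker := hker ▸ Subgroup.mem_top g
    exact Equiv.congr_fun (MonoidHom.mem_ker.1 this) x
  rw [← Nat.card_prod]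
  refine Nat.card_le_card_of_injective (fun g => (a g, b g)) fun g g' hg => hι (Equiv.ext fun x => ?_)
  simp only [Prod.mk.injEq] at hg
  apply e.injective
  have h1 := hσ g (e x)
  have h2 := hσ g' (e x)
  rw [e.symm_apply_apply, hid] at h1 h2
  rw [h1, h2, hg.1, hg.2]

theorem pow_two_big : ∀ r, 4 ≤ r → 2 * r + 2 < 2 ^ r := by
  intro r hr
  induction r, hr using Nat.le_induction with
  | base => norm_num
  | succ r _ ih => rw [pow_succ]; omega

/-- Exactly `p + 1` conjugates. -/
theorem n_one_case {G : Type u} [Group G] [Fintype G] {p : ℕ} [Fact p.Prime] {P Q : Subgroup G}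
    {q : ℕ} (H : Hyp p P Q q 1) (S : Sylow p G) (hS : (S : Subgroup G) = P) (hq : 2 * q + 1 = p) :
    Nonempty (G ≃* Matrix.ProjectiveSpecialLinearGroup (Fin 2) (ZMod p)) := by
  classical
  have hsyl : Nat.card (Sylow p G) = p + 1 := by
    rw [S.card_eq_index_normalizer, show Subgroup.normalizer (S : Set G) = Subgroup.normalizer (P : Set G) from hS ▸ rfl]
    have h := (Subgroup.normalizer (P : Set G)).card_mul_index
    rw [H.cardN, H.cardG, one_mul] at h
    exact Nat.eq_of_mul_eq_mul_left (Nat.mul_pos H.hp.pos (by have := H.two_le; omega)) h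
  haveI : Fintype (Sylow p G) := Fintype.ofFinite _
  set ι := MulAction.toPermHom G (Sylow p G)
  have hinj : Function.Injective ι := by
    rw [← MonoidHom.ker_eq_bot_iff]
    by_contra hne
    have hPle : P ≤ ι.ker := H.le_of_normal (MonoidHom.normal_ker ι) hne
    haveI : Subsingleton (Sylow p G) := by
      refine ⟨fun T T' => ?_⟩
      have key : ∀ T : Sylow p G, T = S := by
        intro T
        have hPN : P ≤ Subgroup.normalizer ((T : Subgroup G) : Set G) := fun y hy =>
          Sylow.smul_eq_iff_mem_normalizer.1 (Equiv.congr_fun (MonoidHom.mem_ker.1 (hPle hy)) T)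
        have hP : IsPGroup p P := hS ▸ S.2
        have h1 := hP.inf_normalizer_sylow T
        change P ⊓ Subgroup.normalizer ((T : Subgroup G) : Set G) = P ⊓ (T : Subgroup G) at h1
        rw [inf_eq_left.2 hPN] at h1
        have hle : P ≤ (T : Subgroup G) := h1.le.trans inf_le_right
        refine Sylow.ext (Subgroup.eq_of_le_of_card_ge (hS ▸ hle) (le_of_eq ?_)).symm
        rw [S.card_eq_multiplicity, T.card_eq_multiplicity]
      rw [key T, key T']
    have h1 : Nat.card (Sylow p G) ≤ 1 := Finite.card_le_one_iff_subsingleton.2 inferInstance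
    have := H.three
    omega
  let eG := ι.ofInjective hinj
  haveI : MulAction.IsPretransitive ι.range (Sylow p G) := ⟨fun x y => by
    obtain ⟨g, hg⟩ := MulAction.exists_smul_eq G x y
    exact ⟨⟨ι g, g, rfl⟩, hg⟩⟩
  have hcard : Nat.card ι.range = (p + 1) * p * q := by
    rw [← Nat.card_congr eG.toEquiv, H.cardG]
    ring
  rcases Cfsg.Agent.S0732.result H.hp (by rw [← Nat.card_eq_fintype_card, hsyl]) ι.range hcard
      H.q_lt with ⟨hd, -⟩ | ⟨-, ⟨f⟩⟩ | ⟨r, hr, hr2, hd, e, he⟩
  · have := H.two_le
    omega
  · exact ⟨eG.trans f⟩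
  · exfalso
    haveI : Fact r.Prime := ⟨hr⟩
    have hqr : q = r := hd.resolve_left (by have := H.two_le; omega)
    have hr3 : r = 3 := by
      rcases Nat.lt_or_ge r 4 with h | h
      · have := hr.two_le
        interval_cases r
        · norm_num at hr2; omega
        · rfl
      · have := pow_two_big r h
        omega
    subst hr3
    haveI : Finite (GaloisField 2 3) :=
      Nat.finite_of_card_ne_zero (by rw [GaloisField.card 2 3 (by norm_num)]; norm_num)
    have h1 := card_le_of_semiaffine H.perfect ι hinj e fun g => he ⟨ι g, g, rfl⟩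
    rw [GaloisField.card 2 3 (by norm_num), H.cardG, hqr, show p = 7 by norm_num at hr2; omega,
      Nat.card_units, GaloisField.card 2 3 (by norm_num)] at h1
    norm_num at h1

end Cfsg.Agent.SmallN
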