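import Cfsg.Agent.Lib.SmallN.Neg
import Cfsg.Agent.Lib.SmallN.AlphaZero
import Cfsg.Agent.Lib.SmallN.KOne
import Cfsg.Agent.Lib.SmallN.NOne

/-!
Perfect groups with a self-centralizing subgroup of prime order and few conjugates of it.
-/

set_option autoImplicit false
set_option linter.style.haveILetI false
set_option linter.unusedSectionVars false

namespace Cfsg.Agent.SmallN

open Cfsg
open scoped Classical

universe u

variable {G : Type u} [Group G]

/-- The conclusion of the recognition theorem. -/
def IsLinTwo (G : Type u) [Group G] (p : ℕ) : Prop :=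
  (∃ (F : Type) (_ : Field F) (_ : Fintype F), Fintype.card F = p ∧ 3 < p ∧
    Nonempty (G ≃* Matrix.ProjectiveSpecialLinearGroup (Fin 2) F)) ∨
  (∃ (m : ℕ) (F : Type) (_ : Field F) (_ : Fintype F), Fintype.card F = 2 ^ m ∧ p = 2 ^ m + 1 ∧
    3 < p ∧ Nonempty (G ≃* Matrix.ProjectiveSpecialLinearGroup (Fin 2) F))

theorem commutator_le_of_comm {A : Type*} [Group A] (f : G →* A) (hcomm : ∀ a b : A, Commute a b) :
    commutator G ≤ f.ker := by
  rw [commutator_def, Subgroup.commutator_le]
  intro x _ y _
  rw [MonoidHom.mem_ker, map_commutatorElement, commutatorElement_eq_one_iff_commute]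
  exact hcomm _ _

/-- A perfect group has no subgroup of index three. -/
theorem index_ne_three [Finite G] (hperf : commutator G = ⊤) (T : Subgroup G) : T.index ≠ 3 := by
  intro hT
  haveI : Fintype (G ⧸ T) := Fintype.ofFinite _
  set π := MulAction.toPermHom G (G ⧸ T)
  have hsign : commutator G ≤ (Equiv.Perm.sign.comp π).ker :=
    commutator_le_of_comm _ fun a b => mul_comm a b
  rw [hperf, top_le_iff] at hsign
  have hmem : ∀ g, π g ∈ alternatingGroup (G ⧸ T) := fun g => by
    rw [Equiv.Perm.mem_alternatingGroup]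
    exact MonoidHom.mem_ker.1 (hsign ▸ Subgroup.mem_top g : g ∈ (Equiv.Perm.sign.comp π).ker)
  haveI : Nontrivial (G ⧸ T) :=
    Finite.one_lt_card_iff_nontrivial.1 (by rw [← Subgroup.index_eq_card, hT]; norm_num)
  have hA : Nat.card (alternatingGroup (G ⧸ T)) = 3 := by
    rw [nat_card_alternatingGroup, ← Subgroup.index_eq_card, hT]
    rfl
  haveI : Fact (Nat.Prime 3) := ⟨Nat.prime_three⟩
  haveI : IsCyclic (alternatingGroup (G ⧸ T)) := isCyclic_of_prime_card hA
  letI : CommGroup (alternatingGroup (G ⧸ T)) := IsCyclic.commGroup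
  have hker : commutator G ≤ (π.codRestrict _ hmem).ker :=
    commutator_le_of_comm _ fun a b => mul_comm a b
  rw [hperf, top_le_iff] at hker
  haveI : Subsingleton (G ⧸ T) := ⟨fun x y => by
    obtain ⟨g, rfl⟩ := MulAction.exists_smul_eq G x y
    have h : g ∈ (π.codRestrict _ hmem).ker := hker ▸ Subgroup.mem_top g
    exact (Equiv.congr_fun (congrArg Subtype.val (MonoidHom.mem_ker.1 h)) x).symm⟩
  exact not_nontrivial (G ⧸ T) inferInstance

/-- Brauer's recognition theorem: `n` is not of the form `(h u p + u ^ 2 + u + h) / (u + 1)`. -/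
theorem main_nr [Finite G] (hperf : commutator G = ⊤) {p : ℕ} [Fact p.Prime] (S : Sylow p G)
    (hS : Nat.card (S : Subgroup G) = p)
    (hC : Subgroup.centralizer ((S : Subgroup G) : Set G) = (S : Subgroup G))
    {n : ℕ} (hnn : Nat.card (Sylow p G) = n * p + 1) (hnr : NR p n) : IsLinTwo G p := by
  haveI : Fintype G := Fintype.ofFinite G
  have hp : p.Prime := Fact.out
  set N := Subgroup.normalizer ((S : Subgroup G) : Set G) with hN
  have hPN : (S : Subgroup G) ≤ N := Subgroup.le_normalizer
  haveI : IsCyclic (S : Subgroup G) := isCyclic_of_prime_card hS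
  have hautC : ∀ a b : MulAut (S : Subgroup G), Commute a b := fun a b => by
    refine (IsCyclic.mulAutMulEquiv (S : Subgroup G)).injective ?_
    rw [map_mul, map_mul, mul_comm]
  have hS' : (((S : Subgroup G)).subgroupOf N).Normal := Subgroup.normal_in_normalizer
  have hcS : Nat.card ((S : Subgroup G).subgroupOf N) = p := by
    rw [Nat.card_congr (Subgroup.subgroupOfEquivOfLe hPN).toEquiv, hS]
  set q := ((S : Subgroup G).subgroupOf N).index with hqdef
  have hcN : Nat.card N = p * q := by rw [← hcS, hqdef, Subgroup.card_mul_index]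
  let ψ := Subgroup.normalizerMonoidHom (S : Subgroup G)
  have hkerψ : ψ.ker = (S : Subgroup G).subgroupOf N := by
    rw [Subgroup.normalizerMonoidHom_ker, hC]
  have hqd : q ∣ p - 1 := by
    rw [hqdef, ← hkerψ, Subgroup.index_ker, ← Nat.totient_prime hp, ← congrArg Nat.totient hS, ← IsCyclic.card_mulAut]
    exact Subgroup.card_subgroup_dvd_card _
  have hnt : p ∣ Nat.card G := hS ▸ (S : Subgroup G).card_subgroup_dvd_card
  -- Burnside
  have hq1 : q ≠ 1 := by
    intro h
    rw [hqdef, Subgroup.index_eq_one, Subgroup.subgroupOf_eq_top] at h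
    obtain ⟨K, hKn, hK⟩ := Small.exists_normal_index_of_central hnt S
      (h.trans hC.ge)
    haveI := hKn
    haveI : IsCyclic (G ⧸ K) := isCyclic_of_prime_card (p := p) (by rw [← Subgroup.index_eq_card, hK])
    letI : CommGroup (G ⧸ K) := IsCyclic.commGroup
    have hle := commutator_le_of_comm (QuotientGroup.mk' K) fun a b => mul_comm a b
    rw [hperf, QuotientGroup.ker_mk'] at hle
    rw [top_le_iff.1 hle, Subgroup.index_top] at hK
    exact hp.ne_one hK.symm
  have hq2 : 2 ≤ q := by
    have : q ≠ 0 := Subgroup.index_ne_zero_of_finite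
    omega
  have hG : Nat.card G = p * q * (n * p + 1) := by
    rw [← hcN, ← hnn, S.card_eq_index_normalizer]
    exact (N.card_mul_index).symm
  have hn0 : 0 < n := by
    by_contra h
    obtain rfl : n = 0 := by omega
    have htop : N = ⊤ := Subgroup.eq_top_of_card_eq N (by rw [hcN, hG]; ring)
    let f : G →* MulAut (S : Subgroup G) :=
      ψ.comp ((MonoidHom.id G).codRestrict N fun g => htop ▸ Subgroup.mem_top g)
    have hle := commutator_le_of_comm f hautC
    rw [hperf, top_le_iff] at hle
    refine hq1 (hqdef ▸ ?_)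
    rw [Subgroup.index_eq_one, ← hkerψ, eq_top_iff]
    intro g _
    rw [MonoidHom.mem_ker]
    exact MonoidHom.mem_ker.1 (hle ▸ Subgroup.mem_top (g : G) : (g : G) ∈ f.ker)
  have h3 : 3 ≤ p := by
    have := Nat.le_of_dvd (by have := hp.two_le; omega) hqd
    omega
  -- the complement
  have hcop : Nat.Coprime (Nat.card ((S : Subgroup G).subgroupOf N))
      ((S : Subgroup G).subgroupOf N).index := by
    rw [hcS, ← hqdef]
    refine hp.coprime_iff_not_dvd.2 fun h => ?_
    have := Nat.le_of_dvd (by omega) (h.trans hqd)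
    omega
  obtain ⟨L, hL⟩ := Subgroup.exists_right_complement'_of_coprime hcop
  let Q : Subgroup G := L.map N.subtype
  have hQc : Nat.card Q = q := by
    rw [Subgroup.card_map_of_injective N.subtype_injective]
    have h := hL.card_mul
    rw [hcS, hcN] at h
    exact Nat.eq_of_mul_eq_mul_left hp.pos h
  have hQle : Q ≤ N := Subgroup.map_subtype_le _
  have hQcyc : IsCyclic Q := by
    haveI : IsCyclic (MulAut (S : Subgroup G)) := by
      haveI : IsCyclic (ZMod (Nat.card (S : Subgroup G)))ˣ := by rw [hS]; exact inferInstance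
      exact (IsCyclic.mulAutMulEquiv (S : Subgroup G)).isCyclic.2 inferInstance
    refine isCyclic_of_injective (ψ.comp (Subgroup.inclusion hQle)) ((injective_iff_map_eq_one _).2 ?_)
    intro x hx
    have h1 : (Subgroup.inclusion hQle x) ∈ (S : Subgroup G).subgroupOf N :=
      hkerψ ▸ MonoidHom.mem_ker.2 hx
    obtain ⟨l, hl, hlx⟩ := x.2
    have h2 : l ∈ (S : Subgroup G).subgroupOf N ⊓ L := by
      refine ⟨?_, hl⟩
      have hxS : (x : G) ∈ (S : Subgroup G) := h1
      show N.subtype l ∈ (S : Subgroup G)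
      rw [hlx]
      exact hxS
    rw [hL.disjoint.eq_bot, Subgroup.mem_bot] at h2
    exact Subtype.ext (by rw [← hlx, h2]; rfl)
  have H : Hyp p (S : Subgroup G) Q q n :=
    ⟨hp, h3, hperf, hS, hC, hQle, hQc, hQcyc, hcN, hG, hq2, hqd, hn0, hnr⟩
  -- the cases
  have hPSL : n = 1 → 2 * q + 1 = p → IsLinTwo G p := by
    intro h1 hq
    subst h1
    obtain ⟨e⟩ := n_one_case H S rfl hq
    exact Or.inl ⟨ZMod p, inferInstance, inferInstance, ZMod.card p, by omega, ⟨e⟩⟩
  obtain ⟨T⟩ := exists_table S H
  rcases T.sign with hδ | hδ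
  · obtain ⟨k, D⟩ := T.exists_posData H hδ
    rcases Nat.eq_zero_or_pos T.As.card with ha | ha
    · have hq3 : q = 2 := by
        by_contra hne
        exact Table.PosData.not_three_le H D ha (by omega)
      obtain ⟨m, F, iF, iT, hF, hm, he⟩ := Table.PosData.two_case H D ha hq3
      obtain ⟨-, ht, -, htq, -, -⟩ := Table.PosData.alpha_zero_basic H D ha
      have := Nat.mul_le_mul_right q ht
      exact Or.inr ⟨m, F, iF, iT, hF, hm, by omega, he⟩
    · obtain ⟨hk, htn, htq, -, hN'⟩ := Table.PosData.alpha_pos H D ha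
      subst hk
      rcases Nat.lt_or_ge n 2 with h | h
      · refine hPSL (by omega) ?_
        obtain rfl : n = 1 := by omega
        rw [← htq, htn]
      · exact (Table.PosData.not_k_one H D ha hN' h).elim
  · obtain ⟨h1, h2⟩ := T.neg_case H hδ
    exact hPSL h1 h2

/-- Brauer's recognition theorem for few Sylow subgroups. -/
theorem main [Finite G] (hperf : commutator G = ⊤) {p : ℕ} [Fact p.Prime] (S : Sylow p G)
    (hS : Nat.card (S : Subgroup G) = p)
    (hC : Subgroup.centralizer ((S : Subgroup G) : Set G) = (S : Subgroup G))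
    (hn : 2 * Nat.card (Sylow p G) < (p + 1) * (p + 2)) : IsLinTwo G p := by
  have hp : p.Prime := Fact.out
  have hnp := card_sylow_modEq_one p G
  obtain ⟨n, hnn⟩ : ∃ n, Nat.card (Sylow p G) = n * p + 1 := by
    refine ⟨Nat.card (Sylow p G) / p, ?_⟩
    have h1 := Nat.mod_add_div (Nat.card (Sylow p G)) p
    rw [hnp, Nat.mod_eq_of_lt hp.one_lt] at h1
    rw [mul_comm]
    omega
  refine main_nr hperf S hS hC hnn (nr_of_small ?_)
  rw [hnn] at hn
  by_contra hge
  have := Nat.mul_le_mul_right p (Nat.le_of_not_lt hge)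
  nlinarith

end Cfsg.Agent.SmallN
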