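import Mathlib.Algebra.Order.Ring.Int
import Mathlib.Tactic.Linarith
import Mathlib.Tactic.Ring
import Mathlib.Tactic.LinearCombination
import Mathlib.Data.Nat.Prime.Basic
import Mathlib.Data.Int.ModEq

/-!
The divisor lemma of Brauer's method.
-/

set_option autoImplicit false

namespace Cfsg.Agent.SmallN

/-- `n` is not of the form `(h u p + u ^ 2 + u + h) / (u + 1)`. -/
def NR (p n : ℕ) : Prop :=
  ∀ h u : ℕ, 0 < h → 0 < u → n * (u + 1) ≠ h * u * p + u ^ 2 + u + h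

theorem nr_of_small {p n : ℕ} (hs : 2 * n < p + 3) : NR p n := by
  intro h u hh hu he
  have h1 : 2 * n * (u + 1) ≤ (p + 2) * (u + 1) := Nat.mul_le_mul_right _ (by omega)
  have h2 : 1 * (u * p + 1) ≤ h * (u * p + 1) := Nat.mul_le_mul_right _ hh
  have h3 : 1 * p ≤ u * p := Nat.mul_le_mul_right _ hu
  have h4 : 1 * 1 ≤ u * u := Nat.mul_le_mul hu hu
  nlinarith

/-- A divisor of `(p - 1) (n p + 1)` congruent to one is `1` or `n p + 1`. -/
theorem factor_one {p n u b : ℕ} (hp : 2 ≤ p) (hnr : NR p n) (hu : 0 < u)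
    (h : (u * p + 1) * b = (p - 1) * (n * p + 1)) : u = n := by
  by_contra hne
  have e : ((u : ℤ) * p + 1) * b = ((p : ℤ) - 1) * (n * p + 1) := by
    have h' := congrArg (fun x : ℕ => (x : ℤ)) h
    push_cast [Nat.cast_sub (show 1 ≤ p by omega)] at h'
    exact h'
  obtain ⟨z, hz⟩ : ∃ z : ℤ, (b : ℤ) = (p : ℤ) - 1 + z * p :=
    ⟨((p : ℤ) - 1) * n - u * b, by linear_combination e⟩
  have key : ((p : ℤ) - 1) * ((n : ℤ) - u) = z * ((u : ℤ) * p + 1) := by
    rw [hz] at e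
    refine mul_left_cancel₀ (show (p : ℤ) ≠ 0 by omega) ?_
    linear_combination -e
  have hp1 : (0 : ℤ) < (p : ℤ) - 1 := by omega
  have hup : (0 : ℤ) < (u : ℤ) * p + 1 := by positivity
  have hz0 : 0 < z := by
    rcases lt_trichotomy z 0 with h0 | h0 | h0
    · exfalso
      have h1 : z * (p : ℤ) ≤ -1 * (p : ℤ) := mul_le_mul_of_nonneg_right (by omega) (by omega)
      omega
    · exfalso
      rw [h0, zero_mul] at key
      rcases mul_eq_zero.1 key with h1 | h1 <;> omega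
    · exact h0
  set H : ℤ := (n : ℤ) - u - u * z with hH
  have key2 : ((n : ℤ) - u) * ((u : ℤ) + 1) = ((u : ℤ) * p + 1) * H := by
    rw [hH]
    linear_combination -(u : ℤ) * key
  have hnu : 0 < (n : ℤ) - u := by
    have h1 : 0 < ((p : ℤ) - 1) * ((n : ℤ) - u) := key ▸ mul_pos hz0 hup
    exact (mul_pos_iff_of_pos_left hp1).1 h1
  have hH0 : 0 < H := by
    have h1 : 0 < ((u : ℤ) * p + 1) * H := key2 ▸ mul_pos hnu (by positivity)
    exact (mul_pos_iff_of_pos_left hup).1 h1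
  obtain ⟨k, hk⟩ : ∃ k : ℕ, (k : ℤ) = H := ⟨H.toNat, Int.toNat_of_nonneg hH0.le⟩
  refine hnr k u (by omega) hu ?_
  have : ((n * (u + 1) : ℕ) : ℤ) = ((k * u * p + u ^ 2 + u + k : ℕ) : ℤ) := by
    push_cast
    rw [hk]
    linear_combination key2
  exact_mod_cast this

/-- `n p + 1` has no two factors congruent to one. -/
theorem factor_two {p n a b : ℕ} (hp : 2 ≤ p) (hnr : NR p n) (ha : 0 < a) (hb : 0 < b)
    (h : (a * p + 1) * (b * p + 1) = n * p + 1) : False := by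
  obtain rfl : a = n := factor_one hp hnr ha
    (b := (b * p + 1) * (p - 1)) (by rw [← mul_assoc, h, mul_comm])
  have h1 : b * p + 1 = 1 := by
    have h2 : (a * p + 1) * (b * p + 1) = (a * p + 1) * 1 := by rw [h, mul_one]
    exact Nat.eq_of_mul_eq_mul_left (by omega) h2
  have := Nat.mul_pos hb (show 0 < p by omega)
  omega

/-- Divisors congruent to minus one. -/
theorem factor_neg {p n d : ℕ} (hp : 3 ≤ p) (hnr : NR p n) (hdvd : d ∣ (p - 1) * (n * p + 1))
    (hmod : (d : ℤ) ≡ -1 [ZMOD p]) : d + 1 = p ∨ d = (p - 1) * (n * p + 1) := by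
  obtain ⟨a, ha⟩ := hdvd
  have hp1 : 1 ≤ p := by omega
  have ha' : ((p : ℤ) - 1) * (n * p + 1) = d * a := by
    have h' := congrArg (fun x : ℕ => (x : ℤ)) ha
    push_cast [Nat.cast_sub hp1] at h'
    exact h'
  obtain ⟨w, hw⟩ := Int.modEq_iff_dvd.1 hmod
  obtain ⟨z, hz⟩ : ∃ z : ℤ, (a : ℤ) = z * p + 1 :=
    ⟨-(w * a) - ((p : ℤ) - 1) * n - 1, by linear_combination -(a : ℤ) * hw + ha'⟩
  have hz0 : 0 ≤ z := by
    by_contra hc
    have h1 : z * (p : ℤ) ≤ -1 * p := mul_le_mul_of_nonneg_right (by omega) (by omega)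
    omega
  rcases hz0.eq_or_lt with h0 | h0
  · right
    rw [← h0, zero_mul, zero_add] at hz
    rw [ha, show a = 1 by exact_mod_cast hz, mul_one]
  · left
    obtain ⟨u, rfl⟩ : ∃ u : ℕ, z = (u : ℤ) := ⟨z.toNat, (Int.toNat_of_nonneg hz0).symm⟩
    have hau : a = u * p + 1 := by exact_mod_cast hz
    rw [hau] at ha
    have hun : u = n := factor_one (show 2 ≤ p by omega) hnr (by exact_mod_cast h0)
      (b := d) (by rw [ha, mul_comm])
    rw [hun] at ha
    have := Nat.eq_of_mul_eq_mul_right (by positivity) ha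
    omega

/-- Degrees congruent to one. -/
theorem deg_plus {p n d : ℕ} (hp : 3 ≤ p) (hnr : NR p n)
    (hdvd : d ∣ (p - 1) * (n * p + 1)) (hd : 2 ≤ d)
    (hmod : (d : ℤ) ≡ 1 [ZMOD p]) : d = n * p + 1 := by
  obtain ⟨a, ha⟩ := hdvd
  obtain ⟨w, hw⟩ := Int.modEq_iff_dvd.1 hmod
  have hw0 : w < 0 := by
    by_contra hc
    have h1 : (0 : ℤ) ≤ (p : ℤ) * w := mul_nonneg (Nat.cast_nonneg p) (by omega)
    omega
  obtain ⟨u, hu⟩ : ∃ u : ℕ, w = -(u : ℤ) := ⟨w.natAbs, by omega⟩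
  have hdu : d = u * p + 1 := by
    have : (d : ℤ) = ((u * p + 1 : ℕ) : ℤ) := by
      rw [hu] at hw
      push_cast
      linarith
    exact_mod_cast this
  rw [hdu] at ha ⊢
  rw [factor_one (by omega) hnr (by omega) ha.symm]

/-- Degrees congruent to minus one. -/
theorem deg_minus {p n d : ℕ} (hp : 3 ≤ p) (hn : 0 < n) (hnr : NR p n)
    (hdvd : d ∣ (p - 1) * (n * p + 1)) (hsq : d ^ 2 < p * ((p - 1) * (n * p + 1)))
    (hmod : (d : ℤ) ≡ -1 [ZMOD p]) : d + 1 = p := by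
  refine (factor_neg hp hnr hdvd hmod).resolve_right fun h => ?_
  rw [← h, sq] at hsq
  have h1 := Nat.lt_of_mul_lt_mul_right hsq
  have h2 : 2 * (n * p + 1) ≤ d := h ▸ Nat.mul_le_mul_right _ (by omega)
  have h3 : 1 * p ≤ n * p := Nat.mul_le_mul_right _ hn
  omega

end Cfsg.Agent.SmallN
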