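import Cfsg.Agent.Lib.SmallN.Props
import Cfsg.Agent.Lib.Small.Burnside

/-!
Group theoretic consequences of the hypothesis, and a vanishing triple sum.
-/

set_option autoImplicit false
set_option linter.style.haveILetI false
set_option linter.unusedSectionVars false

namespace Cfsg.Agent.SmallN

open Cfsg Cfsg.Agent.Char Cfsg.Agent.Blocks Cfsg.Agent.BrauerPairs
open scoped ComplexConjugate Classical

universe u

variable {G : Type u} [Group G] [Fintype G]

/-- No two conjugates of `a`, `b` multiply to a conjugate of `y`. -/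
theorem sum_triple_eq_zero (a b y : G)
    (h : ∀ u v : G, IsConj a u → IsConj b v → ¬ IsConj (u * v) y) :
    ∑ χ : IrrCharacter G, (χ : G → ℂ) a * (χ : G → ℂ) b * conj ((χ : G → ℂ) y) / (χ : G → ℂ) 1 = 0 := by
  have key : ∀ χ : IrrCharacter G,
      ∑ u ∈ classFinset a, ∑ v ∈ classFinset b, (χ : G → ℂ) (u * v) =
        ((classFinset a).card : ℂ) * (classFinset b).card *
          ((χ : G → ℂ) a * (χ : G → ℂ) b / (χ : G → ℂ) 1) := by
    intro χ
    obtain ⟨n, ρ, hρ, hχ⟩ := χ.2
    haveI := hρ
    have hmul := congrArg₂ (fun A B => LinearMap.trace ℂ _ (A * B))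
      (Cfsg.Agent.Char.classSum_scalar ρ a) (Cfsg.Agent.Char.classSum_scalar ρ b)
    simp only [Finset.sum_mul, Finset.mul_sum, ← map_mul, map_sum, smul_mul_smul_comm,
      map_smul, smul_eq_mul] at hmul
    rw [← hχ, Finset.sum_comm]
    refine hmul.trans ?_
    rw [show (LinearMap.id : Module.End ℂ (Fin n → ℂ)) * LinearMap.id = LinearMap.id from rfl,
      LinearMap.trace_id, Representation.char_one, card_classFinset a, card_classFinset b]
    have hn : (Module.finrank ℂ (Fin n → ℂ) : ℂ) ≠ 0 :=
      Nat.cast_ne_zero.2 (finrank_pos_of_irreducible ρ).ne'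
    field_simp
  have hz : ∑ χ : IrrCharacter G, ((classFinset a).card : ℂ) * (classFinset b).card *
      ((χ : G → ℂ) a * (χ : G → ℂ) b / (χ : G → ℂ) 1) * conj ((χ : G → ℂ) y) = 0 := by
    simp only [← key, Finset.sum_mul]
    rw [Finset.sum_comm]
    refine Finset.sum_eq_zero fun u hu => ?_
    rw [Finset.sum_comm]
    refine Finset.sum_eq_zero fun v hv => ?_
    exact column_orth_of_not_isConj (h u v (mem_classFinset.1 hu) (mem_classFinset.1 hv))
  have hc : ∀ x : G, ((classFinset x).card : ℂ) ≠ 0 := fun x =>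
    Nat.cast_ne_zero.2 (Finset.card_ne_zero.2 ⟨x, mem_classFinset.2 (IsConj.refl x)⟩)
  refine mul_left_cancel₀ (mul_ne_zero (hc a) (hc b)) ?_
  rw [mul_zero, ← hz, Finset.mul_sum]
  exact Finset.sum_congr rfl fun χ _ => by ring

/-- A perfect group has order not `2` modulo `4`. -/
theorem card_mod_four (hperf : commutator G = ⊤) : Nat.card G % 4 ≠ 2 := by
  intro h
  obtain ⟨T⟩ : Nonempty (Sylow 2 G) := inferInstance
  haveI : Fact (Nat.Prime 2) := ⟨Nat.prime_two⟩
  have hT : Nat.card (T : Subgroup G) = 2 := by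
    obtain ⟨k, hk⟩ := IsPGroup.iff_card.1 T.2
    have hd := (T : Subgroup G).card_subgroup_dvd_card
    have h1 := T.dvd_card_of_dvd_card (by omega)
    rw [hk] at hd h1 ⊢
    rcases k with _ | _ | k
    · norm_num at h1
    · rfl
    · obtain ⟨m, hm⟩ := (pow_dvd_pow 2 (show 2 ≤ k + 2 by omega)).trans hd
      rw [hm] at h
      omega
  haveI : IsCyclic (T : Subgroup G) := isCyclic_of_prime_card hT
  obtain ⟨K, hK⟩ := Small.exists_index_two_of_cyclic (Nat.even_iff.2 (by omega)) T inferInstance
  haveI := Subgroup.normal_of_index_eq_two hK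
  haveI : Fact (Nat.Prime 2) := ⟨Nat.prime_two⟩
  haveI : IsCyclic (G ⧸ K) := isCyclic_of_prime_card (p := 2) (by rw [← Subgroup.index_eq_card, hK])
  letI : CommGroup (G ⧸ K) := IsCyclic.commGroup
  have hle := Abelianization.commutator_subset_ker (QuotientGroup.mk' K)
  rw [hperf, QuotientGroup.ker_mk'] at hle
  rw [top_le_iff.1 hle, Subgroup.index_top] at hK
  omega

namespace Hyp

variable {p : ℕ} {P Q : Subgroup G} {q n : ℕ} (H : Hyp p P Q q n)
include H

theorem P_le_normalizer_inf : P ≤ Subgroup.normalizer (P : Set G) := Subgroup.le_normalizer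

theorem not_normal : ¬ P.Normal := by
  intro h
  have hN := H.cardN
  rw [Subgroup.normalizer_eq_top_iff.2 h, Subgroup.card_top, H.cardG] at hN
  have h1 : p * q * (n * p + 1) = p * q * 1 := by rw [mul_one]; exact hN
  have := Nat.eq_of_mul_eq_mul_left (Nat.mul_pos H.hp.pos (by have := H.two_le; omega)) h1
  have := Nat.mul_pos H.npos H.hp.pos
  omega

/-- Every non-trivial normal subgroup contains `P`. -/
theorem le_of_normal {K : Subgroup G} (hK : K.Normal) (hne : K ≠ ⊥) : P ≤ K := by
  haveI := hK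
  by_contra hPK
  haveI : Fact p.Prime := ⟨H.hp⟩
  have hinf : ∀ {x : G}, x ∈ P → x ∈ K → x = 1 := by
    intro x hxP hxK
    by_contra hx1
    refine hPK ?_
    have hz : Subgroup.zpowers x = P := Subgroup.eq_of_le_of_card_ge
      (Subgroup.zpowers_le.2 hxP) (by
        rw [Nat.card_zpowers, H.cardP, ← H.cardP]
        have hd := Subgroup.orderOf_dvd_natCard P hxP
        rw [H.cardP] at hd
        rcases (Nat.dvd_prime H.hp).1 hd with h | h
        · exact absurd (orderOf_eq_one_iff.1 h) hx1
        · rw [h, H.cardP])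
    rw [← hz]
    exact Subgroup.zpowers_le.2 hxK
  -- the index of `K` is divisible by `pq`
  have hNK : ∀ {x : G}, x ∈ Subgroup.normalizer (P : Set G) → x ∈ K → x = 1 := by
    intro x hxN hxK
    refine hinf ?_ hxK
    rw [← H.cent, Subgroup.mem_centralizer_iff]
    intro y hy
    have h1 : x * y * x⁻¹ * y⁻¹ = 1 := by
      refine hinf (P.mul_mem ((Subgroup.mem_normalizer_iff.1 hxN y).1 hy) (P.inv_mem hy)) ?_
      rw [mul_assoc x, mul_assoc x]
      exact K.mul_mem hxK (hK.conj_mem _ (K.inv_mem hxK) y)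
    exact (mul_inv_eq_iff_eq_mul.1 (mul_inv_eq_one.1 h1)).symm
  let ψ : Subgroup.normalizer (P : Set G) →* G ⧸ K :=
    (QuotientGroup.mk' K).comp (Subgroup.normalizer (P : Set G)).subtype
  have hψ : Function.Injective ψ := (injective_iff_map_eq_one ψ).2 fun x hx =>
    Subtype.ext (hNK x.2 ((QuotientGroup.eq_one_iff _).1 hx))
  have hidx : p * q ∣ Nat.card (G ⧸ K) := by
    rw [← H.cardN]
    exact Subgroup.card_dvd_of_injective ψ hψ
  obtain ⟨j, hj⟩ := hidx
  have hcard : Nat.card K * j = n * p + 1 := by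
    have h := Subgroup.card_eq_card_quotient_mul_card_subgroup K
    rw [H.cardG, hj, mul_assoc (p * q)] at h
    rw [mul_comm]
    exact (Nat.eq_of_mul_eq_mul_left (Nat.mul_pos H.hp.pos (by have := H.two_le; omega)) h).symm
  -- the order of `K` is one modulo `p`
  have hK1 : Nat.card K ≡ 1 [MOD p] := by
    letI : MulAction P K := MulAction.compHom K
      ((MulAut.conjNormal (H := K)).comp P.subtype)
    have hP : IsPGroup p P := IsPGroup.of_card (n := 1) (by rw [pow_one, H.cardP])
    have h := hP.card_modEq_card_fixedPoints K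
    have hfix : Nat.card (MulAction.fixedPoints P K) = 1 := by
      rw [Nat.card_eq_one_iff_unique]
      refine ⟨⟨fun a b => Subtype.ext ?_⟩, ⟨⟨1, fun y => map_one (MulAut.conjNormal (H := K) (y : G))⟩⟩⟩
      have key : ∀ a : MulAction.fixedPoints P K, (a : K) = 1 := by
        intro a
        refine Subtype.ext (hNK ?_ (a : K).2)
        refine Subgroup.le_normalizer (H.cent.le ?_)
        rw [Subgroup.mem_centralizer_iff]
        intro y hy
        have h1 := congrArg Subtype.val (a.2 ⟨y, hy⟩)
        change ((MulAut.conjNormal y (a : K) : K) : G) = ((a : K) : G) at h1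
        rw [MulAut.conjNormal_apply] at h1
        exact mul_inv_eq_iff_eq_mul.1 h1
      rw [key a, key b]
    rwa [hfix] at h
  have hj1 : j ≡ 1 [MOD p] := by
    have h1 := hK1.mul_right j
    rw [hcard, one_mul] at h1
    exact h1.symm.trans (by simp [Nat.ModEq])
  have hcK : 2 ≤ Nat.card K := by
    have : Nat.card K ≠ 1 := fun h => hne (Subgroup.card_eq_one.1 h)
    have := Nat.card_pos (α := K)
    omega
  have hlow : ∀ m, m ≡ 1 [MOD p] → 2 ≤ m → p + 1 ≤ m := by
    intro m hm hm2
    by_contra hlt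
    rcases Nat.lt_or_ge m p with h | h
    · rw [Nat.ModEq, Nat.mod_eq_of_lt h, Nat.mod_eq_of_lt H.hp.one_lt] at hm
      omega
    · rw [show m = p by omega, Nat.ModEq, Nat.mod_self, Nat.mod_eq_of_lt H.hp.one_lt] at hm
      omega
  rcases Nat.lt_or_ge j 2 with hj2 | hj2
  · obtain rfl : j = 1 := by
      rcases j with _ | _ | j
      · simp at hcard
      · rfl
      · omega
    have hsurj : Function.Surjective ψ :=
      (Nat.bijective_iff_injective_and_card ψ).2 ⟨hψ, by rw [H.cardN, hj, mul_one]⟩ |>.2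
    let τ := MulEquiv.ofBijective ψ ⟨hψ, hsurj⟩
    -- `N(P) / P` is abelian, so `G` maps onto a nontrivial abelian group
    let f : G →* MulAut P :=
      (Subgroup.normalizerMonoidHom P).comp (τ.symm.toMonoidHom.comp (QuotientGroup.mk' K))
    haveI : IsCyclic P := isCyclic_of_prime_card H.cardP
    have hcomm : ∀ a b : MulAut P, a * b = b * a := fun a b => by
      refine (IsCyclic.mulAutMulEquiv P).injective ?_
      rw [map_mul, map_mul, mul_comm]
    letI : CommGroup (MulAut P) := { (inferInstance : Group (MulAut P)) with mul_comm := hcomm }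
    have hle := Abelianization.commutator_subset_ker f
    rw [H.perfect, top_le_iff] at hle
    have hN : Subgroup.normalizer (P : Set G) ≤ P := fun x hx => by
      have h1 : (QuotientGroup.mk' K x) = ψ ⟨x, hx⟩ := rfl
      have h2 : x ∈ f.ker := hle ▸ Subgroup.mem_top x
      rw [MonoidHom.mem_ker] at h2
      change Subgroup.normalizerMonoidHom P (τ.symm (QuotientGroup.mk' K x)) = 1 at h2
      rw [h1, show ψ ⟨x, hx⟩ = τ ⟨x, hx⟩ from rfl, τ.symm_apply_apply] at h2
      have h3 : (⟨x, hx⟩ : Subgroup.normalizer (P : Set G)) ∈ (Subgroup.normalizerMonoidHom P).ker :=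
        MonoidHom.mem_ker.2 h2
      rw [Subgroup.normalizerMonoidHom_ker, Subgroup.mem_subgroupOf, H.cent] at h3
      exact h3
    have h3 := Nat.le_of_dvd Nat.card_pos (Subgroup.card_dvd_of_le hN)
    rw [H.cardN, H.cardP] at h3
    have h4 : p * q ≤ p * 1 := by omega
    have := Nat.le_of_mul_le_mul_left h4 H.hp.pos
    have := H.two_le
    omega
  · have h1 := hlow _ hK1 hcK
    have h2 := hlow _ hj1 hj2
    have e1 := Nat.div_add_mod (Nat.card K) p
    have e2 := Nat.div_add_mod j p
    rw [hK1, Nat.mod_eq_of_lt H.hp.one_lt, mul_comm p] at e1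
    rw [hj1, Nat.mod_eq_of_lt H.hp.one_lt, mul_comm p] at e2
    refine factor_two H.hp.two_le H.nr (a := Nat.card K / p) (b := j / p) ?_ ?_ (by rw [e1, e2, hcard])
    · exact Nat.div_pos (by omega) H.hp.pos
    · exact Nat.div_pos (by omega) H.hp.pos

/-- Characters other than the principal one are faithful. -/
theorem eq_one_of_kernel {χ : IrrCharacter G} (hne : ∃ y ∈ P, (χ : G → ℂ) y ≠ (χ : G → ℂ) 1)
    {g : G} (hg : (χ : G → ℂ) g = (χ : G → ℂ) 1) : g = 1 := by
  obtain ⟨m, ρ, -, hχ⟩ := χ.2
  by_contra hg1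
  obtain ⟨y, hy, hy'⟩ := hne
  have hgk : g ∈ ρ.ker := by
    rw [← hχ] at hg
    rw [MonoidHom.mem_ker]
    exact (char_eq_degree_iff ρ g).1 (by rw [hg, Representation.char_one])
  have hk := (H.le_of_normal (MonoidHom.normal_ker ρ) fun h => hg1 (by rwa [h, Subgroup.mem_bot] at hgk)) hy
  rw [MonoidHom.mem_ker] at hk
  refine hy' ?_
  rw [← hχ]
  simp [Representation.character, hk]

end Hyp

end Cfsg.Agent.SmallN
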