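import Cfsg.Agent.Lib.SmallN.Main

/-!
The Sylow subgroup is self-centralizing when `n` is not representable and no nontrivial normal
subgroup has order prime to `p`.
-/

set_option autoImplicit false
set_option linter.style.haveILetI false
set_option linter.unusedSectionVars false

namespace Cfsg.Agent.SmallN

open Cfsg Cfsg.Agent.Char Cfsg.Agent.Blocks Cfsg.Agent.BrauerPairs
open scoped ComplexConjugate Classical

universe u

variable {G : Type u} [Group G] [Fintype G]

/-- The arithmetical contradiction for a nontrivial `V`. -/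
theorem cent_arith {p n e c : ℕ} (he : 2 ≤ e) (hep : e < p) (hn : 0 < n)
    (hc : c = 1 + (e - 1) * (n * p + 1)) (hd : c ∣ e * (n * p + 1) * e) : False := by
  have hcop : Nat.Coprime c (n * p + 1) := by
    rw [hc]
    exact Nat.coprime_add_mul_right_left 1 (n * p + 1) (e - 1) |>.2 (Nat.coprime_one_left _)
  rw [mul_right_comm] at hd
  have h1 := Nat.le_of_dvd (by positivity) (hcop.dvd_of_dvd_mul_right hd)
  obtain ⟨a, rfl⟩ : ∃ a, e = a + 2 := ⟨e - 2, by omega⟩
  rw [hc, show a + 2 - 1 = a + 1 by omega] at h1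
  have h2 : (a + 1) * (a + 4) ≤ (a + 1) * (n * p + 1) := by
    refine Nat.mul_le_mul_left _ ?_
    have : 1 * p ≤ n * p := Nat.mul_le_mul_right _ hn
    omega
  nlinarith

/-- With no normal subgroup of order prime to `p`, the Sylow subgroup is self-centralizing. -/
theorem centralizer_eq_of_nr {p : ℕ} [hpF : Fact p.Prime] (S : Sylow p G)
    (hS : Nat.card (S : Subgroup G) = p) (hperf : commutator G = ⊤)
    (hmin : ∀ N : Subgroup G, N.Normal → N ≠ ⊥ → p ∣ Nat.card N)
    {n : ℕ} (hn : Nat.card (Sylow p G) = n * p + 1) (hn0 : 0 < n) (hnr : NR p n) :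
    Subgroup.centralizer ((S : Subgroup G) : Set G) = (S : Subgroup G) := by
  have hp : p.Prime := Fact.out
  obtain ⟨V, e, K, -⟩ := DefOne.exists_conf hp S hS
  haveI : Fintype V := Fintype.ofFinite _
  haveI : Fintype (Subgroup.normalizer ((S : Subgroup G) : Set G)) := Fintype.ofFinite _
  haveI : Fintype ((S : Subgroup G) →* ℂˣ) := Fintype.ofFinite _
  set v := Nat.card V with hv
  have hcC : Nat.card (Subgroup.centralizer ((S : Subgroup G) : Set G)) = p * v :=
    DefOne.card_centralizer K
  have hle : (S : Subgroup G) ≤ Subgroup.centralizer ((S : Subgroup G) : Set G) := by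
    haveI : IsCyclic (S : Subgroup G) := isCyclic_of_prime_card hS
    letI := IsCyclic.commGroup (α := (S : Subgroup G))
    exact fun x hx => Subgroup.mem_centralizer_iff.2 fun t ht =>
      congrArg Subtype.val (mul_comm (⟨t, ht⟩ : (S : Subgroup G)) ⟨x, hx⟩)
  by_contra hcon
  have hv2 : 2 ≤ v := by
    by_contra h
    have hv1 : v = 1 := by have : 0 < v := Nat.card_pos; omega
    exact hcon (Subgroup.eq_of_le_of_card_ge hle (le_of_eq (by rw [hcC, hv1, mul_one, hS]))).symm
  have hcN : Nat.card (Subgroup.normalizer ((S : Subgroup G) : Set G)) = p * v * e := by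
    rw [K.D.hcard, K.hP, ← hv]; ring
  have hidxN : (Subgroup.normalizer ((S : Subgroup G) : Set G)).index = n * p + 1 :=
    (S.card_eq_index_normalizer).symm.trans hn
  have hG : Nat.card G = p * v * (e * (n * p + 1)) := by
    have h1 := Subgroup.card_mul_index (Subgroup.normalizer ((S : Subgroup G) : Set G))
    rw [hcN, hidxN] at h1
    rw [← h1]
    ring
  have hidx : (Subgroup.centralizer ((S : Subgroup G) : Set G)).index = e * (n * p + 1) := by
    have h1 := Subgroup.card_mul_index (Subgroup.centralizer ((S : Subgroup G) : Set G))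
    rw [hcC, hG] at h1
    exact Nat.eq_of_mul_eq_mul_left (Nat.mul_pos hp.pos (by omega)) h1
  have he2 : 2 ≤ e := by
    by_contra h
    rcases (show e = 0 ∨ e = 1 by omega) with h0 | h1
    · rw [h0, mul_zero] at hcN
      exact Nat.card_pos.ne' hcN
    · have hNC : Subgroup.normalizer ((S : Subgroup G) : Set G) ≤
          Subgroup.centralizer ((S : Subgroup G) : Set G) :=
        (Subgroup.eq_of_le_of_card_ge (Subgroup.centralizer_le_normalizer _)
          (le_of_eq (by rw [hcN, hcC, h1, mul_one]))).ge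
      obtain ⟨N, hNn, hN⟩ := Small.exists_normal_index_of_central
        (hS ▸ (S : Subgroup G).card_subgroup_dvd_card) S hNC
      haveI := hNn
      haveI : IsCyclic (G ⧸ N) := isCyclic_of_prime_card (p := p) (by rw [← Subgroup.index_eq_card, hN])
      letI : CommGroup (G ⧸ N) := IsCyclic.commGroup
      have h2 := commutator_le_of_comm (QuotientGroup.mk' N) fun a b => mul_comm a b
      rw [hperf, QuotientGroup.ker_mk'] at h2
      rw [top_le_iff.1 h2, Subgroup.index_top] at hN
      exact hp.ne_one hN.symm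
  obtain ⟨M, hM⟩ := exists_isPModular_witness p
  haveI : M.IsMaximal := hM.2.1
  obtain ⟨eb, X, Y, δ, sg, F⟩ := DefOne.exists_families K hM (DefOne.trivB V)
  have hee : eb = e := DefOne.eb_triv K F
  have hYc : Y.card * e = p - 1 := hee ▸ F.cardY
  have hY0 : 0 < Y.card := Finset.card_pos.2 F.nonempty
  have hep : e < p := by
    have h := Nat.mul_le_mul_right e hY0
    have := hp.two_le
    rw [Nat.succ_eq_add_one, zero_add, one_mul] at h
    omega
  have hB := DefOne.principal_eq K hM F
  have hmem : ∀ χ, χ ∈ X ∨ χ ∈ Y → χ ∈ principalBlock M G := fun χ h => by rw [hB]; exact h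
  haveI : Nontrivial (S : Subgroup G) :=
    Finite.one_lt_card_iff_nontrivial.1 (by rw [hS]; exact hp.one_lt)
  obtain ⟨y0, hy0⟩ := exists_ne (1 : (S : Subgroup G))
  have hy0' : (y0 : G) ≠ 1 := fun h => hy0 (Subtype.ext h)
  have hcy : ∀ y : (S : Subgroup G), y ≠ 1 →
      (Subgroup.centralizer ({(y : G)} : Set G)).index = e * (n * p + 1) := fun y hy => by
    rw [DefOne.centralizer_singleton_eq hp hS y.2 fun h => hy (Subtype.ext h)]
    exact hidx
  have hvX : ∀ χ ∈ X, ∀ y : (S : Subgroup G), y ≠ 1 → (χ : G → ℂ) y = (sg χ : ℂ) := fun χ hχ y hy => by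
    rw [← DefOne.phi_principal K hM (hmem χ (Or.inl hχ)) hy, DefOne.Families.phi_X K F hχ hy]
  -- values `±1` force the degree to divide the index of the centralizer
  have hdvdpm : ∀ (χ : IrrCharacter G) (s : ℤ), (s = 1 ∨ s = -1) → (χ : G → ℂ) y0 = (s : ℂ) →
      charDegree (χ : G → ℂ) ∣ e * (n * p + 1) := by
    intro χ s hs hval
    have hi := IsIrrCharacter.isIntegral_centralChar χ.2 (y0 : G)
    rw [hcy y0 hy0, hval, irr_one_eq_charDegree] at hi
    refine dvd_of_isIntegral_div (charDegree_pos χ).ne' ?_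
    rcases hs with rfl | rfl
    · simpa using hi
    · simpa [neg_div] using hi.neg
  have hne2 : ∀ χ : IrrCharacter G, χ ≠ principal G → 2 ≤ charDegree (χ : G → ℂ) := fun χ hne => by
    by_contra h
    refine hne (eq_principal_of_deg_one hperf ?_)
    rw [irr_one_eq_charDegree, show charDegree (χ : G → ℂ) = 1 by have := charDegree_pos χ; omega,
      Nat.cast_one]
  have hVN : V ≤ Subgroup.normalizer ((S : Subgroup G) : Set G) :=
    (DefOne.V_le_centralizer K).trans (Subgroup.centralizer_le_normalizer _)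
  -- degrees of characters with constant sign on `S`
  have hclass : ∀ (χ : IrrCharacter G), (χ ∈ X ∨ χ ∈ Y) → χ ≠ principal G → ∀ s : ℤ, (s = 1 ∨ s = -1) →
      (∀ y : (S : Subgroup G), y ≠ 1 → (χ : G → ℂ) y = (s : ℂ)) →
      (charDegree (χ : G → ℂ) : ℤ) ≡ s [ZMOD p] →
      (s = 1 ∧ charDegree (χ : G → ℂ) = n * p + 1) ∨
        (s = -1 ∧ e + 1 = p ∧ charDegree (χ : G → ℂ) = (p - 1) * (n * p + 1)) := by
    intro χ hχ hne' s hs hval hmod
    set d := charDegree (χ : G → ℂ) with hd
    have hdA := hdvdpm χ s hs (hval y0 hy0)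
    have hdp : d ∣ (p - 1) * (n * p + 1) := hdA.trans (mul_dvd_mul_right ⟨Y.card, by rw [← hYc, mul_comm]⟩ _)
    rcases hs with rfl | rfl
    · have h3 : 3 ≤ p := by omega
      exact Or.inl ⟨rfl, deg_plus h3 hnr hdp (hne2 χ hne') hmod⟩
    have h3 : 3 ≤ p := by omega
    rcases factor_neg h3 hnr hdp hmod with hdp1 | hdbig
    · -- `V` is in the kernel
      exfalso
      have hdp' : (d : ℂ) + 1 = p := by exact_mod_cast hdp1
      have hpz : (p : ℂ) ≠ 0 := Nat.cast_ne_zero.2 hp.ne_zero
      have hvalV : ∀ x : V, fixFun (S : Subgroup G) V (χ : G → ℂ) x =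
          (p : ℂ)⁻¹ * ((χ : G → ℂ) x - ((p : ℂ) - 1)) := by
        intro x
        rw [fixFun, hS, ← Finset.add_sum_erase _ _ (Finset.mem_univ (1 : (S : Subgroup G)))]
        congr 1
        rw [OneMemClass.coe_one, mul_one,
          Finset.sum_congr rfl (g := fun _ => (-1 : ℂ)) fun y hy => by
            have hy' := Finset.ne_of_mem_erase hy
            rw [(K.D.pv y y.2 x x.2).symm,
              DefOne.section_const K hM (hmem χ hχ) y.2 (fun e => hy' (Subtype.ext e)) x.2, hval y hy']
            norm_num,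
          Finset.sum_const, Finset.card_erase_of_mem (Finset.mem_univ _), Finset.card_univ,
          ← Nat.card_eq_fintype_card, hS, nsmul_eq_mul, Nat.cast_sub hp.pos, Nat.cast_one]
        ring
      have hzero : fixFun (S : Subgroup G) V (χ : G → ℂ) = 0 := by
        refine IsCharacter.eq_zero_of_one (isCharacter_fixFun _ _ hVN (IsIrrCharacter.isCharacter χ.2)) ?_
        rw [hvalV, OneMemClass.coe_one, irr_one_eq_charDegree, ← hd]
        linear_combination (p : ℂ)⁻¹ * hdp'
      haveI : Nontrivial V := Finite.one_lt_card_iff_nontrivial.1 hv2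
      obtain ⟨x, hx⟩ := exists_ne (1 : V)
      have hχx : (χ : G → ℂ) x = (χ : G → ℂ) 1 := by
        have h := hvalV x
        rw [hzero, Pi.zero_apply, eq_comm, mul_eq_zero, inv_eq_zero, or_iff_right hpz, sub_eq_zero] at h
        rw [h, irr_one_eq_charDegree, ← hd]
        linear_combination -hdp'
      obtain ⟨N, hN, hNmem, -⟩ := IsCharacter.exists_kernel (IsIrrCharacter.isCharacter χ.2)
      have hNne : N ≠ ⊥ := fun h => hx (Subtype.ext (by
        have h1 := (hNmem x).2 hχx
        rw [h, Subgroup.mem_bot] at h1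
        exact h1))
      -- so it contains `S`
      obtain ⟨w, hw⟩ := exists_prime_orderOf_dvd_card' (G := N) p (hmin N hN hNne)
      have hwo : orderOf (w : G) = p := by rw [Subgroup.orderOf_coe, hw]
      have hwc : Nat.card (Subgroup.zpowers (w : G)) = p ^ (Nat.card G).factorization p := by
        rw [Nat.card_zpowers, hwo, ← S.card_eq_multiplicity, hS]
      obtain ⟨g, hg⟩ := MulAction.exists_smul_eq G (Sylow.ofCard _ hwc) S
      have hy0S : (y0 : G) ∈ ((g • Sylow.ofCard _ hwc : Sylow p G) : Subgroup G) := by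
        have h0 : ∀ T : Sylow p G, T = S → (y0 : G) ∈ (T : Subgroup G) := by
          rintro T rfl
          exact y0.2
        exact h0 _ hg
      rw [Sylow.coe_subgroup_smul] at hy0S
      obtain ⟨u, hu, huy⟩ := (Subgroup.mem_smul_pointwise_iff_exists _ _ _).1 hy0S
      have huy' : g * u * g⁻¹ = (y0 : G) := huy
      have hyN : (y0 : G) ∈ N := huy' ▸ hN.conj_mem u (Subgroup.zpowers_le.2 w.2 hu) g
      have h1 := (hNmem _).1 hyN
      rw [hval y0 hy0, irr_one_eq_charDegree, ← hd] at h1
      push_cast at h1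
      have : (((d + 1 : ℕ)) : ℂ) = ((0 : ℕ) : ℂ) := by push_cast; linear_combination -h1
      norm_cast at this
    · refine Or.inr ⟨rfl, ?_, hdbig⟩
      have h1 : d ≤ e * (n * p + 1) := Nat.le_of_dvd (Nat.mul_pos (by omega) (Nat.succ_pos _)) hdA
      rw [hdbig] at h1
      have h2 := Nat.le_of_mul_le_mul_right h1 (Nat.succ_pos _)
      omega
  have hYsum : ∀ θ ∈ Y, ∑ y ∈ Finset.univ.erase (1 : (S : Subgroup G)), (θ : G → ℂ) y = (δ : ℂ) * e := by
    intro θ hθ
    rw [Finset.sum_congr rfl fun y hy => ((DefOne.phi_principal K hM (hmem θ (Or.inr hθ))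
        (Finset.ne_of_mem_erase hy)).symm).trans
      (DefOne.phi_eq_acoef K θ (DefOne.trivB V) (Finset.ne_of_mem_erase hy)), Finset.sum_neg_distrib,
      Finset.sum_comm]
    simp only [← Finset.mul_sum]
    have hl : ∀ l : (S : Subgroup G) →* ℂˣ,
        ∑ y ∈ Finset.univ.erase (1 : (S : Subgroup G)), ((l y : ℂˣ) : ℂ) =
          (if l = 1 then (p : ℂ) else 0) - 1 := by
      intro l
      have h := Finset.add_sum_erase Finset.univ (fun y : (S : Subgroup G) => ((l y : ℂˣ) : ℂ))
        (Finset.mem_univ 1)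
      simp only [map_one, Units.val_one] at h
      rw [eq_sub_iff_add_eq, add_comm, h]
      split_ifs with h1
      · subst h1
        simp [← Nat.card_eq_fintype_card, hS]
      · exact sum_hom_units_eq_zero ((Units.coeHom ℂ).comp l) fun e =>
          h1 (MonoidHom.ext fun y => Units.ext (DFunLike.congr_fun e y))
    simp only [hl, mul_sub, mul_ite, mul_zero, mul_one, Finset.sum_sub_distrib, Finset.sum_ite_eq',
      Finset.mem_univ, if_true, DefOne.acoef_one, Int.cast_zero, zero_mul, zero_sub, neg_neg]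
    rw [← Int.cast_sum, F.sumY θ hθ, hee]
    push_cast
    ring
  obtain ⟨θ, hθ⟩ := F.nonempty
  have hrel := DefOne.Families.relation K F hθ (g := 1) (by simpa using hp.ne_one)
  have hA2 : 2 ≤ n * p + 1 := by
    have := Nat.mul_pos hn0 hp.pos
    omega
  have hpr : principal G ∈ X ∨ principal G ∈ Y := by
    have := principal_mem_principalBlock (M := M) (G := G)
    rw [hB] at this
    exact this
  by_cases hw : Y.card = 1
  · -- every degree but one is a multiple of `n p + 1`
    have hY1 : Y = {θ} := by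
      obtain ⟨a, ha⟩ := Finset.card_eq_one.1 hw
      rw [ha, Finset.mem_singleton] at hθ
      rw [ha, hθ]
    have heq : e + 1 = p := by rw [hw, one_mul] at hYc; omega
    have hall : ∀ l : (S : Subgroup G) →* ℂˣ, l ≠ 1 → DefOne.acoef K θ (DefOne.trivB V) l = δ := by
      by_contra hcon'
      push Not at hcon'
      obtain ⟨l, hl, hla⟩ := hcon'
      have h0 : DefOne.acoef K θ (DefOne.trivB V) l = 0 := (F.valY θ hθ l).resolve_right hla
      have hb : ∀ m, δ * DefOne.acoef K θ (DefOne.trivB V) m ≤ 1 := fun m => by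
        rcases F.valY θ hθ m with e | e <;> rw [e] <;> rcases F.sign with e' | e' <;> simp [e']
      have hne1 : l ∈ Finset.univ.erase (1 : (S : Subgroup G) →* ℂˣ) :=
        Finset.mem_erase.2 ⟨hl, Finset.mem_univ _⟩
      have h := F.sumY θ hθ
      rw [← Finset.add_sum_erase _ _ (Finset.mem_univ (1 : (S : Subgroup G) →* ℂˣ)), DefOne.acoef_one,
        zero_add, ← Finset.add_sum_erase _ _ hne1, h0, zero_add, hee] at h
      have h2 := congrArg (δ * ·) h
      simp only [Finset.mul_sum, ← mul_assoc,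
        show δ * δ = 1 by rcases F.sign with e | e <;> rw [e] <;> norm_num, one_mul] at h2
      have h3 := Finset.sum_le_card_nsmul ((Finset.univ.erase (1 : (S : Subgroup G) →* ℂˣ)).erase l)
        (fun m => δ * DefOne.acoef K θ (DefOne.trivB V) m) 1 fun m _ => hb m
      rw [h2, Finset.card_erase_of_mem hne1, Finset.card_erase_of_mem (Finset.mem_univ _),
        Finset.card_univ, CCSylow.card_dual K.D, hS, nsmul_eq_mul, mul_one] at h3
      omega
    have hvθ : ∀ y : (S : Subgroup G), y ≠ 1 → (θ : G → ℂ) y = (δ : ℂ) := by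
      intro y hy
      rw [← DefOne.phi_principal K hM (hmem θ (Or.inr hθ)) hy, DefOne.phi_eq_acoef K θ _ hy]
      have h := CCSylow.sum_linear K.D y
      rw [if_neg hy, ← Finset.add_sum_erase _ _ (Finset.mem_univ (1 : (S : Subgroup G) →* ℂˣ))] at h
      rw [← Finset.add_sum_erase _ _ (Finset.mem_univ (1 : (S : Subgroup G) →* ℂˣ)), DefOne.acoef_one,
        Int.cast_zero, zero_mul, zero_add, Finset.sum_congr rfl fun l hl => by
          rw [hall l (Finset.ne_of_mem_erase hl)], ← Finset.mul_sum]
      simp only [MonoidHom.one_apply, Units.val_one] at h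
      linear_combination -(δ : ℂ) * h
    set s : IrrCharacter G → ℤ := fun χ => if χ ∈ X then sg χ else δ with hs
    have hsX : ∀ χ ∈ X, s χ = sg χ := fun χ h => if_pos h
    have hsY : s θ = δ := if_neg fun h => Finset.disjoint_left.1 F.disj h hθ
    have hsv : ∀ χ ∈ X ∪ Y, (s χ = 1 ∨ s χ = -1) ∧
        (charDegree (χ : G → ℂ) : ℤ) ≡ s χ [ZMOD p] ∧
        ∀ y : (S : Subgroup G), y ≠ 1 → (χ : G → ℂ) y = (s χ : ℂ) := by
      intro χ hχ
      have hd := DefOne.degree_congr K hM (hmem χ (Finset.mem_union.1 hχ))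
      rcases Finset.mem_union.1 hχ with h | h
      · rw [hsX χ h]
        rw [DefOne.Families.sum_X K F h] at hd
        exact ⟨F.signX χ h, hd.trans (Int.modEq_iff_dvd.2 ⟨sg χ, by ring⟩), hvX χ h⟩
      · rw [hY1, Finset.mem_singleton] at h
        subst h
        rw [hsY]
        rw [F.sumY χ hθ, hee] at hd
        refine ⟨F.sign, hd.trans (Int.modEq_iff_dvd.2 ⟨δ, ?_⟩), hvθ⟩
        have hq' : (e : ℤ) + 1 = p := by exact_mod_cast heq
        linear_combination δ * hq'
    have hprU : principal G ∈ X ∪ Y := Finset.mem_union.2 hpr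
    have hs1 : s (principal G) = 1 := by
      have := (hsv _ hprU).2.2 y0 hy0
      simp only [principal] at this
      exact_mod_cast this.symm
    have hmult : ∀ χ ∈ (X ∪ Y).erase (principal G), ∃ z : ℤ,
        (s χ : ℂ) * (χ : G → ℂ) 1 = ((z * ((n : ℤ) * p + 1) : ℤ) : ℂ) := by
      intro χ hχ
      have h := hsv χ (Finset.mem_of_mem_erase hχ)
      rcases hclass χ (Finset.mem_union.1 (Finset.mem_of_mem_erase hχ)) (Finset.ne_of_mem_erase hχ)
        (s χ) h.1 h.2.2 h.2.1 with ⟨h1, h2⟩ | ⟨h1, -, h2⟩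
      · exact ⟨1, by rw [h1, irr_one_eq_charDegree, h2]; push_cast; ring⟩
      · refine ⟨-((p : ℤ) - 1), ?_⟩
        rw [h1, irr_one_eq_charDegree, h2, Nat.cast_mul, Nat.cast_sub hp.pos]
        push_cast
        ring
    choose z hz using hmult
    have e1 : ∑ χ ∈ X ∪ Y, (s χ : ℂ) * (χ : G → ℂ) 1 = 0 := by
      rw [← hrel, Finset.sum_union F.disj, hY1, Finset.sum_singleton, hsY]
      congr 1
      exact Finset.sum_congr rfl fun χ hχ => by rw [hsX χ hχ]
    rw [← Finset.add_sum_erase _ _ hprU, hs1, ← Finset.sum_attach,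
      Finset.sum_congr rfl fun (χ : {x // x ∈ (X ∪ Y).erase (principal G)}) _ => hz χ.1 χ.2,
      ← Int.cast_sum, ← Finset.sum_mul, show ((principal G : IrrCharacter G) : G → ℂ) 1 = 1 from rfl,
      Int.cast_one, one_mul] at e1
    set Zt := ∑ χ ∈ ((X ∪ Y).erase (principal G)).attach, z χ.1 χ.2
    have e2 : ((n : ℤ) * p + 1) ∣ 1 := ⟨-Zt, by
      have : ((1 + Zt * ((n : ℤ) * p + 1) : ℤ) : ℂ) = ((0 : ℤ) : ℂ) := by push_cast at e1 ⊢; exact e1
      have h := Int.cast_injective this
      linear_combination h⟩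
    have e3 := Int.le_of_dvd (by norm_num) e2
    have : (2 : ℤ) ≤ (n : ℤ) * p + 1 := by exact_mod_cast hA2
    omega
  · -- all nonprincipal degrees of the first family are `n p + 1`
    have hYc2 : 2 ≤ Y.card := by omega
    have he1 : e + 1 ≠ p := fun h => by
      have := Nat.mul_le_mul_right e hYc2
      omega
    have hprin : principal G ∈ X := by
      refine hpr.resolve_right fun h => ?_
      have : Y = {principal G} := Finset.eq_singleton_iff_unique_mem.2 ⟨h, fun θ hθ => by
        obtain ⟨σ, -, rfl⟩ := F.transY _ h θ hθ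
        exact Subtype.ext (funext fun g => map_one σ)⟩
      rw [this, Finset.card_singleton] at hYc2
      omega
    have hsg1 : sg (principal G) = 1 := by
      have := hvX _ hprin y0 hy0
      simp only [principal] at this
      exact_mod_cast this.symm
    have hdeg : ∀ χ ∈ X.erase (principal G), sg χ = 1 ∧ (χ : G → ℂ) 1 = (n : ℂ) * p + 1 := by
      intro χ hχ
      have hχX := Finset.mem_of_mem_erase hχ
      have hd := DefOne.degree_congr K hM (hmem χ (Or.inl hχX))
      rw [DefOne.Families.sum_X K F hχX] at hd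
      rcases hclass χ (Or.inl hχX) (Finset.ne_of_mem_erase hχ) (sg χ) (F.signX χ hχX)
        (hvX χ hχX) (hd.trans (Int.modEq_iff_dvd.2 ⟨sg χ, by ring⟩)) with ⟨h1, h2⟩ | ⟨-, h2, -⟩
      · exact ⟨h1, by rw [irr_one_eq_charDegree, h2]; push_cast; ring⟩
      · exact absurd h2 he1
    rw [← Finset.add_sum_erase _ _ hprin, hsg1,
      Finset.sum_congr rfl fun χ hχ => by rw [(hdeg χ hχ).1, (hdeg χ hχ).2],
      Finset.sum_const, Finset.card_erase_of_mem hprin, F.cardX, hee, nsmul_eq_mul,
      irr_one_eq_charDegree θ,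
      show ((principal G : IrrCharacter G) : G → ℂ) 1 = 1 from rfl] at hrel
    set c := charDegree (θ : G → ℂ) with hc
    have hrelZ : (1 : ℤ) + ((e - 1 : ℕ) : ℤ) * ((n : ℤ) * p + 1) + δ * (c : ℤ) = 0 := by
      have h : (((1 : ℤ) + ((e - 1 : ℕ) : ℤ) * ((n : ℤ) * p + 1) + δ * (c : ℤ) : ℤ) : ℂ) = ((0 : ℤ) : ℂ) := by
        push_cast at hrel ⊢
        linear_combination hrel
      exact_mod_cast h
    have hceq : c = 1 + (e - 1) * (n * p + 1) := by
      rcases F.sign with h | h <;> rw [h] at hrelZ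
      · exfalso
        have : (0 : ℤ) ≤ ((e - 1 : ℕ) : ℤ) * ((n : ℤ) * p + 1) := by positivity
        omega
      · have : ((c : ℕ) : ℤ) = ((1 + (e - 1) * (n * p + 1) : ℕ) : ℤ) := by push_cast; linarith
        exact_mod_cast this
    refine cent_arith he2 hep hn0 hceq ?_
    refine dvd_of_isIntegral_div (charDegree_pos θ).ne' ?_
    have hint : IsIntegral ℤ (∑ y ∈ Finset.univ.erase (1 : (S : Subgroup G)),
        ((Subgroup.centralizer ({(y : G)} : Set G)).index : ℂ) * (θ : G → ℂ) y / (θ : G → ℂ) 1) :=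
      IsIntegral.sum _ fun y _ => IsIrrCharacter.isIntegral_centralChar θ.2 (y : G)
    rw [Finset.sum_congr rfl fun y hy => by rw [hcy y (Finset.ne_of_mem_erase hy)], ← Finset.sum_div,
      ← Finset.mul_sum, hYsum θ hθ, irr_one_eq_charDegree, ← hc] at hint
    rcases F.sign with h | h <;> rw [h] at hint
    · simpa using hint
    · simpa [neg_div] using hint.neg

end Cfsg.Agent.SmallN
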