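import Cfsg.Agent.S0999
import Cfsg.Agent.Lib.Classical.DicksonProper

/-!
Perfect groups of order less than the cube of a prime divisor.
-/

set_option autoImplicit false
set_option linter.style.haveILetI false
set_option linter.unusedSectionVars false

namespace Cfsg.Agent.SmallN

open Cfsg
open scoped Classical

universe u v

theorem IsLinTwo.congr {G : Type u} [Group G] {H : Type v} [Group H] {p : ℕ} (e : G ≃* H)
    (h : IsLinTwo H p) : IsLinTwo G p := by
  rcases h with ⟨F, i1, i2, h1, h2, ⟨f⟩⟩ | ⟨m, F, i1, i2, h1, h2, h3, ⟨f⟩⟩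
  · exact Or.inl ⟨F, i1, i2, h1, h2, ⟨e.trans f⟩⟩
  · exact Or.inr ⟨m, F, i1, i2, h1, h2, h3, ⟨e.trans f⟩⟩

theorem two_pow_odd {m : ℕ} (hm : 0 < m) : Nat.gcd 2 (2 ^ m - 1) = 1 := by
  refine (Nat.prime_two.coprime_iff_not_dvd).2 fun h => ?_
  have h1 : 2 ∣ 2 ^ m := dvd_pow_self 2 (by omega)
  have := Nat.one_le_two_pow (n := m)
  omega

/-- The groups of the conclusion are large. -/
theorem IsLinTwo.card_big {G : Type u} [Group G] {p : ℕ} (h : IsLinTwo G p) :
    p ^ 3 < 3 * Nat.card G := by
  rcases h with ⟨F, i1, i2, h1, h2, ⟨e⟩⟩ | ⟨m, F, i1, i2, h1, h2, h3, ⟨e⟩⟩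
  · rw [Nat.card_congr e.toEquiv]
    have h := Cfsg.Agent.Dickson.gcd_mul_card_psl (K := F)
    rw [Nat.card_eq_fintype_card (α := F), h1] at h
    have hg : Nat.gcd 2 (p - 1) ≤ 2 := Nat.gcd_le_left _ (by norm_num)
    have h4 := Nat.mul_le_mul_right
      (Nat.card (Matrix.ProjectiveSpecialLinearGroup (Fin 2) F)) hg
    rw [h] at h4
    obtain ⟨a, rfl⟩ : ∃ a, p = a + 4 := ⟨p - 4, by omega⟩
    rw [show (a + 4) ^ 2 - 1 = a ^ 2 + 8 * a + 15 by ring_nf; omega] at h4
    nlinarith
  · rw [Nat.card_congr e.toEquiv]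
    have hm : 2 ≤ m := by
      by_contra h
      interval_cases m <;> simp at h2 <;> omega
    have h := Cfsg.Agent.Dickson.gcd_mul_card_psl (K := F)
    rw [Nat.card_eq_fintype_card (α := F), h1, two_pow_odd (by omega), one_mul] at h
    rw [h]
    have h4 : 2 ^ 2 ≤ 2 ^ m := Nat.pow_le_pow_right (by norm_num) hm
    subst h2
    generalize 2 ^ m = r at h4 h ⊢
    obtain ⟨a, rfl⟩ : ∃ a, r = a + 4 := ⟨r - 4, by omega⟩
    rw [show (a + 4) ^ 2 - 1 = a ^ 2 + 8 * a + 15 by ring_nf; omega]
    nlinarith

variable {G : Type u} [Group G] [Finite G] {p : ℕ} [Fact p.Prime]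

/-- A perfect group has no normal Sylow subgroup of prime order. -/
theorem not_normal_of_perfect (hperf : commutator G = ⊤) (S : Sylow p G)
    (hS : Nat.card (S : Subgroup G) = p) : ¬ (S : Subgroup G).Normal := by
  intro hn
  haveI : IsCyclic (S : Subgroup G) := isCyclic_of_prime_card hS
  have hautC : ∀ a b : MulAut (S : Subgroup G), Commute a b := fun a b => by
    refine (IsCyclic.mulAutMulEquiv (S : Subgroup G)).injective ?_
    rw [map_mul, map_mul, mul_comm]
  haveI := hn
  have hle := commutator_le_of_comm (MulAut.conjNormal (H := (S : Subgroup G))) hautC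
  rw [hperf, top_le_iff] at hle
  have hc : Subgroup.normalizer ((S : Subgroup G) : Set G) ≤
      Subgroup.centralizer ((S : Subgroup G) : Set G) := fun g _ => by
    rw [Subgroup.mem_centralizer_iff]
    intro y hy
    have hg : g ∈ (MulAut.conjNormal (H := (S : Subgroup G))).ker := hle ▸ Subgroup.mem_top g
    have h1 := congrArg Subtype.val (MulEquiv.congr_fun (MonoidHom.mem_ker.1 hg) ⟨y, hy⟩)
    rw [MulAut.conjNormal_apply] at h1
    exact (mul_inv_eq_iff_eq_mul.1 h1).symm
  obtain ⟨K, hKn, hK⟩ := Small.exists_normal_index_of_central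
    (hS ▸ (S : Subgroup G).card_subgroup_dvd_card) S hc
  haveI := hKn
  haveI : IsCyclic (G ⧸ K) := isCyclic_of_prime_card (p := p) (by rw [← Subgroup.index_eq_card, hK])
  letI : CommGroup (G ⧸ K) := IsCyclic.commGroup
  have h2 := commutator_le_of_comm (QuotientGroup.mk' K) fun a b => mul_comm a b
  rw [hperf, QuotientGroup.ker_mk'] at h2
  rw [top_le_iff.1 h2, Subgroup.index_top] at hK
  exact (Fact.out : p.Prime).ne_one hK.symm

/-- All nontrivial normal subgroups of order divisible by `p`. -/
theorem linTwo_of_normal_dvd (hperf : commutator G = ⊤) (hdvd : p ∣ Nat.card G)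
    (hsq : ¬ p ^ 2 ∣ Nat.card G) (hbig : Nat.card G < p ^ 3)
    (hmin : ∀ N : Subgroup G, N.Normal → N ≠ ⊥ → p ∣ Nat.card N) : IsLinTwo G p := by
  have hp : p.Prime := Fact.out
  obtain ⟨S⟩ : Nonempty (Sylow p G) := inferInstance
  have hS : Nat.card (S : Subgroup G) = p := by
    obtain ⟨k, hk⟩ := IsPGroup.iff_card.1 S.2
    have h1 := S.dvd_card_of_dvd_card hdvd
    have h2 := (S : Subgroup G).card_subgroup_dvd_card
    rw [hk] at h1 h2
    rcases k with _ | _ | k
    · simp at h1; exact absurd h1 hp.ne_one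
    · rw [hk, pow_one]
    · exact absurd ((pow_dvd_pow p (show 2 ≤ k + 2 by omega)).trans h2) hsq
  haveI : Nontrivial G := Finite.one_lt_card_iff_nontrivial.1
    (lt_of_lt_of_le hp.one_lt (Nat.le_of_dvd Nat.card_pos hdvd))
  -- a minimal normal subgroup
  obtain ⟨K, ⟨hKn, hKne⟩, hKmin⟩ :
      ∃ K : Subgroup G, (K.Normal ∧ K ≠ ⊥) ∧ ∀ L, L.Normal ∧ L ≠ ⊥ → L ≤ K → K ≤ L := by
    obtain ⟨K, -, hK⟩ := Finite.exists_le_minimal (p := fun K : Subgroup G => K.Normal ∧ K ≠ ⊥)
      (a := ⊤) ⟨inferInstance, top_ne_bot⟩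
    exact ⟨K, hK.1, fun L hL hle => hK.2 hL hle⟩
  haveI := hKn
  have hpK := hmin K hKn hKne
  haveI : Nontrivial K := (Subgroup.nontrivial_iff_ne_bot K).2 hKne
  haveI hKs : IsSimpleGroup K := by
    refine ⟨fun L hL => ?_⟩
    by_cases hdL : p ∣ Nat.card L
    · right
      -- `L` contains all elements of order `p`
      haveI := hL
      have hall : ∀ x : K, orderOf x = p → x ∈ L := by
        intro x hx
        obtain ⟨w, hw⟩ := exists_prime_orderOf_dvd_card' (G := L) p hdL
        have hwo : orderOf (w : K) = p := by rw [Subgroup.orderOf_coe, hw]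
        have hsyl : ∀ y : K, orderOf y = p →
            Nat.card (Subgroup.zpowers y) = p ^ (Nat.card K).factorization p := by
          intro y hy
          rw [Nat.card_zpowers, hy]
          have h1 : (Nat.card K).factorization p = 1 := by
            refine le_antisymm ?_ ((hp.dvd_iff_one_le_factorization Nat.card_pos.ne').1 hpK)
            by_contra h2
            exact hsq (((Nat.Prime.pow_dvd_iff_le_factorization hp Nat.card_pos.ne').2 (by omega)).trans
              K.card_subgroup_dvd_card)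
          rw [h1, pow_one]
        obtain ⟨g, hg⟩ := MulAction.exists_smul_eq K (Sylow.ofCard _ (hsyl _ hwo))
          (Sylow.ofCard _ (hsyl _ hx))
        have hle : (Sylow.ofCard _ (hsyl _ hwo) : Subgroup K) ≤ L := Subgroup.zpowers_le.2 w.2
        have hxm : x ∈ (Sylow.ofCard _ (hsyl _ hx) : Subgroup K) := Subgroup.mem_zpowers x
        rw [← hg, Sylow.coe_subgroup_smul] at hxm
        obtain ⟨y, hy, hyx⟩ := (Subgroup.mem_smul_pointwise_iff_exists _ _ _).1 hxm
        have hyx' : g * y * g⁻¹ = x := hyx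
        rw [← hyx']
        exact hL.conj_mem y (hle hy) g
      let E : Set G := {x | x ∈ K ∧ orderOf x = p}
      have hEn : (Subgroup.closure E).Normal := ⟨fun y hy g => by
        have h1 : (Subgroup.closure E).map (MulAut.conj g).toMonoidHom ≤ Subgroup.closure E := by
          rw [MonoidHom.map_closure]
          refine Subgroup.closure_mono ?_
          rintro _ ⟨x, hx, rfl⟩
          exact ⟨hKn.conj_mem x hx.1 g, ((MulAut.conj g).orderOf_eq x).trans hx.2⟩
        exact h1 ⟨y, hy, rfl⟩⟩
      have hEle : Subgroup.closure E ≤ L.map K.subtype := (Subgroup.closure_le _).2 fun x hx =>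
        ⟨⟨x, hx.1⟩, hall _ ((Subgroup.orderOf_mk _ _).trans hx.2), rfl⟩
      have hEne : Subgroup.closure E ≠ ⊥ := by
        obtain ⟨w, hw⟩ := exists_prime_orderOf_dvd_card' (G := K) p hpK
        intro h
        have h1 : (w : G) ∈ Subgroup.closure E :=
          Subgroup.subset_closure ⟨w.2, by rw [Subgroup.orderOf_coe, hw]⟩
        rw [h, Subgroup.mem_bot] at h1
        rw [show w = 1 from Subtype.ext h1, orderOf_one] at hw
        exact hp.ne_one hw.symm
      have hKle := hKmin _ ⟨hEn, hEne⟩ (hEle.trans (Subgroup.map_subtype_le L))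
      rw [eq_top_iff]
      intro x _
      obtain ⟨y, hy, hyx⟩ := hEle (hKle x.2)
      rwa [show x = y from Subtype.ext hyx.symm]
    · left
      -- a largest normal `p'`-subgroup of `K` is normal in `G`
      obtain ⟨O, -, hO⟩ := Finite.exists_le_maximal
        (p := fun O : Subgroup K => O.Normal ∧ ¬ p ∣ Nat.card O) (a := L) ⟨hL, hdL⟩
      have hsupd : ∀ A B : Subgroup K, A.Normal → ¬ p ∣ Nat.card A → ¬ p ∣ Nat.card B →
          ¬ p ∣ Nat.card (A ⊔ B : Subgroup K) := by
        intro A B hA h1 h2 h3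
        haveI := hA
        have e : A.relIndex (A ⊔ B) = A.relIndex B := by rw [sup_comm, Subgroup.relIndex_sup_right]
        have h4 : A.relIndex B ∣ Nat.card B := Subgroup.relIndex_dvd_card A B
        have h5 := Subgroup.card_mul_index ((A).subgroupOf (A ⊔ B))
        rw [Nat.card_congr (Subgroup.subgroupOfEquivOfLe (le_sup_left : A ≤ A ⊔ B)).toEquiv] at h5
        rw [← h5] at h3
        rcases hp.dvd_mul.1 h3 with h6 | h6
        · exact h1 h6
        · exact h2 (h6.trans (e ▸ h4 : A.relIndex (A ⊔ B) ∣ Nat.card B))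
      have hOL : L ≤ O := by
        haveI := hO.1.1
        haveI := hL
        exact le_sup_right.trans (hO.2 (y := O ⊔ L)
          ⟨inferInstance, hsupd O L hO.1.1 hO.1.2 hdL⟩ le_sup_left)
      have hOG : (O.map K.subtype).Normal := by
        refine ⟨fun x hx g => ?_⟩
        obtain ⟨y, hy, rfl⟩ := hx
        let φ : K ≃* K := MulAut.conjNormal g
        have hn' : (O.map φ.toMonoidHom).Normal := hO.1.1.map φ.toMonoidHom φ.surjective
        have hd' : ¬ p ∣ Nat.card (O.map φ.toMonoidHom) := by
          rw [Subgroup.card_map_of_injective (f := φ.toMonoidHom) φ.injective]; exact hO.1.2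
        haveI := hn'
        haveI := hO.1.1
        have h1 : O.map φ.toMonoidHom ≤ O := le_sup_right.trans (hO.2 (y := O ⊔ O.map φ.toMonoidHom)
          ⟨inferInstance, hsupd O _ hO.1.1 hO.1.2 hd'⟩ le_sup_left)
        exact ⟨φ y, h1 ⟨y, hy, rfl⟩, MulAut.conjNormal_apply g y⟩
      by_contra hLne
      refine hO.1.2 ?_
      rw [← Subgroup.card_map_of_injective K.subtype_injective]
      refine hmin _ hOG fun h => hLne ?_
      rw [eq_bot_iff]
      intro x hx
      have h1 : (x : G) ∈ O.map K.subtype := ⟨x, hOL hx, rfl⟩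
      rw [h, Subgroup.mem_bot] at h1
      exact Subgroup.mem_bot.2 (Subtype.ext h1)
  have hnc : ¬ IsCyclic K := by
    intro hc
    letI : CommGroup K := IsCyclic.commGroup
    have hKp : Nat.card K = p :=
      ((Nat.prime_dvd_prime_iff_eq hp (IsSimpleGroup.prime_card (α := K))).1 hpK).symm
    let T : Sylow p G := Sylow.ofCard K (hKp.trans (hS.symm.trans S.card_eq_multiplicity))
    exact not_normal_of_perfect hperf T hKp hKn
  have hKlin : IsLinTwo K p := Cfsg.Agent.S0999.result hnc p hp hpK
    (lt_of_le_of_lt (Nat.le_of_dvd Nat.card_pos K.card_subgroup_dvd_card) hbig)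
  have hidx : K.index = 1 := by
    have h1 := hKlin.card_big
    have h2 := K.card_mul_index
    have h3 : K.index ≤ 2 := by
      by_contra hc
      have := Nat.mul_le_mul_left (Nat.card K) (show 3 ≤ K.index by omega)
      omega
    rcases (show K.index = 0 ∨ K.index = 1 ∨ K.index = 2 by omega) with h | h | h
    · exact absurd h Subgroup.index_ne_zero_of_finite
    · exact h
    · exfalso
      haveI : Fact (Nat.Prime 2) := ⟨Nat.prime_two⟩
      haveI : IsCyclic (G ⧸ K) := isCyclic_of_prime_card (p := 2) (by rw [← Subgroup.index_eq_card, h])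
      letI : CommGroup (G ⧸ K) := IsCyclic.commGroup
      have h4 := commutator_le_of_comm (QuotientGroup.mk' K) fun a b => mul_comm a b
      rw [hperf, QuotientGroup.ker_mk'] at h4
      rw [top_le_iff.1 h4, Subgroup.index_top] at h
      omega
  rw [Subgroup.index_eq_one] at hidx
  exact hKlin.congr (Subgroup.topEquiv.symm.trans (MulEquiv.subgroupCongr hidx.symm))

/-- The general form. -/
theorem linTwo_of_perfect (hperf : commutator G = ⊤) (hdvd : p ∣ Nat.card G)
    (hbig : Nat.card G < p ^ 3) (P : Sylow p G) (hP : ¬ (P : Subgroup G).Normal)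
    (h2 : ∀ N : Subgroup G, N.Normal → Nat.card N ≠ 2) : IsLinTwo G p := by
  have hp : p.Prime := Fact.out
  have hsq : ¬ p ^ 2 ∣ Nat.card G := by
    intro h
    have h1 : 2 ≤ (Nat.card G).factorization p :=
      (Nat.Prime.pow_dvd_iff_le_factorization hp Nat.card_pos.ne').1 h
    have hN := Subgroup.card_mul_index (Subgroup.normalizer ((P : Subgroup G) : Set G))
    have hd : p ^ 2 ≤ Nat.card (Subgroup.normalizer ((P : Subgroup G) : Set G)) := by
      refine Nat.le_of_dvd Nat.card_pos ((pow_dvd_pow p h1).trans ?_)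
      rw [← P.card_eq_multiplicity]
      exact Subgroup.card_dvd_of_le Subgroup.le_normalizer
    have hnp := card_sylow_modEq_one p G
    rw [P.card_eq_index_normalizer, Nat.ModEq, Nat.mod_eq_of_lt hp.one_lt] at hnp
    have hne1 : (Subgroup.normalizer ((P : Subgroup G) : Set G)).index ≠ 1 := fun h =>
      hP (Subgroup.normalizer_eq_top_iff.1 (Subgroup.index_eq_one.1 h))
    set j := (Subgroup.normalizer ((P : Subgroup G) : Set G)).index with hj
    have hpj : p ≤ j := by
      by_contra hlt
      rw [show Subgroup.index (Subgroup.normalizer (P : Set G)) = j from rfl] at hnp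
      rw [Nat.mod_eq_of_lt (Nat.lt_of_not_le hlt)] at hnp
      exact hne1 hnp
    have := Nat.mul_le_mul hd hpj
    have h4 : p ^ 3 ≤ Nat.card G := (pow_succ p 2).trans_le (this.trans_eq hN)
    omega
  -- a largest normal `p'`-subgroup
  obtain ⟨O, -, hO⟩ := Finite.exists_le_maximal (p := fun O : Subgroup G => O.Normal ∧ ¬ p ∣ Nat.card O)
    (a := ⊥) ⟨inferInstance, by rw [Subgroup.card_bot]; exact hp.not_dvd_one⟩
  haveI := hO.1.1
  have hGO := Subgroup.card_eq_card_quotient_mul_card_subgroup O
  have hd' : p ∣ Nat.card (G ⧸ O) := (hp.dvd_mul.1 (hGO ▸ hdvd)).resolve_right hO.1.2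
  have hsq' : ¬ p ^ 2 ∣ Nat.card (G ⧸ O) := fun h => hsq (hGO ▸ h.trans (dvd_mul_right _ _))
  have hle : Nat.card (G ⧸ O) ≤ Nat.card G := hGO ▸ Nat.le_mul_of_pos_right _ Nat.card_pos
  have hperf' : commutator (G ⧸ O) = ⊤ := by
    have h := (commutator_def G).symm.trans hperf
    rw [commutator_def, ← Subgroup.map_top_of_surjective (QuotientGroup.mk' O)
      (QuotientGroup.mk'_surjective O), ← Subgroup.map_commutator, h]
  have hlin : IsLinTwo (G ⧸ O) p := by
    refine linTwo_of_normal_dvd hperf' hd' hsq' (lt_of_le_of_lt hle hbig) fun N hN hne => ?_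
    by_contra hpN
    set M := N.comap (QuotientGroup.mk' O) with hM
    have hOM : O ≤ M := QuotientGroup.le_comap_mk' O N
    have hMd : ¬ p ∣ Nat.card M := by
      intro h
      have hmap : M.map (QuotientGroup.mk' O) = N :=
        Subgroup.map_comap_eq_self_of_surjective (QuotientGroup.mk'_surjective O) N
      let f : M →* N := ((QuotientGroup.mk' O).comp M.subtype).codRestrict N fun x => x.2
      have hk : Nat.card f.ker = Nat.card O := by
        refine Nat.card_congr ⟨fun x => ⟨(x : M), (QuotientGroup.eq_one_iff _).1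
            (congrArg Subtype.val (MonoidHom.mem_ker.1 x.2))⟩,
          fun x => ⟨⟨x, hOM x.2⟩, MonoidHom.mem_ker.2 (Subtype.ext ((QuotientGroup.eq_one_iff _).2 x.2))⟩,
          fun x => rfl, fun x => rfl⟩
      have h1 := f.ker.card_mul_index
      rw [Subgroup.index_ker, hk] at h1
      rw [← h1] at h
      rcases hp.dvd_mul.1 h with h | h
      · exact hO.1.2 h
      · exact hpN (h.trans (Subgroup.card_subgroup_dvd_card f.range))
    have hMO : M ≤ O := hO.2 (y := M) ⟨hN.comap _, hMd⟩ hOM
    refine hne ?_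
    rw [eq_bot_iff]
    intro x hx
    obtain ⟨y, rfl⟩ := QuotientGroup.mk'_surjective O x
    exact Subgroup.mem_bot.2 ((QuotientGroup.eq_one_iff _).2 (hMO hx))
  have hO1 : O = ⊥ := by
    have h1 := hlin.card_big
    have h3 : Nat.card O ≤ 2 := by
      by_contra hc
      have := Nat.mul_le_mul_left (Nat.card (G ⧸ O)) (show 3 ≤ Nat.card O by omega)
      omega
    refine Subgroup.card_eq_one.1 ?_
    have := h2 O hO.1.1
    have := Nat.card_pos (α := O)
    omega
  subst hO1
  exact hlin.congr (QuotientGroup.quotientBot (G := G)).symm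

/-- In characteristic two the projective group is the linear group. -/
theorem sl_of_psl {m : ℕ} {F : Type} [Field F] [Fintype F] (hF : Fintype.card F = 2 ^ m) (hm : 0 < m)
    {H : Type u} [Group H] (e : H ≃* Matrix.ProjectiveSpecialLinearGroup (Fin 2) F) :
    Nonempty (H ≃* Matrix.SpecialLinearGroup (Fin 2) F) := by
  have hc : Nat.card (Subgroup.center (Matrix.SpecialLinearGroup (Fin 2) F)) = 1 := by
    rw [ClassicalSL.card_center_sl, Fintype.card_fin, Nat.card_eq_fintype_card (α := F), hF,
      two_pow_odd hm]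
  exact ⟨e.trans ((QuotientGroup.quotientMulEquivOfEq (Subgroup.card_eq_one.1 hc)).trans
    QuotientGroup.quotientBot)⟩

end Cfsg.Agent.SmallN
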