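import Cfsg.Agent.Lib.SmallN.CentGen
import Cfsg.Agent.Lib.SmallN.Perfect
import Cfsg.Agent.Lib.Transfer.Basic

/-!
The recognition theorem modulo the `p'`-core.
-/

set_option autoImplicit false
set_option linter.style.haveILetI false
set_option linter.unusedSectionVars false

namespace Cfsg.Agent.SmallN

open Cfsg
open scoped Classical

universe u

/-- Perfect groups whose Sylow number is not representable, modulo the `p'`-core. -/
theorem linTwo_quotient {G : Type u} [Group G] [Finite G] (hperf : commutator G = ⊤) {p : ℕ}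
    [Fact p.Prime] (P : Sylow p G) (hP : Nat.card (P : Subgroup G) = p) {n : ℕ}
    (hn : Nat.card (Sylow p G) = n * p + 1) (hnr : NR p n)
    [(Cfsg.pPrimeCore p G).Normal] : IsLinTwo (G ⧸ Cfsg.pPrimeCore p G) p := by
  have hp : p.Prime := Fact.out
  have hOc := PBasic.pPrimeCore_coprime p G
  set O := Cfsg.pPrimeCore p G with hO
  set π : G →* G ⧸ O := QuotientGroup.mk' O
  have hπ : Function.Surjective π := QuotientGroup.mk'_surjective O
  haveI : Fintype (G ⧸ O) := Fintype.ofFinite _
  let Q : Sylow p (G ⧸ O) := P.mapSurjective hπ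
  have hQmap : (Q : Subgroup (G ⧸ O)) = (P : Subgroup G).map π := P.coe_mapSurjective hπ
  have hQ : Nat.card (Q : Subgroup (G ⧸ O)) = p := by
    have hinj : Function.Injective (π.comp (P : Subgroup G).subtype) := by
      refine (injective_iff_map_eq_one _).2 fun x hx => ?_
      have h1 : (x : G) ∈ O := (QuotientGroup.eq_one_iff _).1 hx
      have h2 : orderOf (x : G) ∣ p := by
        rw [Subgroup.orderOf_coe]
        exact (orderOf_dvd_natCard x).trans (dvd_of_eq hP)
      have h3 : orderOf (x : G) ∣ Nat.card O := Subgroup.orderOf_dvd_natCard O h1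
      exact Subtype.ext (orderOf_eq_one_iff.1 (Nat.eq_one_of_dvd_coprimes hOc h3 h2))
    refine Eq.trans ?_ ((Nat.card_range_of_injective hinj).trans hP)
    rw [hQmap]
    refine Nat.card_congr (Equiv.subtypeEquivRight fun y => ⟨?_, ?_⟩)
    · rintro ⟨g, hg, rfl⟩
      exact ⟨⟨g, hg⟩, rfl⟩
    · rintro ⟨g, rfl⟩
      exact ⟨g, g.2, rfl⟩
  have hperf' : commutator (G ⧸ O) = ⊤ := by
    rw [commutator_def, ← Subgroup.map_top_of_surjective π hπ, ← Subgroup.map_commutator,
      ← commutator_def, hperf]
  have hmin : ∀ N : Subgroup (G ⧸ O), N.Normal → N ≠ ⊥ → p ∣ Nat.card N := by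
    intro N hN hne
    by_contra hd
    refine hne ?_
    have hcard : Nat.card (N.comap π) = Nat.card O * Nat.card N := by
      have h1 := (N.comap π).card_mul_index
      rw [Subgroup.index_comap_of_surjective N hπ, ← Subgroup.card_mul_index O,
        Subgroup.index_eq_card O, ← N.card_mul_index, ← mul_assoc] at h1
      exact Nat.eq_of_mul_eq_mul_right (Nat.pos_of_ne_zero Subgroup.index_ne_zero_of_finite) h1
    have hle : N.comap π ≤ O := PBasic.le_pPrimeCore (hN.comap π) (by
      rw [hcard]
      exact Nat.Coprime.mul_left hOc ((hp.coprime_iff_not_dvd.2 hd).symm))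
    rw [eq_bot_iff]
    intro x hx
    obtain ⟨g, rfl⟩ := hπ x
    exact Subgroup.mem_bot.2 ((QuotientGroup.eq_one_iff g).2 (hle hx))
  -- the number of Sylow subgroups does not change
  set M := (Subgroup.normalizer ((Q : Subgroup (G ⧸ O)) : Set (G ⧸ O))).comap π
  have hNM : Subgroup.normalizer ((P : Subgroup G) : Set G) ≤ M := by
    intro g hg
    rw [Subgroup.mem_comap, hQmap]
    exact Subgroup.le_normalizer_map π ⟨g, hg, rfl⟩
  have hidx : Nat.card (Sylow p G) =
      (Subgroup.normalizer ((P : Subgroup G) : Set G)).relIndex M *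
        Nat.card (Sylow p (G ⧸ O)) := by
    have h1 : Nat.card (Sylow p (G ⧸ O)) = M.index :=
      Q.card_eq_index_normalizer.trans (Subgroup.index_comap_of_surjective _ hπ).symm
    rw [h1]
    exact P.card_eq_index_normalizer.trans (Subgroup.relIndex_mul_index hNM).symm
  set j := (Subgroup.normalizer ((P : Subgroup G) : Set G)).relIndex M
  have hb := card_sylow_modEq_one p (G ⧸ O)
  have hj : j ≡ 1 [MOD p] := by
    have h1 := card_sylow_modEq_one p G
    rw [hidx] at h1
    calc j = j * 1 := (mul_one j).symm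
      _ ≡ j * Nat.card (Sylow p (G ⧸ O)) [MOD p] := (hb.mul_left j).symm
      _ ≡ 1 [MOD p] := h1
  have hform : ∀ m : ℕ, m ≡ 1 [MOD p] → ∃ a, m = a * p + 1 := fun m hm => by
    refine ⟨m / p, ?_⟩
    have h1 := Nat.mod_add_div m p
    rw [hm, Nat.mod_eq_of_lt hp.one_lt] at h1
    rw [mul_comm]
    omega
  obtain ⟨a, ha⟩ := hform j hj
  obtain ⟨b, hbb⟩ := hform _ hb
  have hb0 : 0 < b := by
    by_contra h
    obtain rfl : b = 0 := by omega
    rw [zero_mul, zero_add] at hbb
    haveI : Subsingleton (Sylow p (G ⧸ O)) := (Nat.card_eq_one_iff_unique.1 hbb).1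
    exact not_normal_of_perfect hperf' Q hQ Q.normal_of_subsingleton
  have ha0 : a = 0 := by
    by_contra h
    exact factor_two hp.two_le hnr (Nat.pos_of_ne_zero h) hb0 (by rw [← ha, ← hbb, ← hidx, hn])
  rw [ha0, zero_mul, zero_add] at ha
  have hn' : Nat.card (Sylow p (G ⧸ O)) = n * p + 1 := by rw [← hn, hidx, ha, one_mul]
  have hn0 : 0 < n := by
    by_contra h
    obtain rfl : n = 0 := by omega
    rw [hbb] at hn'
    have := Nat.mul_pos hb0 hp.pos
    omega
  exact main_nr hperf' Q hQ (centralizer_eq_of_nr Q hQ hperf' hmin hn' hn0 hnr) hn' hnr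

end Cfsg.Agent.SmallN
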