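import Cfsg.Agent.Lib.SmallN.PosSplit

/-!
Group theory of the case of a linear exceptional fixed part.
-/

set_option autoImplicit false
set_option linter.style.haveILetI false
set_option linter.unusedSectionVars false

namespace Cfsg.Agent.SmallN

open Cfsg Cfsg.Agent.Char Cfsg.Agent.Blocks Cfsg.Agent.BrauerPairs
open scoped ComplexConjugate Classical

universe u

/-- In a finite cyclic group the elements killed by the order of `a` are powers of `a`. -/
theorem mem_zpowers_of_pow {H : Type*} [Group H] [Finite H] [IsCyclic H] {a y : H}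
    (hy : y ^ orderOf a = 1) : y ∈ Subgroup.zpowers a := by
  haveI : Fintype H := Fintype.ofFinite H
  have hsub : (Finset.univ.filter fun z : H => z ∈ Subgroup.zpowers a) ⊆
      Finset.univ.filter fun z : H => z ^ orderOf a = 1 := by
    intro z hz
    simp only [Finset.mem_filter, Finset.mem_univ, true_and] at hz ⊢
    obtain ⟨i, rfl⟩ := Subgroup.mem_zpowers_iff.1 hz
    rw [← zpow_natCast, ← zpow_mul, mul_comm, zpow_mul, zpow_natCast, pow_orderOf_eq_one, one_zpow]
  have hle := IsCyclic.card_pow_eq_one_le (α := H) (orderOf_pos a)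
  have hc : (Finset.univ.filter fun z : H => z ∈ Subgroup.zpowers a).card = orderOf a := by
    rw [← Fintype.card_subtype, ← Nat.card_eq_fintype_card, ← Nat.card_zpowers]
  have heq := Finset.eq_of_subset_of_card_le hsub (hle.trans hc.ge)
  exact (Finset.mem_filter.1 (heq ▸ Finset.mem_filter.2 ⟨Finset.mem_univ y, hy⟩ :
    y ∈ Finset.univ.filter fun z : H => z ∈ Subgroup.zpowers a)).2

variable {G : Type u} [Group G] [Fintype G]

theorem subgroup_mem_zpowers_of_pow {Q : Subgroup G} (hQ : IsCyclic Q) {a y : G} (ha : a ∈ Q)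
    (hy : y ∈ Q) (h : y ^ orderOf a = 1) : y ∈ Subgroup.zpowers a := by
  haveI := hQ
  have h1 : (⟨y, hy⟩ : Q) ∈ Subgroup.zpowers (⟨a, ha⟩ : Q) :=
    mem_zpowers_of_pow (Subtype.ext (by rw [Subgroup.coe_pow, Subgroup.orderOf_mk]; exact h))
  obtain ⟨i, hi⟩ := Subgroup.mem_zpowers_iff.1 h1
  exact Subgroup.mem_zpowers_iff.2 ⟨i, by simpa using congrArg Subtype.val hi⟩

theorem zpowers_normal_on {Q N : Subgroup G} (hQ : IsCyclic Q) {a : G} (ha : a ∈ Q)
    (hN : N ≤ Subgroup.normalizer (Q : Set G)) {g y : G} (hg : g ∈ N) (hy : y ∈ Subgroup.zpowers a) :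
    g * y * g⁻¹ ∈ Subgroup.zpowers a := by
  refine subgroup_mem_zpowers_of_pow hQ ha
    ((Subgroup.mem_normalizer_iff.1 (hN hg) y).1 (Subgroup.zpowers_le.2 ha hy)) ?_
  obtain ⟨i, rfl⟩ := Subgroup.mem_zpowers_iff.1 hy
  rw [conj_pow, ← zpow_natCast (a ^ i), ← zpow_mul, mul_comm i, zpow_mul, zpow_natCast,
    pow_orderOf_eq_one, one_zpow]
  group

/-- The facts derived from the characters in the case of a linear exceptional fixed part. -/
structure KFacts (Q : Subgroup G) (q t : ℕ) (i : G) : Prop where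
  cyc : IsCyclic Q
  cardQ : Nat.card Q = q
  mem : i ∈ Q
  ord : orderOf i = 2
  cardN : Nat.card (Subgroup.normalizer (Q : Set G)) = q * t
  cent_i : Subgroup.centralizer ({i} : Set G) = Subgroup.normalizer (Q : Set G)
  cent : ∀ x ∈ Q, x ≠ 1 → x ≠ i → Nat.card (Subgroup.centralizer ({x} : Set G)) = q

namespace KFacts

variable {Q : Subgroup G} {q t : ℕ} {i : G} (K : KFacts Q q t i)
include K

theorem two_dvd : 2 ∣ q := by
  rw [← K.ord, ← K.cardQ]
  exact Subgroup.orderOf_dvd_natCard Q K.mem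

theorem le_cent {x : G} (hx : x ∈ Q) : Q ≤ Subgroup.centralizer ({x} : Set G) := by
  intro y hy
  haveI := K.cyc
  letI : CommGroup Q := IsCyclic.commGroup
  exact Subgroup.mem_centralizer_singleton_iff.2
    (congrArg Subtype.val (mul_comm (⟨y, hy⟩ : Q) ⟨x, hx⟩))

theorem cent_eq {x : G} (hx : x ∈ Q) (h1 : x ≠ 1) (hi : x ≠ i) :
    Subgroup.centralizer ({x} : Set G) = Q :=
  (Subgroup.eq_of_le_of_card_ge (K.le_cent hx) (by rw [K.cent x hx h1 hi, K.cardQ])).symm

theorem involution_unique {y : G} (hy : y ∈ Q) (h2 : y ^ 2 = 1) : y = 1 ∨ y = i := by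
  have h := subgroup_mem_zpowers_of_pow K.cyc K.mem hy (by rw [K.ord]; exact h2)
  obtain ⟨z, rfl⟩ := Subgroup.mem_zpowers_iff.1 h
  have hi2 : i ^ (2 : ℤ) = 1 := by
    rw [show (2 : ℤ) = ((2 : ℕ) : ℤ) from rfl, zpow_natCast, ← K.ord]; exact pow_orderOf_eq_one i
  rcases Int.even_or_odd z with ⟨j, rfl⟩ | ⟨j, rfl⟩
  · left; rw [← two_mul, zpow_mul, hi2, one_zpow]
  · right; rw [zpow_add, zpow_mul, hi2, one_zpow, one_mul, zpow_one]

/-- An element of odd prime order `ρ ∣ q` in `Q`, and the action of `N(Q)` on it. -/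
theorem prime_facts {ρ : ℕ} (hρ : ρ.Prime) (hρ2 : ρ ≠ 2) (hd : ρ ∣ q) :
    ∃ (x : G) (ψ : Subgroup.normalizer (Q : Set G) →* MulAut (Subgroup.zpowers x)),
      x ∈ Q ∧ orderOf x = ρ ∧ (∀ g, g ∈ ψ.ker ↔ (g : G) ∈ Q) ∧ t ∣ ρ - 1 ∧
      IsCyclic (MulAut (Subgroup.zpowers x)) := by
  haveI : Fact ρ.Prime := ⟨hρ⟩
  obtain ⟨x0, hx0⟩ := exists_prime_orderOf_dvd_card' (G := Q) ρ (K.cardQ ▸ hd)
  set x : G := (x0 : G) with hxdef
  have hxo : orderOf x = ρ := by rw [Subgroup.orderOf_coe, hx0]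
  have hxQ : x ∈ Q := x0.2
  set N := Subgroup.normalizer (Q : Set G)
  have hsub : (Subgroup.zpowers x) ≤ N := (Subgroup.zpowers_le.2 hxQ).trans Subgroup.le_normalizer
  have hnorm : ∀ g : N, (g : G) ∈ Subgroup.normalizer ((Subgroup.zpowers x : Subgroup G) : Set G) := by
    intro g
    rw [Subgroup.mem_normalizer_iff]
    refine fun y => ⟨fun hy => zpowers_normal_on K.cyc hxQ le_rfl g.2 hy, fun hy => ?_⟩
    have := zpowers_normal_on K.cyc hxQ le_rfl (N.inv_mem g.2) hy
    simpa [mul_assoc] using this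
  let ψ : N →* MulAut (Subgroup.zpowers x) :=
    (Subgroup.normalizerMonoidHom (Subgroup.zpowers x)).comp (N.subtype.codRestrict _ hnorm)
  have hker : ∀ g, g ∈ ψ.ker ↔ (g : G) ∈ Q := by
    intro g
    have hne : x ≠ 1 := fun h => by rw [h, orderOf_one] at hxo; exact hρ.ne_one hxo.symm
    have hni : x ≠ i := fun h => by rw [h, K.ord] at hxo; exact hρ2 hxo.symm
    rw [MonoidHom.mem_ker, MonoidHom.comp_apply, ← MonoidHom.mem_ker,
      Subgroup.normalizerMonoidHom_ker, Subgroup.mem_subgroupOf]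
    show (g : G) ∈ Subgroup.centralizer _ ↔ _
    rw [show Subgroup.centralizer ((Subgroup.zpowers x : Subgroup G) : Set G) =
      Subgroup.centralizer ({x} : Set G) by
        rw [Subgroup.zpowers_eq_closure, Subgroup.centralizer_closure], K.cent_eq hxQ hne hni]
  have hcard : Nat.card (MulAut (Subgroup.zpowers x)) = ρ - 1 := by
    rw [IsCyclic.card_mulAut, Nat.card_zpowers, hxo, Nat.totient_prime hρ]
  refine ⟨x, ψ, hxQ, hxo, hker, ?_, ?_⟩
  · have h1 : Nat.card ψ.ker = q := by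
      rw [← K.cardQ]
      refine Nat.card_congr
        ⟨fun g => ⟨(g : N), (hker _).1 g.2⟩,
          fun y => ⟨⟨y, Subgroup.le_normalizer y.2⟩, (hker _).2 y.2⟩, fun g => rfl, fun y => rfl⟩
    have h2 : Nat.card ψ.range * q = q * t := by
      rw [← K.cardN, ← h1]
      rw [← Subgroup.index_ker, mul_comm, Subgroup.card_mul_index]
    have hq : 0 < q := K.cardQ ▸ Nat.card_pos
    rw [mul_comm q] at h2
    rw [← hcard, ← Nat.eq_of_mul_eq_mul_right hq h2]
    exact Subgroup.card_subgroup_dvd_card _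
  · haveI : IsCyclic (ZMod (Nat.card (Subgroup.zpowers x)))ˣ := by
      rw [Nat.card_zpowers, hxo]
      exact inferInstance
    exact (IsCyclic.mulAutMulEquiv (Subgroup.zpowers x)).isCyclic.2 inferInstance

theorem coprime_t {m : ℕ} (hm : q = 2 * m) (hmodd : Odd m) : Nat.Coprime t m := by
  refine Nat.coprime_of_dvd fun ρ hρ h1 h2 => ?_
  have hρ2 : ρ ≠ 2 := fun e => by
    subst e
    exact (Nat.not_even_iff_odd.2 hmodd) (even_iff_two_dvd.2 h2)
  obtain ⟨-, -, -, -, -, ht, -⟩ := K.prime_facts hρ hρ2 (hm ▸ dvd_mul_of_dvd_right h2 2)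
  have := hρ.two_le
  have := Nat.le_of_dvd (by omega) (h1.trans ht)
  omega

/-- An element of `C(i)` of order above two that centralizes a Sylow `2`-subgroup. -/
theorem exists_element {m : ℕ} (hm : q = 2 * m) (hmodd : Odd m) (hm1 : 1 < m) (ht : 3 ≤ t)
    {r : ℕ} (hcard : Nat.card G = 2 * t * r) (hr : Odd r) :
    ∃ (h : G) (S : Sylow 2 G), h ∈ Subgroup.centralizer ({i} : Set G) ∧ h ^ 2 ≠ 1 ∧
      ∀ s ∈ (S : Subgroup G), s * h = h * s := by
  set N := Subgroup.normalizer (Q : Set G)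
  have hrho := Nat.minFac_prime (show m ≠ 1 by omega)
  set ρ := m.minFac
  have hρ2 : ρ ≠ 2 := fun e =>
    (Nat.not_even_iff_odd.2 hmodd) (even_iff_two_dvd.2 (e ▸ Nat.minFac_dvd m))
  obtain ⟨x, ψ, -, -, hker, -, hcyc⟩ :=
    K.prime_facts hrho hρ2 (hm ▸ dvd_mul_of_dvd_right (Nat.minFac_dvd m) 2)
  haveI := hcyc
  -- the odd part of `Q`
  haveI := K.cyc
  obtain ⟨g0, hg0⟩ := isCyclic_iff_exists_orderOf_eq_natCard.1 K.cyc
  set a : G := ((g0 ^ 2 : Q) : G)
  have hao : orderOf a = m := by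
    rw [Subgroup.orderOf_coe, orderOf_pow_of_dvd (by norm_num) (by rw [hg0, K.cardQ]; exact K.two_dvd),
      hg0, K.cardQ, hm, Nat.mul_div_cancel_left _ (by norm_num)]
  let A : Subgroup N := (Subgroup.zpowers a).subgroupOf N
  have hAN : Subgroup.zpowers a ≤ N :=
    (Subgroup.zpowers_le.2 (g0 ^ 2).2).trans Subgroup.le_normalizer
  haveI : A.Normal := ⟨fun y hy g => by
    rw [Subgroup.mem_subgroupOf] at hy ⊢
    exact zpowers_normal_on K.cyc (g0 ^ 2).2 le_rfl g.2 hy⟩
  have hA : Nat.card A = m := by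
    rw [Nat.card_congr (Subgroup.subgroupOfEquivOfLe hAN).toEquiv, Nat.card_zpowers, hao]
  have hAi : A.index = 2 * t := by
    have h := A.card_mul_index
    rw [hA, K.cardN, hm] at h
    exact Nat.eq_of_mul_eq_mul_left (show 0 < m by omega) (by linarith)
  have hcop : Nat.Coprime (Nat.card A) A.index := by
    rw [hA, hAi]
    exact Nat.Coprime.mul_right (Nat.coprime_two_right.2 hmodd) (K.coprime_t hm hmodd).symm
  obtain ⟨L, hL⟩ := Subgroup.exists_right_complement'_of_coprime hcop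
  have hLc : Nat.card L = 2 * t := by
    have h := hL.card_mul
    rw [hA, K.cardN, hm] at h
    exact Nat.eq_of_mul_eq_mul_left (show 0 < m by omega) (by linarith)
  let φ : L →* MulAut (Subgroup.zpowers x) := ψ.comp L.subtype
  -- the kernel is at most `⟨i⟩`
  have hk : ∀ y ∈ φ.ker, ((y : N) : G) = 1 ∨ ((y : N) : G) = i := by
    intro y hy
    have hyQ : ((y : N) : G) ∈ Q := (hker _).1 hy
    refine K.involution_unique hyQ (orderOf_dvd_iff_pow_eq_one.1 ?_)
    have h1 : orderOf ((y : N) : G) ∣ 2 * t := by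
      rw [Subgroup.orderOf_coe, Subgroup.orderOf_coe, ← hLc]; exact orderOf_dvd_natCard y
    have h2 : orderOf ((y : N) : G) ∣ 2 * m := by
      rw [← hm, ← K.cardQ]; exact Subgroup.orderOf_dvd_natCard Q hyQ
    refine (Nat.dvd_gcd h1 h2).trans ?_
    rw [Nat.gcd_mul_left, (K.coprime_t hm hmodd).gcd_eq_one]
  have hkc : Nat.card φ.ker ≤ 2 := by
    rw [Nat.card_eq_fintype_card, ← Finset.card_univ]
    refine le_trans (Finset.card_le_card_of_injOn (fun y : φ.ker => ((y : L) : G)) (t := {1, i})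
      (fun y _ => ?_) (fun y _ z _ e => ?_)) Finset.card_le_two
    · rcases hk y y.2 with h | h <;> simp [h]
    · exact Subtype.ext (Subtype.ext (Subtype.ext e))
  have hcenter : φ.ker ≤ Subgroup.center L := by
    intro y hy
    rw [Subgroup.mem_center_iff]
    intro z
    refine Subtype.ext (Subtype.ext ?_)
    rcases hk y hy with h | h
    · simp [h]
    · have hz : ((z : N) : G) ∈ Subgroup.centralizer ({i} : Set G) := K.cent_i ▸ (z : N).2
      simp only [Subgroup.coe_mul, h]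
      exact Subgroup.mem_centralizer_singleton_iff.1 hz
  have hrange : t ≤ Nat.card φ.range := by
    have h := φ.ker.card_mul_index
    rw [Subgroup.index_ker, hLc] at h
    have := Nat.mul_le_mul_right (Nat.card φ.range) hkc
    omega
  obtain ⟨w, hw⟩ := isCyclic_iff_exists_orderOf_eq_natCard.1
    (inferInstance : IsCyclic φ.range)
  obtain ⟨h0, hh0⟩ := w.2
  have hcomm : ∀ y z : L, y * z = z * y := by
    haveI : IsCyclic φ.range := inferInstance
    intro y z
    exact commutative_of_cyclic_center_quotient φ.rangeRestrict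
      (by rw [MonoidHom.ker_rangeRestrict]; exact hcenter) y z
  have hh2 : ((h0 : N) : G) ^ 2 ≠ 1 := by
    intro e
    have e' : h0 ^ 2 = 1 := Subtype.ext (Subtype.ext (by simpa using e))
    have h1 : w ^ 2 = 1 := Subtype.ext (by rw [Subgroup.coe_pow, ← hh0, ← map_pow, e', map_one]; rfl)
    have := Nat.le_of_dvd (by norm_num) (hw ▸ orderOf_dvd_of_pow_eq_one h1 : Nat.card φ.range ∣ 2)
    omega
  haveI : Fact (Nat.Prime 2) := ⟨Nat.prime_two⟩
  obtain ⟨T2⟩ : Nonempty (Sylow 2 L) := inferInstance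
  set emb : L →* G := N.subtype.comp L.subtype
  have hinj : Function.Injective emb := fun y z e => Subtype.ext (Subtype.ext e)
  have hTc : Nat.card ((T2 : Subgroup L).map emb) = 2 ^ (Nat.card G).factorization 2 := by
    rw [Subgroup.card_map_of_injective hinj, T2.card_eq_multiplicity, hLc, hcard,
      Nat.factorization_mul (a := 2 * t) (b := r) (by omega) (by rintro rfl; exact Nat.not_odd_zero hr), Finsupp.add_apply,
      Nat.factorization_eq_zero_of_not_dvd (n := r)
        (fun h2 => (Nat.not_even_iff_odd.2 hr) (even_iff_two_dvd.2 h2)), add_zero]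
  let S : Sylow 2 G := Sylow.ofCard _ hTc
  have hS : (S : Subgroup G) = (T2 : Subgroup L).map emb := rfl
  refine ⟨((h0 : N) : G), S, K.cent_i ▸ (h0 : N).2, hh2, ?_⟩
  intro s hs
  rw [hS] at hs
  obtain ⟨y, -, rfl⟩ := hs
  exact congrArg (fun z : L => ((z : N) : G)) (hcomm y h0)

/-- Elements of odd prime order dividing `q`, when `Q` carries a Sylow subgroup. -/
theorem centralizer_conj {ρ : ℕ} (hρ : ρ.Prime) (hρ2 : ρ ≠ 2) {r : ℕ}
    (hcard : Nat.card G = q * r) (hr : ¬ ρ ∣ r) {w : G} (hw : orderOf w = ρ) :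
    ∃ g : G, ∀ c ∈ Subgroup.centralizer ({w} : Set G), g⁻¹ * c * g ∈ Q := by
  haveI : Fact ρ.Prime := ⟨hρ⟩
  obtain ⟨T0⟩ : Nonempty (Sylow ρ Q) := inferInstance
  have hTc : Nat.card ((T0 : Subgroup Q).map Q.subtype) = ρ ^ (Nat.card G).factorization ρ := by
    rw [Subgroup.card_map_of_injective Q.subtype_injective, T0.card_eq_multiplicity, K.cardQ, hcard,
      Nat.factorization_mul (K.cardQ ▸ Nat.card_pos.ne') (by rintro rfl; simp at hr),
      Finsupp.add_apply, Nat.factorization_eq_zero_of_not_dvd hr, add_zero]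
  let S : Sylow ρ G := Sylow.ofCard _ hTc
  have hwp : IsPGroup ρ (Subgroup.zpowers w) :=
    IsPGroup.of_card (n := 1) (by rw [Nat.card_zpowers, hw, pow_one])
  obtain ⟨T, hT⟩ := hwp.exists_le_sylow
  obtain ⟨g, hg⟩ := MulAction.exists_smul_eq G S T
  refine ⟨g, fun c hc => ?_⟩
  have hwT : w ∈ (T : Subgroup G) := hT (Subgroup.mem_zpowers w)
  rw [← hg, Sylow.coe_subgroup_smul] at hwT
  obtain ⟨y, hy, hyw⟩ := Subgroup.mem_smul_pointwise_iff_exists _ _ _ |>.1 hwT
  have hyw' : g * y * g⁻¹ = w := hyw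
  obtain ⟨y', -, rfl⟩ := hy
  have hy1 : (y' : G) ≠ 1 := fun e => by
    rw [show Q.subtype y' = (y' : G) from rfl, e] at hyw'
    rw [← hyw', show g * 1 * g⁻¹ = (1 : G) by group, orderOf_one] at hw
    exact hρ.ne_one hw.symm
  have hyi : (y' : G) ≠ i := fun e => by
    rw [show Q.subtype y' = (y' : G) from rfl, e] at hyw'
    rw [← hyw', show g * i * g⁻¹ = MulAut.conj g i from rfl, MulEquiv.orderOf_eq, K.ord] at hw
    exact hρ2 hw.symm
  rw [← K.cent_eq y'.2 hy1 hyi]
  rw [← hyw', show c = g * (g⁻¹ * c * g) * g⁻¹ by group, mem_centralizer_conj] at hc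
  exact hc

end KFacts

/-- An element commuting with a Sylow `2`-subgroup is inverted only if it squares to one. -/
theorem not_inverted (S : Sylow 2 G) {y : G} (hS : ∀ s ∈ (S : Subgroup G), s * y = y * s)
    (hy : y ^ 2 ≠ 1) {g : G} (hg : g * y * g⁻¹ = y⁻¹) : False := by
  haveI : Fact (Nat.Prime 2) := ⟨Nat.prime_two⟩
  have hinv : ∀ a : G, a * y⁻¹ * a⁻¹ = (a * y * a⁻¹)⁻¹ := fun a => by group
  let R : Subgroup G :=
    { carrier := {a | a * y * a⁻¹ = y ∨ a * y * a⁻¹ = y⁻¹}
      one_mem' := Or.inl (by group)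
      mul_mem' := by
        intro a b ha hb
        have e : a * b * y * (a * b)⁻¹ = a * (b * y * b⁻¹) * a⁻¹ := by group
        show _ ∨ _
        rw [e]
        rcases hb with hb | hb <;> rw [hb]
        · exact ha
        · rw [hinv]
          rcases ha with ha | ha
          · exact Or.inr (by rw [ha])
          · exact Or.inl (by rw [ha, inv_inv])
      inv_mem' := by
        intro a ha
        show _ ∨ _
        rcases ha with ha | ha
        · refine Or.inl ?_
          have : a⁻¹ * (a * y * a⁻¹) * a⁻¹⁻¹ = y := by group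
          rwa [ha] at this
        · refine Or.inr ?_
          have : a⁻¹ * (a * y * a⁻¹) * a⁻¹⁻¹ = y := by group
          rw [ha, hinv, inv_eq_iff_eq_inv] at this
          exact this }
  set C := Subgroup.centralizer ({y} : Set G)
  have hgR : g ∈ R := Or.inr hg
  have hCR : C ≤ R := fun c hc =>
    Or.inl (mul_inv_eq_iff_eq_mul.2 (Subgroup.mem_centralizer_singleton_iff.1 hc))
  have hmemC : ∀ a : G, a ∈ C ↔ a * y * a⁻¹ = y := fun a => by
    rw [Subgroup.mem_centralizer_singleton_iff, mul_inv_eq_iff_eq_mul]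
  have hyy : y⁻¹ ≠ y := fun e => hy (by rw [pow_two]; nth_rw 1 [← e]; exact inv_mul_cancel y)
  have hidx : (C.subgroupOf R).index = 2 := by
    rw [Subgroup.index_eq_two_iff]
    refine ⟨⟨g, hgR⟩, fun b => ?_⟩
    simp only [Subgroup.mem_subgroupOf, Subgroup.coe_mul, hmemC]
    have e : (b : G) * g * y * ((b : G) * g)⁻¹ = ((b : G) * y * (b : G)⁻¹)⁻¹ := by
      rw [show (b : G) * g * y * ((b : G) * g)⁻¹ = b * (g * y * g⁻¹) * (b : G)⁻¹ by group, hg, hinv]
    rw [e]
    rcases b.2 with hb | hb <;> rw [hb]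
    · exact Or.inr ⟨rfl, hyy⟩
    · exact Or.inl ⟨inv_inv y, hyy⟩
  have hcR : Nat.card R = Nat.card C * 2 := by
    rw [← Nat.card_congr (Subgroup.subgroupOfEquivOfLe hCR).toEquiv, ← hidx, Subgroup.card_mul_index]
  have hd : Nat.card (S : Subgroup G) * 2 ∣ Nat.card G := by
    refine (Nat.mul_dvd_mul_right (Subgroup.card_dvd_of_le fun s hs => ?_) 2).trans
      (hcR ▸ Subgroup.card_subgroup_dvd_card R)
    exact Subgroup.mem_centralizer_singleton_iff.2 (hS s hs)
  rw [S.card_eq_multiplicity, ← pow_succ] at hd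
  exact Nat.pow_succ_factorization_not_dvd Nat.card_pos.ne' Nat.prime_two hd

end Cfsg.Agent.SmallN
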