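import Mathlib.Data.Nat.Prime.Basic
import Mathlib.Data.Nat.GCD.Basic
import Mathlib.Tactic.Ring
import Mathlib.Tactic.Linarith
import Mathlib.RingTheory.PrincipalIdealDomain
import Mathlib.Data.Nat.Factorization.PrimePow

/-!
The degree equation of a principal 2-block of defect two when only two odd primes occur.
-/

set_option autoImplicit false

namespace Cfsg.Agent.SmallN

/-- All prime divisors are `3` or `r`. -/
def Sm (r n : ℕ) : Prop := ∀ s : ℕ, s.Prime → s ∣ n → s = 3 ∨ s = r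

theorem Sm.of_dvd {r n m : ℕ} (h : Sm r n) (hm : m ∣ n) : Sm r m :=
  fun s hs hsm => h s hs (hsm.trans hm)

theorem Sm.mul {r n m : ℕ} (h : Sm r n) (h' : Sm r m) : Sm r (n * m) := fun s hs hd => by
  rcases hs.dvd_mul.1 hd with hh | hh
  exacts [h s hs hh, h' s hs hh]

theorem pure_split {r u v : ℕ} (hu : 1 < u) (hv : 1 < v) (hc : Nat.Coprime u v) (h : Sm r u)
    (h' : Sm r v) : ((∃ i, u = 3 ^ (i + 1)) ∧ ∃ j, v = r ^ (j + 1)) ∨
      ((∃ j, u = r ^ (j + 1)) ∧ ∃ i, v = 3 ^ (i + 1)) := by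
  have key : ∀ {w s : ℕ}, 1 < w → (∀ t : ℕ, t.Prime → t ∣ w → t = s) → ∃ i, w = s ^ (i + 1) := by
    intro w s hw hall
    have hws := Nat.eq_prime_pow_of_unique_prime_dvd (by omega : w ≠ 0) (p := s)
      (fun {d} hd hdw => hall d hd hdw)
    refine ⟨w.primeFactorsList.length - 1, ?_⟩
    have hl : w.primeFactorsList.length ≠ 0 := fun h0 => by
      rw [h0, pow_zero] at hws; omega
    rw [show w.primeFactorsList.length - 1 + 1 = w.primeFactorsList.length by omega]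
    exact hws
  have hnot : ∀ t : ℕ, t.Prime → t ∣ u → t ∣ v → False := fun t ht a b =>
    ht.not_dvd_one (hc ▸ Nat.dvd_gcd a b)
  obtain ⟨s, hs, hsu⟩ := Nat.exists_prime_and_dvd hu.ne'
  obtain ⟨t, ht, htv⟩ := Nat.exists_prime_and_dvd hv.ne'
  have hne : s ≠ t := fun e => hnot s hs hsu (e ▸ htv)
  have hU : ∀ x : ℕ, x.Prime → x ∣ u → x = s := fun x hx hxu => by
    have hxt : x ≠ t := fun e => hnot x hx hxu (e ▸ htv)
    rcases h x hx hxu with a | a <;> rcases h s hs hsu with b | b <;>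
      rcases h' t ht htv with c | c <;> omega
  have hV : ∀ x : ℕ, x.Prime → x ∣ v → x = t := fun x hx hxv => by
    have hxs : x ≠ s := fun e => hnot x hx (e ▸ hsu) hxv
    rcases h' x hx hxv with a | a <;> rcases h s hs hsu with b | b <;>
      rcases h' t ht htv with c | c <;> omega
  rcases h s hs hsu with b | b <;> rcases h' t ht htv with c | c
  · omega
  · exact Or.inl ⟨b ▸ key hu hU, c ▸ key hv hV⟩
  · exact Or.inr ⟨b ▸ key hu hU, c ▸ key hv hV⟩
  · omega

theorem three_pow_mod (i : ℕ) : 3 ^ (i + 1) % 3 = 0 := by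
  rw [pow_succ]; omega

/-- Three pairwise coprime numbers cannot use only two primes. -/
theorem no_triple {r u v w : ℕ} (hu : 1 < u) (hv : 1 < v) (hw : 1 < w) (huv : Nat.Coprime u v)
    (huw : Nat.Coprime u w) (hvw : Nat.Coprime v w) (h1 : Sm r u) (h2 : Sm r v) (h3 : Sm r w) :
    False := by
  obtain ⟨a, ha, hau⟩ := Nat.exists_prime_and_dvd hu.ne'
  obtain ⟨b, hb, hbv⟩ := Nat.exists_prime_and_dvd hv.ne'
  obtain ⟨c, hc, hcw⟩ := Nat.exists_prime_and_dvd hw.ne'
  have e1 : a ≠ b := fun e => ha.not_dvd_one (huv ▸ Nat.dvd_gcd hau (e ▸ hbv))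
  have e2 : a ≠ c := fun e => ha.not_dvd_one (huw ▸ Nat.dvd_gcd hau (e ▸ hcw))
  have e3 : b ≠ c := fun e => hb.not_dvd_one (hvw ▸ Nat.dvd_gcd hbv (e ▸ hcw))
  rcases h1 a ha hau with x | x <;> rcases h2 b hb hbv with y | y <;>
    rcases h3 c hc hcw with z | z <;> omega

theorem coprime_two_mul_add_one (n : ℕ) : Nat.Coprime (2 * n + 1) n := by simp

theorem coprime_two_mul_sub_one {n : ℕ} (hn : 1 ≤ n) : Nat.Coprime (2 * n - 1) n := by
  apply Nat.coprime_of_dvd'
  intro d _ h1 h2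
  exact (Nat.dvd_add_right h1).1 (show d ∣ (2 * n - 1) + 1 by
    rw [show 2 * n - 1 + 1 = 2 * n by omega]; exact dvd_mul_of_dvd_right h2 2)

/-- A sum of two powers of three equal to twice a power of three. -/
theorem eq_of_three_pow_add {u v b : ℕ} (h : 3 ^ u + 3 ^ v = 2 * 3 ^ b) : u = b ∧ v = b := by
  have key : ∀ {u v : ℕ}, u < v → 3 ^ u + 3 ^ v = 2 * 3 ^ b → False := by
    intro u v huv h
    have h1 := Nat.pow_lt_pow_right (show 1 < 3 by norm_num) huv
    have hb1 : 3 ^ u < 3 ^ b := by omega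
    have hb2 : 3 ^ b < 3 ^ v := by omega
    rw [Nat.pow_lt_pow_iff_right (by norm_num)] at hb1 hb2
    have hd : 3 ^ b ∣ 3 ^ u := by
      have h2 : 3 ^ b ∣ 3 ^ u + 3 ^ v := h ▸ dvd_mul_left _ _
      exact (Nat.dvd_add_left (Nat.pow_dvd_pow 3 hb2.le)).1 h2
    rw [Nat.pow_dvd_pow_iff_le_right (by norm_num)] at hd
    omega
  rcases lt_trichotomy u v with g | g | g
  · exact (key g h).elim
  · subst g
    have : u = b := Nat.pow_right_injective (le_refl 2 |>.trans (by norm_num : 2 ≤ 3))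
      (show 3 ^ u = 3 ^ b by omega)
    exact ⟨this, this⟩
  · exact (key g (by omega)).elim

/-- The degree equation has only the solution of the alternating group of degree five. -/
theorem degree_solution {r A B C : ℕ} (hr : r.Prime) (hr3 : r ≠ 3) (hA : 2 ≤ A)
    (hB : 1 ≤ B) (hC : 1 ≤ C) (heq : A = B + C + 1) (sA : Sm r A) (sB : Sm r B) (sC : Sm r C)
    (sx : Sm r (2 * A - 1)) (sy : Sm r (2 * B + 1)) (sz : Sm r (2 * C + 1)) :
    B = 1 ∧ C = 1 ∧ r = 5 := by
  have hclass : ∀ {B : ℕ}, 1 ≤ B → Sm r B → Sm r (2 * B + 1) →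
      (B % 3 = 1 ∧ ∃ u, 2 * B + 1 = 3 ^ (u + 1)) ∨
      (∃ v w, B = 3 ^ (v + 1) ∧ 2 * B + 1 = r ^ (w + 1)) := by
    intro B hB sB sy
    rcases Nat.lt_or_ge B 2 with h | h
    · obtain rfl : B = 1 := by omega
      exact Or.inl ⟨rfl, 0, rfl⟩
    rcases pure_split (by omega) (by omega) (coprime_two_mul_add_one B) sy sB with
      ⟨⟨u, hu⟩, -⟩ | ⟨⟨w, hw⟩, v, hv⟩
    · exact Or.inl ⟨by have := three_pow_mod u; omega, u, hu⟩
    · exact Or.inr ⟨v, w, hv, hw⟩
  rcases pure_split (by omega) (by omega) (coprime_two_mul_sub_one (by omega)) sx sA with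
    ⟨⟨a, ha⟩, b, hb⟩ | ⟨⟨a, ha⟩, b, hb⟩
  · -- `x₁` a power of three
    exfalso
    have hA3 : A % 3 = 2 := by have := three_pow_mod a; omega
    have key : ∀ {B C : ℕ}, A = B + C + 1 → (∃ u, 2 * B + 1 = 3 ^ (u + 1)) →
        (∃ v w, C = 3 ^ (v + 1) ∧ 2 * C + 1 = r ^ (w + 1)) → False := by
      rintro B C heq ⟨u, hu⟩ ⟨v, w, hv, hw⟩
      have h : 3 ^ (a + 1) = 3 ^ (u + 1) + 2 * 3 ^ (v + 1) := by omega
      have hpu := Nat.one_le_pow (u + 1) 3 (by norm_num)
      have hpv := Nat.one_le_pow (v + 1) 3 (by norm_num)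
      have hav : v + 1 < a + 1 := (Nat.pow_lt_pow_iff_right (show 1 < 3 by norm_num)).1
        (show 3 ^ (v + 1) < 3 ^ (a + 1) by omega)
      have hau : u + 1 < a + 1 := (Nat.pow_lt_pow_iff_right (show 1 < 3 by norm_num)).1
        (show 3 ^ (u + 1) < 3 ^ (a + 1) by omega)
      have huv : u = v := by
        rcases lt_trichotomy u v with g | g | g
        · exfalso
          have h3 : 3 ^ (u + 2) ∣ 3 ^ (a + 1) := Nat.pow_dvd_pow 3 (show u + 2 ≤ a + 1 by omega)
          have h4 : 3 ^ (u + 2) ∣ 2 * 3 ^ (v + 1) :=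
            dvd_mul_of_dvd_right (Nat.pow_dvd_pow 3 (show u + 2 ≤ v + 1 by omega)) 2
          have h1 : 3 ^ (u + 2) ∣ 3 ^ (u + 1) := (Nat.dvd_add_left h4).1 (h ▸ h3)
          rw [Nat.pow_dvd_pow_iff_le_right (show 1 < 3 by norm_num)] at h1
          omega
        · exact g
        · exfalso
          have h3 : 3 ^ (v + 2) ∣ 3 ^ (a + 1) := Nat.pow_dvd_pow 3 (show v + 2 ≤ a + 1 by omega)
          have h4 : 3 ^ (v + 2) ∣ 3 ^ (u + 1) := Nat.pow_dvd_pow 3 (show v + 2 ≤ u + 1 by omega)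
          have h1 : 3 ^ (v + 2) ∣ 2 * 3 ^ (v + 1) := (Nat.dvd_add_right h4).1 (h ▸ h3)
          have h2 : 3 ^ (v + 2) ∣ 3 ^ (v + 1) :=
            ((show Nat.Coprime 3 2 by decide).pow_left _).dvd_of_dvd_mul_left h1
          rw [Nat.pow_dvd_pow_iff_le_right (show 1 < 3 by norm_num)] at h2
          omega
      subst huv
      have h4 : 3 * r ^ (w + 1) = 4 * r ^ (b + 1) + 1 := by omega
      have h5 : r ∣ 1 := (Nat.dvd_add_right (dvd_mul_of_dvd_right (dvd_pow_self r (by omega)) 4)).1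
        (h4 ▸ dvd_mul_of_dvd_right (dvd_pow_self r (by omega)) 3)
      exact hr.not_dvd_one h5
    rcases hclass hB sB sy with ⟨hb1, hu⟩ | ⟨v, w, hv, hw⟩ <;>
      rcases hclass hC sC sz with ⟨hc1, hu'⟩ | ⟨v', w', hv', hw'⟩
    · omega
    · exact key heq hu ⟨v', w', hv', hw'⟩
    · exact key (by omega) hu' ⟨v, w, hv, hw⟩
    · have := three_pow_mod v; have := three_pow_mod v'; omega
  · -- `x₁` a power of `r`
    have hA3 := three_pow_mod b
    obtain ⟨⟨hb1, u, hu⟩, hc1, u', hu'⟩ : (B % 3 = 1 ∧ ∃ u, 2 * B + 1 = 3 ^ (u + 1)) ∧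
        (C % 3 = 1 ∧ ∃ u, 2 * C + 1 = 3 ^ (u + 1)) := by
      rcases hclass hB sB sy with g | ⟨v, w, hv, hw⟩ <;>
        rcases hclass hC sC sz with g' | ⟨v', w', hv', hw'⟩
      · exact ⟨g, g'⟩
      · have := three_pow_mod v'; omega
      · have := three_pow_mod v; omega
      · have := three_pow_mod v; have := three_pow_mod v'; omega
    obtain ⟨e1, e2⟩ := eq_of_three_pow_add (show 3 ^ (u + 1) + 3 ^ (u' + 1) = 2 * 3 ^ (b + 1) by omega)
    rw [e1] at hu
    rw [e2] at hu'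
    rcases Nat.lt_or_ge B 2 with g | g
    · refine ⟨by omega, by omega, ?_⟩
      have h5 : r ∣ 5 := ⟨r ^ a, by rw [← pow_succ']; omega⟩
      exact (Nat.prime_dvd_prime_iff_eq hr (by decide : Nat.Prime 5)).1 h5
    · exfalso
      rcases pure_split (by omega) (by omega) (coprime_two_mul_add_one B) sy sB with
        ⟨-, v, hv⟩ | ⟨⟨v, hv⟩, -⟩
      · have h1 : r ∣ 4 * B := dvd_mul_of_dvd_right (hv ▸ dvd_pow_self r (by omega)) 4
        have h2 : r ∣ 4 * B + 1 := by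
          rw [show 4 * B + 1 = 2 * A - 1 by omega, ha]
          exact dvd_pow_self r (by omega)
        exact hr.not_dvd_one ((Nat.dvd_add_right h1).1 h2)
      · have h1 : r ∣ 3 := hr.dvd_of_dvd_pow (n := b + 1) (by
          rw [show (3 : ℕ) ^ (b + 1) = r ^ (v + 1) by omega]; exact dvd_pow_self r (by omega))
        exact hr3 ((Nat.prime_dvd_prime_iff_eq hr Nat.prime_three).1 h1)

end Cfsg.Agent.SmallN
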