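import Cfsg.Agent.Lib.SmallN.RationalSylow
import Cfsg.Agent.Lib.SmallN.KleinArith
import Cfsg.Agent.Lib.SmallN.ThreePrimes.Main
import Cfsg.Agent.Lib.Blocks.KleinPrincipal
import Cfsg.Agent.Lib.Recog.OrderSixty

/-!
Simple groups of order `4 * 3 ^ i * r ^ j`, through the principal 2-block.
-/

set_option autoImplicit false
set_option linter.style.haveILetI false
set_option linter.unusedSectionVars false

namespace Cfsg.Agent.SmallN

open Cfsg Cfsg.Agent.Char Cfsg.Agent.Blocks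
open scoped ComplexConjugate Classical

universe u

variable {G : Type u} [Group G] [Fintype G]

/-- A field map acts on a character value through the roots of unity of the order of the element. -/
theorem map_char_order (χ : IrrCharacter G) (σ : ℂ →+* ℂ) {g : G} {k : ℕ}
    (hk : ∀ z : ℂ, z ^ orderOf g = 1 → σ z = z ^ k) :
    σ ((χ : G → ℂ) g) = (χ : G → ℂ) (g ^ k) := by
  obtain ⟨n, ρ, -, hc⟩ := id χ.2
  obtain ⟨M, -, hM, hpow, -⟩ := exists_eigenvalues ρ g
  have h1 := hpow 1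
  simp only [pow_one, Multiset.map_id'] at h1
  rw [← congrFun hc g, h1, ← congrFun hc (g ^ k), hpow k, map_multiset_sum]
  exact congrArg Multiset.sum (Multiset.map_congr rfl fun z hz => hk z (hM z hz))

/-- A perfect nontrivial group is not solvable. -/
theorem false_of_two_primes [Nontrivial G] (hperf : commutator G = ⊤) {p q a b : ℕ} (hp : p.Prime)
    (hq : q.Prime) (hG : Nat.card G = p ^ a * q ^ b) : False := by
  have hsol := Char.isSolvable_of_card_pq p q hp hq _ G rfl ⟨a, b, hG⟩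
  haveI := hsol
  haveI : Group.IsPerfect G := Group.isPerfect_def.2 hperf
  exact Group.IsPerfect.not_isSolvable G hsol

theorem two_le_deg [IsSimpleGroup G] (hperf : commutator G = ⊤) {χ : IrrCharacter G}
    (h : (χ : G → ℂ) ≠ fun _ => 1) : 2 ≤ charDegree (χ : G → ℂ) := by
  by_contra hlt
  refine h ?_
  have hd : (χ : G → ℂ) 1 = 1 := by
    rw [irr_one_eq_charDegree,
      show charDegree (χ : G → ℂ) = 1 by have := charDegree_pos χ; omega, Nat.cast_one]
  rw [eq_principal_of_deg_one hperf hd]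
  rfl

section Block

variable {r i j : ℕ} (hr : r.Prime) (hG : Nat.card G = 4 * 3 ^ i * r ^ j)
include hr hG

theorem sm_of_dvd_card {n : ℕ} (hn : Odd n) (h : ∀ s : ℕ, s.Prime → s ∣ n → s ∣ Nat.card G) :
    Sm r n := by
  intro s hs hsn
  have h1 := h s hs hsn
  rw [hG] at h1
  rcases hs.dvd_mul.1 h1 with h2 | h2
  · rcases hs.dvd_mul.1 h2 with h3 | h3
    · exfalso
      have h4 : s = 2 := (Nat.prime_dvd_prime_iff_eq hs Nat.prime_two).1
        (hs.dvd_of_dvd_pow (n := 2) (by simpa using h3))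
      subst h4
      exact (Nat.not_even_iff_odd.2 hn) (even_iff_two_dvd.2 hsn)
    · exact Or.inl ((Nat.prime_dvd_prime_iff_eq hs Nat.prime_three).1 (hs.dvd_of_dvd_pow h3))
  · exact Or.inr ((Nat.prime_dvd_prime_iff_eq hs hr).1 (hs.dvd_of_dvd_pow h2))

variable [IsSimpleGroup G] (hperf : commutator G = ⊤) {M : Ideal AlgInt} [M.IsPrime]
  (hM : IsPModular 2 M) (hS : KleinBlock.Setup G)
  {χ₁ χ₂ χ₃ : IrrCharacter G}
  (hB : principalBlock M G =
    {χ : IrrCharacter G | (χ : G → ℂ) = (fun _ => 1) ∨ χ = χ₁ ∨ χ = χ₂ ∨ χ = χ₃})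
  (hdist : (χ₁ : G → ℂ) ≠ (fun _ => 1) ∧ (χ₂ : G → ℂ) ≠ (fun _ => 1) ∧
    (χ₃ : G → ℂ) ≠ (fun _ => 1) ∧ χ₁ ≠ χ₂ ∧ χ₁ ≠ χ₃ ∧ χ₂ ≠ χ₃)
include hperf hM hS hB hdist

theorem not_ppm {J : G} (hJ : orderOf J = 2)
    (hval : (χ₁ : G → ℂ) J = ((1 : ℤ) : ℂ) ∧ (χ₂ : G → ℂ) J = ((1 : ℤ) : ℂ) ∧
      (χ₃ : G → ℂ) J = ((-1 : ℤ) : ℂ)) : False := by
  have heq := KleinBlock.degree_eq hM hS χ₁ χ₂ χ₃ 1 1 (-1) hJ hB hdist hval rfl rfl rfl
  have hrel := KleinBlock.degree_relation hM hS χ₁ χ₂ χ₃ 1 1 (-1) hJ hB hdist hval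
  obtain ⟨m1, -, -⟩ := KleinBlock.mod_four hM hS χ₁ χ₂ χ₃ 1 1 (-1) hJ hB hdist hval
  obtain ⟨P⟩ : Nonempty (Sylow 2 G) := inferInstance
  obtain ⟨ρ, hρ⟩ := KleinBlock.card_centralizer_sylow_dvd hS hJ P
  have hord := KleinBlock.order_formula hM hS χ₁ χ₂ χ₃ 1 1 (-1) hJ hB hdist hval
    ⟨Or.inl rfl, Or.inl rfl, Or.inr rfl⟩ P (r := ρ) (by rw [hρ, mul_comm])
  have hx2 := two_le_deg hperf hdist.1
  have hρG : ρ ∣ Nat.card G := (Dvd.intro_left _ hρ.symm).trans (Subgroup.card_subgroup_dvd_card _)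
  have hcG : Nat.card ↥(Subgroup.centralizer ((P : Subgroup G) : Set G)) ∣ Nat.card G :=
    Subgroup.card_subgroup_dvd_card _
  have hxG := charDegree_dvd_card χ₁
  have hqG := charDegree_dvd_card χ₃
  rw [← heq] at hord hrel
  generalize charDegree (χ₁ : G → ℂ) = x at *
  generalize charDegree (χ₃ : G → ℂ) = q at *
  generalize Nat.card ↥(Subgroup.centralizer ((P : Subgroup G) : Set G)) = c at *
  obtain rfl : q = 2 * x + 1 := by omega
  obtain ⟨h, rfl⟩ : ∃ h, x = 2 * h - 1 := ⟨(x + 1) / 2, by omega⟩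
  have hkey : Nat.card G * h ^ 2 = ρ ^ 3 * c * ((2 * h - 1) * (2 * (2 * h - 1) + 1)) := by
    have hx : ((2 * h - 1 : ℕ) : ℚ) = 2 * h - 1 := by
      rw [Nat.cast_sub (by omega)]; push_cast; ring
    have hx0 : (2 * (h : ℚ) - 1) ≠ 0 := by
      rw [← hx]; exact Nat.cast_ne_zero.2 (by omega)
    have hq0 : (2 * (2 * (h : ℚ) - 1) + 1) ≠ 0 := by
      rw [← hx]; exact_mod_cast (show 2 * (2 * h - 1) + 1 ≠ 0 by omega)
    push_cast [hx] at hord
    field_simp at hord
    have : ((Nat.card G * h ^ 2 : ℕ) : ℚ) =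
        ((ρ ^ 3 * c * ((2 * h - 1) * (2 * (2 * h - 1) + 1)) : ℕ) : ℚ) := by
      push_cast [hx]
      linear_combination hord / 8
    exact_mod_cast this
  have hh : Sm r h := sm_of_dvd_card hr hG (by rw [Nat.odd_iff]; omega) fun s hs hsh => by
    have h1 : s ∣ ρ ^ 3 * c * ((2 * h - 1) * (2 * (2 * h - 1) + 1)) :=
      hkey ▸ dvd_mul_of_dvd_right (dvd_pow hsh two_ne_zero) _
    rcases hs.dvd_mul.1 h1 with h2 | h2 <;> rcases hs.dvd_mul.1 h2 with h3 | h3
    · exact (hs.dvd_of_dvd_pow h3).trans hρG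
    · exact h3.trans hcG
    · exact h3.trans hxG
    · exact h3.trans hqG
  have hx : Sm r (2 * h - 1) :=
    sm_of_dvd_card hr hG (by rw [Nat.odd_iff]; omega) fun s _ hd => hd.trans hxG
  have hq : Sm r (2 * (2 * h - 1) + 1) :=
    sm_of_dvd_card hr hG (by rw [Nat.odd_iff]; omega) fun s _ hd => hd.trans hqG
  refine no_triple (by omega) (by omega) (by omega) (coprime_two_mul_add_one _).symm
    (coprime_two_mul_sub_one (by omega)) ?_ hx hq hh
  apply Nat.coprime_of_dvd'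
  intro d _ h1 h2
  exact (Nat.dvd_add_right h1).1 (show d ∣ (2 * (2 * h - 1) + 1) + 1 by
    rw [show (2 * (2 * h - 1) + 1) + 1 = 4 * h by omega]; exact dvd_mul_of_dvd_right h2 4)

theorem degrees_pmm (hr3 : r ≠ 3) {J : G} (hJ : orderOf J = 2)
    (hval : (χ₁ : G → ℂ) J = ((1 : ℤ) : ℂ) ∧ (χ₂ : G → ℂ) J = ((-1 : ℤ) : ℂ) ∧
      (χ₃ : G → ℂ) J = ((-1 : ℤ) : ℂ)) :
    charDegree (χ₁ : G → ℂ) = 5 ∧ charDegree (χ₂ : G → ℂ) = 3 ∧
      charDegree (χ₃ : G → ℂ) = 3 ∧ r = 5 := by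
  have hrel := KleinBlock.degree_relation hM hS χ₁ χ₂ χ₃ 1 (-1) (-1) hJ hB hdist hval
  obtain ⟨m1, m2, m3⟩ := KleinBlock.mod_four hM hS χ₁ χ₂ χ₃ 1 (-1) (-1) hJ hB hdist hval
  obtain ⟨P⟩ : Nonempty (Sylow 2 G) := inferInstance
  obtain ⟨ρ, hρ⟩ := KleinBlock.card_centralizer_sylow_dvd hS hJ P
  have hord := KleinBlock.order_formula hM hS χ₁ χ₂ χ₃ 1 (-1) (-1) hJ hB hdist hval
    ⟨Or.inl rfl, Or.inr rfl, Or.inr rfl⟩ P (r := ρ) (by rw [hρ, mul_comm])
  have hρG : ρ ∣ Nat.card G := (Dvd.intro_left _ hρ.symm).trans (Subgroup.card_subgroup_dvd_card _)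
  have hcG : Nat.card ↥(Subgroup.centralizer ((P : Subgroup G) : Set G)) ∣ Nat.card G :=
    Subgroup.card_subgroup_dvd_card _
  have hg1 := two_le_deg hperf hdist.1
  have hg2 := two_le_deg hperf hdist.2.1
  have hg3 := two_le_deg hperf hdist.2.2.1
  have hxG := charDegree_dvd_card χ₁
  have hyG := charDegree_dvd_card χ₂
  have hzG := charDegree_dvd_card χ₃
  generalize charDegree (χ₁ : G → ℂ) = x at *
  generalize charDegree (χ₂ : G → ℂ) = y at *
  generalize charDegree (χ₃ : G → ℂ) = z at *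
  generalize Nat.card ↥(Subgroup.centralizer ((P : Subgroup G) : Set G)) = c at *
  obtain ⟨A, rfl⟩ : ∃ A, x = 2 * A - 1 := ⟨(x + 1) / 2, by omega⟩
  obtain ⟨B, rfl⟩ : ∃ B, y = 2 * B + 1 := ⟨(y - 1) / 2, by omega⟩
  obtain ⟨C, rfl⟩ : ∃ C, z = 2 * C + 1 := ⟨(z - 1) / 2, by omega⟩
  have hA : A = B + C + 1 := by omega
  subst hA
  have hx : 2 * (B + C + 1) - 1 = 2 * B + 2 * C + 1 := by omega
  rw [hx] at hord hxG hg1 ⊢
  have hkey : Nat.card G * ((B + C + 1) * B * C) =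
      ρ ^ 3 * c * ((2 * B + 2 * C + 1) * (2 * B + 1) * (2 * C + 1)) := by
    have d1 : (2 * (B : ℚ) + 2 * C + 1) ≠ 0 := by
      exact_mod_cast (show 2 * B + 2 * C + 1 ≠ 0 by omega)
    have d2 : (2 * (B : ℚ) + 1) ≠ 0 := by exact_mod_cast (show 2 * B + 1 ≠ 0 by omega)
    have d3 : (2 * (C : ℚ) + 1) ≠ 0 := by exact_mod_cast (show 2 * C + 1 ≠ 0 by omega)
    push_cast at hord
    field_simp at hord
    have : ((Nat.card G * ((B + C + 1) * B * C) : ℕ) : ℚ) =
        ((ρ ^ 3 * c * ((2 * B + 2 * C + 1) * (2 * B + 1) * (2 * C + 1)) : ℕ) : ℚ) := by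
      push_cast
      linear_combination hord / 8
    exact_mod_cast this
  have hsm : ∀ n : ℕ, Odd n → n ∣ (B + C + 1) * B * C → Sm r n := fun n hn hd =>
    sm_of_dvd_card hr hG hn fun s hs hsn => by
      have h1 : s ∣ ρ ^ 3 * c * ((2 * B + 2 * C + 1) * (2 * B + 1) * (2 * C + 1)) :=
        hkey ▸ dvd_mul_of_dvd_right (hsn.trans hd) _
      rcases hs.dvd_mul.1 h1 with h2 | h2
      · rcases hs.dvd_mul.1 h2 with h3 | h3
        · exact (hs.dvd_of_dvd_pow h3).trans hρG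
        · exact h3.trans hcG
      · rcases hs.dvd_mul.1 h2 with h3 | h3
        · rcases hs.dvd_mul.1 h3 with h4 | h4
          · exact h4.trans hxG
          · exact h4.trans hyG
        · exact h3.trans hzG
  have sx : Sm r (2 * (B + C + 1) - 1) := by
    rw [hx]
    exact sm_of_dvd_card hr hG (by rw [Nat.odd_iff]; omega) fun s _ hd => hd.trans hxG
  have sy : Sm r (2 * B + 1) :=
    sm_of_dvd_card hr hG (by rw [Nat.odd_iff]; omega) fun s _ hd => hd.trans hyG
  have sz : Sm r (2 * C + 1) :=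
    sm_of_dvd_card hr hG (by rw [Nat.odd_iff]; omega) fun s _ hd => hd.trans hzG
  obtain ⟨e1, e2, e3⟩ := degree_solution (A := B + C + 1) hr hr3 (by omega) (by omega) (by omega) rfl
    (hsm _ (by rw [Nat.odd_iff]; omega) ((dvd_mul_right _ B).mul_right C))
    (hsm _ (by rw [Nat.odd_iff]; omega) ((dvd_mul_left B _).mul_right C))
    (hsm _ (by rw [Nat.odd_iff]; omega) (dvd_mul_left C _)) sx sy sz
  exact ⟨by omega, by omega, by omega, e3⟩

theorem card_sixty {J : G} (hJ : orderOf J = 2)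
    (hval : (χ₁ : G → ℂ) J = ((1 : ℤ) : ℂ) ∧ (χ₂ : G → ℂ) J = ((-1 : ℤ) : ℂ) ∧
      (χ₃ : G → ℂ) J = ((-1 : ℤ) : ℂ))
    (hd1 : charDegree (χ₁ : G → ℂ) = 5) (hd2 : charDegree (χ₂ : G → ℂ) = 3)
    (hd3 : charDegree (χ₃ : G → ℂ) = 3) (hr5 : r = 5) : Nat.card G = 60 := by
  subst hr5
  have h4 := fun g => KleinBlock.four_indicator hM hS χ₁ χ₂ χ₃ 1 (-1) (-1) hJ hB hdist hval g
  have hdp : charDegree (principal G : G → ℂ) = 1 := Cfsg.Agent.CharX.charDegree_one
  obtain ⟨hne1, hne2, hne3, n12, n13, n23⟩ := hdist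
  set φ : Fin 4 → IrrCharacter G := ![principal G, χ₁, χ₂, χ₃] with hφ
  have hinj : Function.Injective φ := by
    have e1 : principal G ≠ χ₁ := fun e => hne1 (e ▸ rfl)
    have e2 : principal G ≠ χ₂ := fun e => hne2 (e ▸ rfl)
    have e3 : principal G ≠ χ₃ := fun e => hne3 (e ▸ rfl)
    intro a b hab
    fin_cases a <;> fin_cases b <;>
      simp [hφ, e1, e2, e3, e1.symm, e2.symm, e3.symm, n12, n13, n23, n12.symm, n13.symm, n23.symm]
        at hab ⊢
  have hdeg : ∀ (σ : ℂ ≃+* ℂ) (χ : IrrCharacter G),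
      charDegree (DefOne.galT σ χ : G → ℂ) = charDegree (χ : G → ℂ) := fun σ χ => by
    have h := DefOne.galT_one σ χ
    rw [irr_one_eq_charDegree, irr_one_eq_charDegree] at h
    exact_mod_cast h
  have hperm : ∀ (σ : ℂ ≃+* ℂ) (k : Fin 4), ∃ l : Fin 4, DefOne.galT σ (φ k) = φ l := by
    intro σ k
    have hfix : ∀ g : G, σ.symm (∑ l : Fin 4, ((![1, 1, -1, -1] l : ℤ) : ℂ) * (φ l : G → ℂ) g) =
        ∑ l : Fin 4, ((![1, 1, -1, -1] l : ℤ) : ℂ) * (φ l : G → ℂ) g := by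
      intro g
      have e : ∑ l : Fin 4, ((![1, 1, -1, -1] l : ℤ) : ℂ) * (φ l : G → ℂ) g =
          if 2 ∣ orderOf g then 4 else 0 := by
        rw [← h4 g, Fin.sum_univ_four]
        simp [hφ, principal]
      rw [e]
      split_ifs
      · exact map_ofNat σ.symm 4
      · exact map_zero σ.symm
    obtain ⟨l, -, hl⟩ := exists_galT_eq Finset.univ ![1, 1, -1, -1] φ hinj.injOn σ.symm hfix
      (j := k) (Finset.mem_univ k) (by fin_cases k <;> simp)
    refine ⟨l, ?_⟩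
    have h := DefOne.galT_symm σ.symm (φ l)
    rw [hl, RingEquiv.symm_symm] at h
    exact h
  have hfix1 : ∀ (σ : ℂ ≃+* ℂ) (g : G), σ ((χ₁ : G → ℂ) g) = (χ₁ : G → ℂ) g := by
    intro σ g
    obtain ⟨l, hl⟩ := hperm σ 1
    rw [show φ 1 = χ₁ from rfl] at hl
    have h := congrArg (fun χ : IrrCharacter G => charDegree (χ : G → ℂ)) hl
    simp only [hdeg, hd1] at h
    fin_cases l <;> simp [hφ, hdp, hd2, hd3] at h
    exact congrFun (congrArg Subtype.val hl) g
  have hperm2 : ∀ (σ : ℂ ≃+* ℂ) (χ : IrrCharacter G), χ = χ₂ ∨ χ = χ₃ →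
      DefOne.galT σ χ = χ₂ ∨ DefOne.galT σ χ = χ₃ := by
    intro σ χ hχ
    obtain ⟨l, hl⟩ : ∃ l : Fin 4, DefOne.galT σ χ = φ l := by
      rcases hχ with e | e <;> rw [e]
      · exact hperm σ 2
      · exact hperm σ 3
    have hd : charDegree (χ : G → ℂ) = 3 := by rcases hχ with e | e <;> rw [e] <;> assumption
    have h := congrArg (fun χ : IrrCharacter G => charDegree (χ : G → ℂ)) hl
    simp only [hdeg, hd] at h
    fin_cases l <;> simp [hφ, hdp, hd1] at h
    · exact Or.inl hl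
    · exact Or.inr hl
  have hne : ∀ {χ : IrrCharacter G}, (χ : G → ℂ) ≠ (fun _ => 1) → χ ≠ principal G :=
    fun h e => h (by rw [e]; rfl)
  have hf1 : ∀ h : G, (χ₁ : G → ℂ) h = (χ₁ : G → ℂ) 1 → h = 1 := fun h hh =>
    faithful_of_simple hperf (hne hne1) hh
  have hf2 : ∀ h : G, (χ₂ : G → ℂ) h = (χ₂ : G → ℂ) 1 → h = 1 := fun h hh =>
    faithful_of_simple hperf (hne hne2) hh
  -- elements of prime power order
  have hsyl : ∀ (p : ℕ), p.Prime → (∀ k : ℕ, 5 < (p ^ (k + 2)).totient) → ∀ (Q : Sylow p G),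
      ∀ x ∈ (Q : Subgroup G), x ≠ 1 → orderOf x = p := by
    intro p hp hbig Q x hx hx1
    haveI : Fact p.Prime := ⟨hp⟩
    obtain ⟨k, hk⟩ := IsPGroup.iff_orderOf.1 Q.isPGroup' ⟨x, hx⟩
    rw [← Subgroup.orderOf_coe] at hk
    rcases k with _ | _ | k
    · rw [pow_zero, orderOf_eq_one_iff] at hk; exact absurd hk hx1
    · simpa using hk
    · exfalso
      have h := totient_le_degree (fun σ l => hfix1 σ (x ^ l)) hf1 hp hk
      rw [hd1] at h
      have := hbig k
      simp only [show k + 1 + 1 = k + 2 from rfl] at h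
      omega
  -- the Sylow five-subgroup
  haveI h5F : Fact (Nat.Prime 5) := ⟨by norm_num⟩
  haveI h3F : Fact (Nat.Prime 3) := ⟨Nat.prime_three⟩
  obtain ⟨Q⟩ : Nonempty (Sylow 5 G) := inferInstance
  obtain ⟨R⟩ : Nonempty (Sylow 3 G) := inferInstance
  have hQval : ∀ x ∈ (Q : Subgroup G), x ≠ 1 → (χ₁ : G → ℂ) x = ((0 : ℤ) : ℂ) := by
    intro x hx hx1
    have ho := hsyl 5 h5F.out (fun k => by
      rw [Nat.totient_prime_pow_succ h5F.out]
      have := Nat.one_le_pow k 5 (by norm_num)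
      rw [pow_succ]; omega) Q x hx hx1
    obtain ⟨m, hm, he⟩ := exists_fixed_mult χ₁ h5F.out ho hf1 fun σ => hfix1 σ x
    obtain ⟨n, hn⟩ := Blocks.exists_int_of_fixed
      (IsCharacter.isIntegral (IsIrrCharacter.isCharacter χ₁.2) x) fun σ => hfix1 σ x
    rw [hn, hd1] at he
    rw [hd1] at hm
    have he' : 4 * n = 5 * (m : ℤ) - 5 := by
      push_cast at he
      exact_mod_cast (by linear_combination he : (4 : ℂ) * n = 5 * m - 5)
    rw [hn, show n = 0 by omega]
  have hQdvd : Nat.card (Q : Subgroup G) ∣ 5 := by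
    have h := card_dvd_of_const χ₁ (Q : Subgroup G) hQval
    rw [hd1, sub_zero] at h
    exact_mod_cast h
  have hj : j ≤ 1 := by
    rw [Q.card_eq_multiplicity, hG, Nat.factorization_mul (by positivity) (by positivity),
      Finsupp.add_apply, Nat.factorization_eq_zero_of_not_dvd (p := 5), zero_add,
      h5F.out.factorization_pow, Finsupp.single_eq_same] at hQdvd
    · by_contra hc
      have := Nat.pow_dvd_pow 5 (show 2 ≤ j by omega) |>.trans hQdvd
      norm_num at this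
    · intro h
      rcases h5F.out.dvd_mul.1 h with h | h
      · norm_num at h
      · have := (Nat.prime_dvd_prime_iff_eq h5F.out Nat.prime_three).1 (h5F.out.dvd_of_dvd_pow h)
        omega
  obtain rfl : j = 1 := by
    rcases (show j = 0 ∨ j = 1 by omega) with h | h
    · exfalso
      subst h
      exact false_of_two_primes hperf Nat.prime_two Nat.prime_three (a := 2) (b := i)
        (by rw [hG]; ring)
    · exact h
  -- the characters of degree three are real
  obtain ⟨y, hy⟩ := exists_prime_orderOf_dvd_card' (G := G) 5 ⟨4 * 3 ^ i, by rw [hG]; ring⟩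
  set cj : ℂ ≃+* ℂ := Complex.conjAe.toRingEquiv with hcj
  have hconjv : ∀ (χ : IrrCharacter G) (g : G) (n : ℕ), orderOf g = n + 1 →
      conj ((χ : G → ℂ) g) = (χ : G → ℂ) (g ^ n) := by
    intro χ g n hn
    refine map_char_order χ (starRingEnd ℂ) fun z hz => ?_
    rw [hn] at hz
    rw [← Complex.inv_eq_conj (norm_eq_one_of_pow (by omega) hz)]
    refine inv_eq_of_mul_eq_one_right ?_
    rw [← pow_succ', hz]
  have hy2 : conj ((χ₂ : G → ℂ) y) = (χ₂ : G → ℂ) y := by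
    obtain ⟨σ, hσ⟩ := CharGalois.exists_galoisAut (n := 5) (k := 2) (by norm_num) (by norm_num)
    have h2 : DefOne.galT σ (DefOne.galT σ χ₂) = χ₂ := by
      rcases hperm2 σ χ₂ (Or.inl rfl) with e | e
      · rw [e, e]
      · rw [e]
        rcases hperm2 σ χ₃ (Or.inr rfl) with e' | e'
        · exact e'
        · exact absurd (DefOne.galT_injective σ (e.trans e'.symm)) n23
    have h := congrFun (congrArg Subtype.val h2) y
    rw [DefOne.galT_apply, DefOne.galT_apply] at h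
    have hs : ∀ z : ℂ, z ^ 5 = 1 → (σ : ℂ →+* ℂ) z = z ^ 2 := hσ
    have e1 := map_char_order χ₂ (σ : ℂ →+* ℂ) (g := y) (by rwa [hy])
    have e2 := map_char_order χ₂ (σ : ℂ →+* ℂ) (g := y ^ 2) (k := 2) (by
      rwa [orderOf_pow, hy])
    simp only [RingHom.coe_coe] at e1 e2
    rw [e1, e2, ← pow_mul] at h
    rw [hconjv χ₂ y 4 (by rw [hy])]
    exact h
  have hreal2 : ∀ g : G, conj ((χ₂ : G → ℂ) g) = (χ₂ : G → ℂ) g := by
    rcases hperm2 cj χ₂ (Or.inl rfl) with e | e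
    · exact fun g => congrFun (congrArg Subtype.val e) g
    · exfalso
      have h3 : (χ₃ : G → ℂ) y = (χ₂ : G → ℂ) y := by
        rw [← congrFun (congrArg Subtype.val e) y]; exact hy2
      have h := h4 y
      rw [if_neg (by rw [hy]; norm_num), h3] at h
      obtain ⟨m, hm, he⟩ := exists_fixed_mult χ₁ h5F.out hy hf1 fun σ => hfix1 σ y
      obtain ⟨n, hn⟩ := Blocks.exists_int_of_fixed
        (IsCharacter.isIntegral (IsIrrCharacter.isCharacter χ₁.2) y) fun σ => hfix1 σ y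
      rw [hn, hd1] at he
      rw [hd1] at hm
      have he' : 4 * n = 5 * (m : ℤ) - 5 := by
        push_cast at he
        exact_mod_cast (by linear_combination he : (4 : ℂ) * n = 5 * m - 5)
      rw [hn, show n = 0 by omega] at h
      push_cast at h
      have hint := IsCharacter.isIntegral (IsIrrCharacter.isCharacter χ₂.2) y
      rw [show (χ₂ : G → ℂ) y = ((1 / 2 : ℚ) : ℂ) by push_cast; linear_combination (-1 / 2 : ℂ) * h]
        at hint
      obtain ⟨m', hm'⟩ := exists_int_of_isIntegral hint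
      have : (2 : ℤ) * m' = 1 := by
        have : (2 : ℚ) * m' = 1 := by rw [← hm']; norm_num
        exact_mod_cast this
      omega
  -- the Sylow three-subgroup
  have hRval : ∀ x ∈ (R : Subgroup G), x ≠ 1 → (χ₂ : G → ℂ) x = ((0 : ℤ) : ℂ) := by
    intro x hx hx1
    have ho := hsyl 3 h3F.out (fun k => by
      rw [Nat.totient_prime_pow_succ h3F.out]
      have := Nat.one_le_pow k 3 (by norm_num)
      rw [pow_succ]; omega) R x hx hx1
    have hσx : ∀ σ : ℂ ≃+* ℂ, σ ((χ₂ : G → ℂ) x) = (χ₂ : G → ℂ) x := by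
      intro σ
      obtain ⟨k, hk, hks⟩ := CharGalois.exists_exponent (σ : ℂ →+* ℂ) (n := 3) (by norm_num)
      have e := map_char_order χ₂ (σ : ℂ →+* ℂ) (g := x) (by rwa [ho])
      simp only [RingHom.coe_coe] at e
      rw [e, pow_eq_pow_mod k (show x ^ 3 = 1 by rw [← ho]; exact pow_orderOf_eq_one x)]
      rcases (show k % 3 = 0 ∨ k % 3 = 1 ∨ k % 3 = 2 by omega) with h | h | h <;> rw [h]
      · exfalso
        have := Nat.eq_one_of_dvd_coprimes hk (Nat.dvd_of_mod_eq_zero h) (dvd_refl 3)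
        omega
      · rw [pow_one]
      · rw [← hconjv χ₂ x 2 (by rw [ho]), hreal2]
    obtain ⟨m, hm, he⟩ := exists_fixed_mult χ₂ h3F.out ho hf2 hσx
    obtain ⟨n, hn⟩ := Blocks.exists_int_of_fixed
      (IsCharacter.isIntegral (IsIrrCharacter.isCharacter χ₂.2) x) hσx
    rw [hn, hd2] at he
    rw [hd2] at hm
    have he' : 2 * n = 3 * (m : ℤ) - 3 := by
      push_cast at he
      exact_mod_cast (by linear_combination he : (2 : ℂ) * n = 3 * m - 3)
    rw [hn, show n = 0 by omega]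
  have hRdvd : Nat.card (R : Subgroup G) ∣ 3 := by
    have h := card_dvd_of_const χ₂ (R : Subgroup G) hRval
    rw [hd2, sub_zero] at h
    exact_mod_cast h
  have hi : i ≤ 1 := by
    rw [R.card_eq_multiplicity, hG, Nat.factorization_mul (by positivity) (by positivity),
      Finsupp.add_apply, Nat.factorization_eq_zero_of_not_dvd (n := 5 ^ 1) (by norm_num), add_zero,
      Nat.factorization_mul (by positivity) (by positivity), Finsupp.add_apply,
      Nat.factorization_eq_zero_of_not_dvd (n := 4) (by norm_num), zero_add,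
      h3F.out.factorization_pow, Finsupp.single_eq_same] at hRdvd
    by_contra hc
    have := Nat.pow_dvd_pow 3 (show 2 ≤ i by omega) |>.trans hRdvd
    norm_num at this
  rcases (show i = 0 ∨ i = 1 by omega) with h | h
  · exfalso
    subst h
    exact false_of_two_primes hperf Nat.prime_two h5F.out (a := 2) (b := 1) (by rw [hG]; ring)
  · subst h
    rw [hG]
    norm_num

end Block

/-- Simple groups of order `4 * 3 ^ i * r ^ j`. -/
theorem four_case [IsSimpleGroup G] (hperf : commutator G = ⊤) {r i j : ℕ} (hr : r.Prime)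
    (hr2 : r ≠ 2) (hr3 : r ≠ 3) (hG : Nat.card G = 4 * 3 ^ i * r ^ j) :
    Nonempty (G ≃* alternatingGroup (Fin 5)) := by
  haveI : Nontrivial G := IsSimpleGroup.toNontrivial
  haveI : Fact (Nat.Prime 2) := ⟨Nat.prime_two⟩
  obtain ⟨P⟩ : Nonempty (Sylow 2 G) := inferInstance
  have hP : Nat.card (P : Subgroup G) = 4 := by
    rw [P.card_eq_multiplicity, hG, mul_assoc, Nat.factorization_mul (by norm_num) (by
        have := hr.pos
        positivity), Finsupp.add_apply,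
      Nat.factorization_eq_zero_of_not_dvd (n := 3 ^ i * r ^ j), add_zero,
      show (4 : ℕ) = 2 ^ 2 from rfl, Nat.prime_two.factorization_pow, Finsupp.single_eq_same]
    intro h
    rcases Nat.prime_two.dvd_mul.1 h with h | h
    · have := (Nat.prime_dvd_prime_iff_eq Nat.prime_two Nat.prime_three).1
        (Nat.prime_two.dvd_of_dvd_pow h)
      omega
    · exact hr2 ((Nat.prime_dvd_prime_iff_eq Nat.prime_two hr).1
        (Nat.prime_two.dvd_of_dvd_pow h)).symm
  have hnc : ¬ HasNormalPComplement 2 G := by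
    rintro ⟨P', N, hN, hNP⟩
    rcases hN.eq_bot_or_eq_top with h | h
    · have h1 := hNP.card_mul
      rw [h, Subgroup.card_bot, one_mul] at h1
      obtain ⟨k, hk⟩ := IsPGroup.iff_card.1 P'.isPGroup'
      exact false_of_two_primes hperf Nat.prime_two Nat.prime_three (a := k) (b := 0)
        (by rw [pow_zero, mul_one, ← hk, h1])
    · have h1 := hNP.card_mul
      rw [h, Subgroup.card_top] at h1
      have h2 : Nat.card (P' : Subgroup G) = 1 := by
        have hpos : 0 < Nat.card G := Nat.card_pos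
        exact Nat.eq_of_mul_eq_mul_left hpos (by rw [h1, mul_one])
      have h3 := P'.dvd_card_of_dvd_card (⟨2 * 3 ^ i * r ^ j, by rw [hG]; ring⟩ : 2 ∣ Nat.card G)
      rw [h2] at h3
      omega
  have hS := KleinBlock.setup_of_no_complement P hP hnc
  obtain ⟨M, hM⟩ := exists_isPModular_witness 2
  haveI : M.IsMaximal := hM.2.1
  obtain ⟨χ₁, χ₂, χ₃, hdist, hB, ε₁, ε₂, ε₃, ⟨s1, s2, s3⟩, hval⟩ :=
    KleinBlock.exists_three hM hS
  obtain ⟨J, hJ⟩ := KleinBlock.exists_invol hS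
  obtain ⟨v1, v2, v3⟩ := hval J hJ
  have hrel := KleinBlock.degree_relation hM hS χ₁ χ₂ χ₃ ε₁ ε₂ ε₃ hJ hB hdist ⟨v1, v2, v3⟩
  obtain ⟨g1, g2, g3, n12, n13, n23⟩ := hdist
  have d1 := two_le_deg hperf g1
  have d2 := two_le_deg hperf g2
  have d3 := two_le_deg hperf g3
  have main : ∀ {a b c : IrrCharacter G},
      principalBlock M G = {χ : IrrCharacter G | (χ : G → ℂ) = (fun _ => 1) ∨ χ = a ∨ χ = b ∨ χ = c} →
      ((a : G → ℂ) ≠ (fun _ => 1) ∧ (b : G → ℂ) ≠ (fun _ => 1) ∧ (c : G → ℂ) ≠ (fun _ => 1) ∧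
        a ≠ b ∧ a ≠ c ∧ b ≠ c) →
      (a : G → ℂ) J = ((1 : ℤ) : ℂ) → (c : G → ℂ) J = ((-1 : ℤ) : ℂ) →
      ((b : G → ℂ) J = ((1 : ℤ) : ℂ) ∨ (b : G → ℂ) J = ((-1 : ℤ) : ℂ)) →
      Nonempty (G ≃* alternatingGroup (Fin 5)) := by
    intro a b c hB' hd' ha hc hb
    rcases hb with hb | hb
    · exact (not_ppm hr hG hperf hM hS hB' hd' hJ ⟨ha, hb, hc⟩).elim
    · obtain ⟨e1, e2, e3, e5⟩ := degrees_pmm hr hG hperf hM hS hB' hd' hr3 hJ ⟨ha, hb, hc⟩
      have h60 := card_sixty hr hG hperf hM hS hB' hd' hJ ⟨ha, hb, hc⟩ e1 e2 e3 e5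
      refine OrderSixty.equiv_A5 h60 ?_
      rcases OrderSixty.sylow_card_cases h60 with h | h
      · exfalso
        haveI : Fact (Nat.Prime 5) := ⟨by norm_num⟩
        obtain ⟨S⟩ : Nonempty (Sylow 5 G) := inferInstance
        haveI : Subsingleton (Sylow 5 G) := (Nat.card_eq_one_iff_unique.1 h).1
        rcases (S.normal_of_subsingleton).eq_bot_or_eq_top with h1 | h1
        · have h2 := S.dvd_card_of_dvd_card (by rw [h60]; norm_num)
          rw [h1, Subgroup.card_bot] at h2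
          omega
        · obtain ⟨k, hk⟩ := IsPGroup.iff_card.1 S.isPGroup'
          rw [h1, Subgroup.card_top] at hk
          exact false_of_two_primes hperf (by norm_num : Nat.Prime 5) Nat.prime_two (a := k) (b := 0)
            (by rw [hk, pow_zero, mul_one])
      · exact h
  rcases s1 with e1 | e1 <;> rcases s2 with e2 | e2 <;> rcases s3 with e3 | e3 <;>
    subst e1 <;> subst e2 <;> subst e3
  · omega
  · exact main hB ⟨g1, g2, g3, n12, n13, n23⟩ v1 v3 (Or.inl v2)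
  · exact main (a := χ₁) (b := χ₃) (c := χ₂) (by rw [hB]; ext χ; simp; tauto)
      ⟨g1, g3, g2, n13, n12, n23.symm⟩ v1 v2 (Or.inl v3)
  · exact main hB ⟨g1, g2, g3, n12, n13, n23⟩ v1 v3 (Or.inr v2)
  · exact main (a := χ₂) (b := χ₃) (c := χ₁) (by rw [hB]; ext χ; simp; tauto)
      ⟨g2, g3, g1, n23, n12.symm, n13.symm⟩ v2 v1 (Or.inl v3)
  · exact main (a := χ₂) (b := χ₁) (c := χ₃) (by rw [hB]; ext χ; simp; tauto)
      ⟨g2, g1, g3, n12.symm, n23, n13⟩ v2 v3 (Or.inr v1)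
  · exact main (a := χ₃) (b := χ₁) (c := χ₂) (by rw [hB]; ext χ; simp; tauto)
      ⟨g3, g1, g2, n13.symm, n23.symm, n12⟩ v3 v2 (Or.inr v1)
  · omega

end Cfsg.Agent.SmallN
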