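import Cfsg.Agent.Lib.SmallN.Base

/-!
The case of a negative exceptional sign: there are exactly `p + 1` conjugates.
-/

set_option autoImplicit false
set_option linter.style.haveILetI false
set_option linter.unusedSectionVars false

namespace Cfsg.Agent.SmallN

open Cfsg Cfsg.Agent.Char Cfsg.Agent.Blocks Cfsg.Agent.BrauerPairs
open scoped ComplexConjugate Classical

universe u

theorem neg_arith {t q n p j X Y W Z : ℕ} (ht : 2 ≤ t) (hq : 2 ≤ q) (hn : 0 < n)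
    (hp : t * q + 1 = p) (hj : 0 < j)
    (h1 : q ^ 2 = 1 + X * (n * p + 1) + Y * (p - 1) + W * q + p * Z)
    (h2 : j * q = 1 + X * (n + 1) + Z) : n = 1 ∧ t = 2 := by
  obtain ⟨a, rfl⟩ : ∃ a, q = a + 2 := ⟨q - 2, by omega⟩
  subst hp
  rw [Nat.add_sub_cancel] at h1
  zify at h1 h2
  -- `p j ≤ q + t (1 + X)`
  have hq0 : (0 : ℤ) < a + 2 := by positivity
  have k1 : ((a : ℤ) + 2) * ((a + 2) + (t : ℤ) * (1 + X) - (t * (a + 2) + 1) * j) =
      ((a : ℤ) + 2) * (Y * t + W) := by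
    linear_combination h1 - ((t : ℤ) * (a + 2) + 1) * h2
  have k2 := mul_left_cancel₀ hq0.ne' k1
  have k2' : ((t : ℤ) * (a + 2) + 1) * j ≤ (a + 2) + t * (1 + X) := by
    have h3 : (0 : ℤ) ≤ Y * t + W := by positivity
    linarith
  have k3 : ((n : ℤ) + 1) * X ≤ (j : ℤ) * (a + 2) - 1 := by
    have : (0 : ℤ) ≤ Z := by positivity
    linarith
  have k4 : ((n : ℤ) + 1) * ((t * (a + 2) + 1) * j - (a + 2) - t) ≤ t * (j * (a + 2) - 1) := by
    calc ((n : ℤ) + 1) * ((t * (a + 2) + 1) * j - (a + 2) - t)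
        ≤ ((n : ℤ) + 1) * (t * X) := mul_le_mul_of_nonneg_left (by linarith) (by positivity)
      _ = (t : ℤ) * (((n : ℤ) + 1) * X) := by ring
      _ ≤ _ := mul_le_mul_of_nonneg_left k3 (by positivity)
  -- the worst case is `j = 1`
  have k5 : (((n : ℤ) + 1) * (t - 1) - t) ≤ 0 := by
    by_contra hc
    push Not at hc
    have e1 : (0 : ℤ) ≤ ((j : ℤ) - 1) * ((n + 1) + n * (t * (a + 2))) :=
      mul_nonneg (by linarith [show (1 : ℤ) ≤ j by exact_mod_cast hj]) (by positivity)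
    have e2 : (0 : ℤ) < ((a : ℤ) + 1) * (((n : ℤ) + 1) * (t - 1) - t) := mul_pos (by positivity) hc
    nlinarith
  have ht' : (2 : ℤ) ≤ t := by exact_mod_cast ht
  have hn' : (1 : ℤ) ≤ n := by exact_mod_cast hn
  have hn1 : (n : ℤ) = 1 := by
    by_contra h
    nlinarith [mul_nonneg (show (0 : ℤ) ≤ n - 2 by omega) (show (0 : ℤ) ≤ t - 1 by linarith)]
  refine ⟨by exact_mod_cast hn1, ?_⟩
  rw [hn1] at k5
  omega

variable {G : Type u} [Group G] [Fintype G] {p : ℕ} {P Q : Subgroup G} {q n : ℕ}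
  (H : Hyp p P Q q n) (T : Table (G := G) p P q n)

namespace Table

include H

/-- A negative sign forces `n = 1` and `2 q + 1 = p`. -/
theorem neg_case (hδ : T.δ = -1) : n = 1 ∧ 2 * q + 1 = p := by
  rcases T.count with ⟨-, h1, -⟩ | ⟨ht, htq, -, hcnt⟩
  · rw [hδ] at h1; norm_num at h1
  have hc : T.c = q := by
    rcases hcnt with ⟨h1, -⟩ | ⟨-, h2⟩
    · rw [hδ] at h1; norm_num at h1
    · have h3 : T.Th.card * T.c = T.Th.card * q := by omega
      exact Nat.eq_of_mul_eq_mul_left (by omega) h3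
  have hfix : ∀ θ ∈ T.Th, fixFun P Q (θ : G → ℂ) 1 = 0 := by
    intro θ hθ
    obtain ⟨k, hk, hk'⟩ := T.fix_one_T H hθ
    rw [hδ, hc] at hk'
    have h0 : (p : ℤ) * k = 0 := by linarith
    rcases mul_eq_zero.1 h0 with h | h
    · have := H.hp.pos
      omega
    · rw [hk, show k = 0 by omega, Nat.cast_zero]
  obtain ⟨θ, hθ⟩ := Finset.card_pos.1 (show 0 < T.Th.card by omega)
  set φ : G → ℂ := (θ : G → ℂ) * fun g => conj ((θ : G → ℂ) g) with hφ
  have hθc : IsCharacter G (θ : G → ℂ) := IsIrrCharacter.isCharacter θ.2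
  have hφc : IsCharacter G φ := IsCharacter.mul hθc (IsCharacter.conj hθc)
  obtain ⟨m, hm⟩ := IsCharacter.exists_decomp hφc
  have hmp : m (principal G) = 1 := by
    have h1 := classInner_combination (fun χ => (m χ : ℂ)) (principal G)
    rw [← hm] at h1
    have h2 : classInner φ ((principal G : IrrCharacter G) : G → ℂ) = 1 := by
      rw [← classInner_self_irr θ.2, classInner, classInner]
      simp [hφ, principal]
    rw [h2] at h1
    exact_mod_cast h1.symm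
  have hφx : ∀ x : Q, x ≠ 1 → fixFun P Q φ x = 0 := by
    intro x hx
    rw [H.fix_apply (IsCharacter.isClassFunction hφc) hx, hφ, Pi.mul_apply]
    have h0 : (θ : G → ℂ) x = 0 := by
      rw [← H.irr_fix_apply θ hx, IsCharacter.eq_zero_of_one (H.irr_fix_char θ) (hfix θ hθ)]
      rfl
    rw [h0, zero_mul]
  -- the value at one of the fixed part
  have hF : fixFun P Q φ 1 = ∑ χ, (m χ : ℂ) * fixFun P Q (χ : G → ℂ) 1 := by
    refine mul_left_cancel₀ H.p_ne_zero ?_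
    rw [H.fix_one, Finset.mul_sum, hm]
    simp only [Finset.sum_apply, Pi.smul_apply, smul_eq_mul]
    rw [Finset.sum_comm]
    refine Finset.sum_congr rfl fun χ _ => ?_
    rw [mul_left_comm, H.fix_one, Finset.mul_sum]
  set Z0 := ∑ χ ∈ Zs (G := G) (p := p), m χ * zd p χ with hZ0
  have hA : ∑ χ ∈ T.As, (m χ : ℂ) * fixFun P Q (χ : G → ℂ) 1 =
      ((∑ χ ∈ T.As, m χ : ℕ) : ℂ) * ((n : ℂ) + 1) := by
    rw [Nat.cast_sum, Finset.sum_mul]
    exact Finset.sum_congr rfl fun χ hχ => by rw [T.fix_one_A H hχ]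
  have hB : ∑ χ ∈ T.Bs, (m χ : ℂ) * fixFun P Q (χ : G → ℂ) 1 = 0 :=
    Finset.sum_eq_zero fun χ hχ => by rw [T.fix_one_B H hχ, mul_zero]
  have hT : ∑ χ ∈ T.Th, (m χ : ℂ) * fixFun P Q (χ : G → ℂ) 1 = 0 :=
    Finset.sum_eq_zero fun χ hχ => by rw [hfix χ hχ, mul_zero]
  have hZ : ∑ χ ∈ Zs (G := G) (p := p), (m χ : ℂ) * fixFun P Q (χ : G → ℂ) 1 = (Z0 : ℂ) := by
    rw [hZ0, Nat.cast_sum]
    exact Finset.sum_congr rfl fun χ hχ => by rw [(T.zd_spec H hχ).2.1, Nat.cast_mul]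
  have hp1 : fixFun P Q ((principal G : IrrCharacter G) : G → ℂ) 1 = 1 := by
    refine mul_left_cancel₀ H.p_ne_zero ?_
    rw [H.fix_one]
    simp [principal, ← Nat.card_eq_fintype_card, H.cardP]
  rw [T.sum_split H, hp1, hA, hB, hT, hZ, hmp, Nat.cast_one, one_mul, add_zero, add_zero] at hF
  -- it is a multiple of `q`
  obtain ⟨j, hj⟩ := sum_nat (H.fix_isCharacter hφc)
  rw [Finset.sum_eq_single (1 : Q) (fun x _ hx => hφx x hx) (by simp), hF, H.cardQ] at hj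
  have h2 : j * q = 1 + (∑ χ ∈ T.As, m χ) * (n + 1) + Z0 := by
    have h : (((1 + (∑ χ ∈ T.As, m χ) * (n + 1) + Z0 : ℕ)) : ℂ) = ((j * q : ℕ) : ℂ) := by
      push_cast at hj ⊢
      linear_combination hj
    exact_mod_cast h.symm
  -- degrees
  have h1 := congrFun hm 1
  simp only [Finset.sum_apply, Pi.smul_apply, smul_eq_mul] at h1
  rw [T.sum_split H, hmp, Nat.cast_one, one_mul] at h1
  have eA : ∑ χ ∈ T.As, (m χ : ℂ) * (χ : G → ℂ) 1 =
      ((∑ χ ∈ T.As, m χ : ℕ) : ℂ) * ((n : ℂ) * p + 1) := by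
    rw [Nat.cast_sum, Finset.sum_mul]
    exact Finset.sum_congr rfl fun χ hχ => by rw [T.degA χ hχ]
  have eB : ∑ χ ∈ T.Bs, (m χ : ℂ) * (χ : G → ℂ) 1 =
      ((∑ χ ∈ T.Bs, m χ : ℕ) : ℂ) * ((p : ℂ) - 1) := by
    rw [Nat.cast_sum, Finset.sum_mul]
    exact Finset.sum_congr rfl fun χ hχ => by rw [T.degB χ hχ]
  have eT : ∑ χ ∈ T.Th, (m χ : ℂ) * (χ : G → ℂ) 1 = ((∑ χ ∈ T.Th, m χ : ℕ) : ℂ) * q := by
    rw [Nat.cast_sum, Finset.sum_mul]
    exact Finset.sum_congr rfl fun χ hχ => by rw [T.deg_T H hχ, hc]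
  have eZ : ∑ χ ∈ Zs (G := G) (p := p), (m χ : ℂ) * (χ : G → ℂ) 1 = (p : ℂ) * Z0 := by
    rw [hZ0, Nat.cast_sum, Finset.mul_sum]
    exact Finset.sum_congr rfl fun χ hχ => by rw [(T.zd_spec H hχ).1, Nat.cast_mul]; ring
  rw [eA, eB, eT, eZ, hφ, Pi.mul_apply, T.deg_T H hθ, hc, map_natCast,
    show ((principal G : IrrCharacter G) : G → ℂ) 1 = 1 from rfl] at h1
  have h1' : q ^ 2 = 1 + (∑ χ ∈ T.As, m χ) * (n * p + 1) + (∑ χ ∈ T.Bs, m χ) * (p - 1) +
      (∑ χ ∈ T.Th, m χ) * q + p * Z0 := by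
    have h : ((q ^ 2 : ℕ) : ℂ) = ((1 + (∑ χ ∈ T.As, m χ) * (n * p + 1) +
        (∑ χ ∈ T.Bs, m χ) * (p - 1) + (∑ χ ∈ T.Th, m χ) * q + p * Z0 : ℕ) : ℂ) := by
      push_cast [Nat.cast_sub (show 1 ≤ p from H.hp.pos)] at h1 ⊢
      linear_combination h1
    exact_mod_cast h
  have hj0 : 0 < j := Nat.pos_of_ne_zero fun h => by rw [h, zero_mul] at h2; omega
  obtain ⟨hn1, ht2⟩ := neg_arith ht H.two_le H.npos htq hj0 h1' h2
  exact ⟨hn1, by rw [← htq, ht2]⟩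

end Table

end Cfsg.Agent.SmallN
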