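import Cfsg.Agent.Lib.SmallN.ThreePrimes.Main
import Cfsg.Agent.Lib.SmallN.Perfect

/-!
There is no simple group of order 459648.
-/

set_option autoImplicit false
set_option linter.style.haveILetI false
set_option linter.unusedSectionVars false

namespace Cfsg.Agent.SmallN

theorem divisors_mod_nineteen :
    ((Nat.divisors 24192).filter fun d => d % 19 = 1) = {1, 96, 1008} := by decide +kernel

theorem degree_options_1 : ∀ d < 678, d ∣ 24192 → d % 19 = 1 → d = 1 ∨ d = 96 := by
  decide +kernel

theorem degree_options_18 : ∀ d < 678, d ∣ 24192 → d % 19 = 18 → d = 18 ∨ d = 56 ∨ d = 189 := by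
  decide +kernel

theorem degree_options_17 : ∀ d < 678, d ∣ 24192 → d % 19 = 17 → d = 36 ∨ d = 112 ∨ d = 378 := by
  decide +kernel

theorem degree_options_2 : ∀ d < 678, d ∣ 24192 → d % 19 = 2 → d = 2 ∨ d = 21 ∨ d = 192 := by
  decide +kernel

theorem degree_options_16 : ∀ d < 678, d ∣ 24192 → d % 19 = 16 → d = 16 ∨ d = 54 ∨ d = 168 := by
  decide +kernel

theorem degree_options_3 : ∀ d < 678, d ∣ 24192 → d % 19 = 3 → d = 3 ∨ d = 288 := by
  decide +kernel

theorem degree_options_13 : ∀ d < 678, d ∣ 24192 → d % 19 = 13 → d = 32 ∨ d = 108 ∨ d = 336 := by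
  decide +kernel

theorem degree_options_6 : ∀ d < 678, d ∣ 24192 → d % 19 = 6 → d = 6 ∨ d = 63 ∨ d = 576 := by
  decide +kernel

theorem degree_options : ∀ d < 678, d ∣ 24192 →
    (d % 19 = 1 → d = 1 ∨ d = 96) ∧ (d % 19 = 18 → d = 18 ∨ d = 56 ∨ d = 189) ∧
    (d % 19 = 17 → d = 36 ∨ d = 112 ∨ d = 378) ∧ (d % 19 = 2 → d = 2 ∨ d = 21 ∨ d = 192) ∧
    (d % 19 = 16 → d = 16 ∨ d = 54 ∨ d = 168) ∧ (d % 19 = 3 → d = 3 ∨ d = 288) ∧
    (d % 19 = 13 → d = 32 ∨ d = 108 ∨ d = 336) ∧ (d % 19 = 6 → d = 6 ∨ d = 63 ∨ d = 576) := fun d h1 h2 =>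
  ⟨degree_options_1 d h1 h2, degree_options_18 d h1 h2, degree_options_17 d h1 h2, degree_options_2 d h1 h2, degree_options_16 d h1 h2, degree_options_3 d h1 h2, degree_options_13 d h1 h2, degree_options_6 d h1 h2⟩

open Cfsg Cfsg.Agent.Char Cfsg.Agent.Blocks Cfsg.Agent.BrauerPairs
open scoped ComplexConjugate Classical

universe u

variable {G : Type u} [Group G] [Fintype G]

theorem nr_five : NR 19 5 := nr_of_small (by norm_num)

/-- A sum over terms with three possible values. -/
theorem sum_three {ι : Type*} (s : Finset ι) (f : ι → ℤ)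
    (hf : ∀ i ∈ s, f i = 96 ∨ f i = -56 ∨ f i = -189) :
    ∑ i ∈ s, f i = 96 * ((s.filter fun i => f i = 96).card : ℤ) -
        56 * ((s.filter fun i => f i = -56).card : ℤ) - 189 * ((s.filter fun i => f i = -189).card : ℤ) ∧
      (s.filter fun i => f i = 96).card + (s.filter fun i => f i = -56).card +
        (s.filter fun i => f i = -189).card = s.card := by
  induction s using Finset.induction with
  | empty => simp
  | insert a s ha ih =>
    obtain ⟨h1, h2⟩ := ih fun i hi => hf i (Finset.mem_insert_of_mem hi)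
    rw [Finset.sum_insert ha, Finset.card_insert_of_notMem ha]
    simp only [Finset.filter_insert]
    rcases hf a (Finset.mem_insert_self a s) with h | h | h <;>
      · simp only [h, if_true, if_false, show (96 : ℤ) ≠ -56 by norm_num,
          show (96 : ℤ) ≠ -189 by norm_num, show (-56 : ℤ) ≠ 96 by norm_num,
          show (-56 : ℤ) ≠ -189 by norm_num, show (-189 : ℤ) ≠ 96 by norm_num,
          show (-189 : ℤ) ≠ -56 by norm_num]
        rw [Finset.card_insert_of_notMem fun h' => ha (Finset.mem_filter.1 h').1]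
        push_cast
        exact ⟨by linarith, by omega⟩

/-- A character takes integral values on an involution. -/
theorem value_involution {H : Type u} [Group H] [Fintype H] {f : H → ℂ} (hf : IsCharacter H f)
    {x : H} (hx : orderOf x = 2) {k : ℕ} (hk : f 1 = k) : ∃ m : ℕ, f x = 2 * (m : ℂ) - k := by
  haveI : Fintype (Subgroup.zpowers x) := Fintype.ofFinite _
  obtain ⟨m, hm⟩ := sum_nat (IsCharacter.restrict hf (Subgroup.zpowers x))
  refine ⟨m, ?_⟩
  have hne : (⟨x, Subgroup.mem_zpowers x⟩ : Subgroup.zpowers x) ≠ 1 := fun h => by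
    rw [show x = 1 from congrArg Subtype.val h, orderOf_one] at hx
    norm_num at hx
  have huniv : (Finset.univ : Finset (Subgroup.zpowers x)) = {1, ⟨x, Subgroup.mem_zpowers x⟩} := by
    refine (Finset.eq_univ_of_card _ ?_).symm
    rw [Finset.card_pair hne.symm, ← Nat.card_eq_fintype_card, Nat.card_zpowers, hx]
  rw [huniv, Finset.sum_pair hne.symm, Nat.card_zpowers, hx] at hm
  simp only [OneMemClass.coe_one, hk] at hm
  push_cast at hm
  linear_combination hm

theorem false_of_459648 [IsSimpleGroup G] (hperf : commutator G = ⊤) (hG : Nat.card G = 459648) :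
    False := by
  haveI : Fact (Nat.Prime 19) := ⟨by norm_num⟩
  haveI : Fact (Nat.Prime 2) := ⟨Nat.prime_two⟩
  obtain ⟨S, hS⟩ := exists_sylow_card (p := 19) (k := 24192) (by rw [hG]) (by norm_num)
  set N := Subgroup.normalizer ((S : Subgroup G) : Set G) with hNdef
  obtain ⟨V, e, X, Y, δ, sg, B⟩ := exists_pblock S hS
  have hn : Nat.card (Sylow 19 G) * (Nat.card V * e) = 24192 := by
    have h := N.card_mul_index
    rw [show N.index = Nat.card (Sylow 19 G) from S.card_eq_index_normalizer.symm, B.cardN, hG] at h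
    refine Nat.eq_of_mul_eq_mul_left (show 0 < 19 by norm_num) ?_
    rw [show 19 * 24192 = 459648 by norm_num, ← h]
    ring
  have hnd : Nat.card (Sylow 19 G) = 1 ∨ Nat.card (Sylow 19 G) = 96 ∨
      Nat.card (Sylow 19 G) = 1008 := by
    have h : Nat.card (Sylow 19 G) ∈ (Nat.divisors 24192).filter fun d => d % 19 = 1 :=
      Finset.mem_filter.2 ⟨Nat.mem_divisors.2 ⟨⟨_, hn.symm⟩, by norm_num⟩, card_sylow_modEq_one 19 G⟩
    rw [divisors_mod_nineteen] at h
    simpa using h
  have hed : e ∣ 18 := ⟨Y.card, by rw [mul_comm]; exact B.cardY.symm⟩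
  have he18 := Nat.le_of_dvd (by norm_num) hed
  have he2 := PBlock.two_le hperf S B
  have hve : Nat.card V * e = 24 := by
    rcases hnd with h | h | h <;> rw [h] at hn
    · exfalso
      haveI : Subsingleton (Sylow 19 G) := (Nat.card_eq_one_iff_unique.1 h).1
      exact not_normal_of_perfect hperf S hS S.normal_of_subsingleton
    · exfalso
      have hc := centralizer_eq_of_nr S hS hperf (fun K hK hne => ?_) (n := 5) (by rw [h])
        (by norm_num) nr_five
      · have hv := B.cardC
        rw [hc, hS] at hv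
        rw [show Nat.card V = 1 by omega, one_mul] at hn
        omega
      · rw [hK.eq_bot_or_eq_top.resolve_left hne, Subgroup.card_top, hG]
        norm_num
    · omega
  have hv2 : 2 ≤ Nat.card V := by
    by_contra h
    have : 0 < Nat.card V := Nat.card_pos
    rw [show Nat.card V = 1 by omega, one_mul] at hve
    omega
  have he : e = 2 ∨ e = 3 ∨ e = 6 := by
    have h24 : e ∣ 24 := ⟨Nat.card V, by rw [mul_comm]; exact hve.symm⟩
    interval_cases e <;> omega
  have hπ : principal G ∈ X := B.prin.resolve_right fun h => by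
    have h1 := B.cardY
    rw [B.single h, Finset.card_singleton, one_mul] at h1
    omega
  have hne1 : ∀ χ : IrrCharacter G, χ ≠ principal G → 2 ≤ charDegree (χ : G → ℂ) := fun χ hne => by
    by_contra h
    refine hne (eq_principal_of_deg_one hperf ?_)
    rw [irr_one_eq_charDegree, show charDegree (χ : G → ℂ) = 1 by have := charDegree_pos χ; omega,
      Nat.cast_one]
  have hdeg : ∀ χ : IrrCharacter G, χ ∈ X ∨ χ ∈ Y →
      charDegree (χ : G → ℂ) < 678 ∧ charDegree (χ : G → ℂ) ∣ 24192 := by
    intro χ hχ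
    set d := charDegree (χ : G → ℂ) with hd
    refine ⟨?_, ?_⟩
    · have h := sum_sq_degree (G := G)
      simp only [irr_one_eq_charDegree] at h
      have h' : ∑ φ : IrrCharacter G, charDegree (φ : G → ℂ) ^ 2 = Nat.card G := by exact_mod_cast h
      have h1 := Finset.single_le_sum (f := fun φ : IrrCharacter G => charDegree (φ : G → ℂ) ^ 2)
        (fun φ _ => Nat.zero_le _) (Finset.mem_univ χ)
      simp only [← hd, h', hG] at h1
      by_contra hlt
      have h2 : 678 ^ 2 ≤ d ^ 2 := Nat.pow_le_pow_left (Nat.not_lt.1 hlt) 2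
      norm_num at h2
      omega
    · have h := charDegree_dvd_card χ
      rw [← hd, hG, show (459648 : ℕ) = 19 * 24192 by norm_num] at h
      exact (((Fact.out : Nat.Prime 19).coprime_iff_not_dvd.2 (B.not_dvd χ hχ)).symm).dvd_of_dvd_mul_left h
  obtain ⟨x0, hx0, hx01⟩ : ∃ x ∈ V, x ≠ 1 := by
    haveI : Nontrivial V := Finite.one_lt_card_iff_nontrivial.1 hv2
    obtain ⟨x, hx⟩ := exists_ne (1 : V)
    exact ⟨x, x.2, fun h => hx (Subtype.ext h)⟩
  -- a degree `18` would put `V` into the kernel
  have hXd : ∀ χ ∈ X.erase (principal G), sg χ * (charDegree (χ : G → ℂ) : ℤ) = 96 ∨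
      sg χ * (charDegree (χ : G → ℂ) : ℤ) = -56 ∨ sg χ * (charDegree (χ : G → ℂ) : ℤ) = -189 := by
    intro χ hχ
    have hχX := Finset.mem_of_mem_erase hχ
    have hne := Finset.ne_of_mem_erase hχ
    obtain ⟨hlt, hdvd⟩ := hdeg χ (Or.inl hχX)
    have hmod := B.modX χ hχX
    obtain ⟨h1, h18, -⟩ := degree_options _ hlt hdvd
    have := hne1 χ hne
    rcases B.signX χ hχX with hs | hs <;> rw [hs] at hmod ⊢ <;>
      unfold Int.ModEq at hmod <;> push_cast at hmod
    · rcases h1 (by omega) with h | h
      · omega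
      · left; rw [h]; norm_num
    · rcases h18 (by omega) with h | h | h
      · exfalso
        refine hx01 (faithful_of_simple hperf hne ?_)
        have hval : ∀ y ∈ Finset.univ.erase (1 : (S : Subgroup G)), (χ : G → ℂ) y = -1 := fun y hy => by
          rw [B.valX χ hχX y y.2 (fun h' => Finset.ne_of_mem_erase hy (Subtype.ext h')), hs]
          norm_num
        have hf1 := B.fix_V (Or.inl hχX) (1 : V)
        rw [Finset.sum_congr rfl hval, Finset.sum_const, Finset.card_erase_of_mem (Finset.mem_univ _),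
          Finset.card_univ, ← Nat.card_eq_fintype_card, hS, OneMemClass.coe_one, irr_one_eq_charDegree,
          h] at hf1
        norm_num at hf1
        have hz : fixFun (S : Subgroup G) V (χ : G → ℂ) = 0 :=
          IsCharacter.eq_zero_of_one (isCharacter_fixFun _ _ B.V_le_normalizer
            (IsIrrCharacter.isCharacter χ.2)) hf1
        have hfx := B.fix_V (Or.inl hχX) ⟨x0, hx0⟩
        rw [Finset.sum_congr rfl hval, Finset.sum_const, Finset.card_erase_of_mem (Finset.mem_univ _),
          Finset.card_univ, ← Nat.card_eq_fintype_card, hS, hz] at hfx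
        norm_num at hfx
        rw [irr_one_eq_charDegree, h]
        push_cast
        linear_combination -hfx
      · right; left; rw [h]; norm_num
      · right; right; rw [h]; norm_num
  obtain ⟨θ, hθ⟩ := B.nonempty
  have hθne : θ ≠ principal G := fun h => Finset.disjoint_left.1 B.disj hπ (h ▸ hθ)
  obtain ⟨hsum, hcard⟩ := sum_three _ (fun χ => sg χ * (charDegree (χ : G → ℂ) : ℤ)) hXd
  rw [Finset.card_erase_of_mem hπ, B.cardX] at hcard
  have hrel := B.relation_one hθ
  rw [← Finset.add_sum_erase _ _ hπ, B.sign_principal hπ, hsum,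
    show charDegree (principal G : G → ℂ) = 1 from Cfsg.Agent.CharX.charDegree_one] at hrel
  push_cast at hrel
  set A := (X.erase (principal G)).filter fun χ => sg χ * (charDegree (χ : G → ℂ) : ℤ) = 96
  set A' := (X.erase (principal G)).filter fun χ => sg χ * (charDegree (χ : G → ℂ) : ℤ) = -56
  set A'' := (X.erase (principal G)).filter fun χ => sg χ * (charDegree (χ : G → ℂ) : ℤ) = -189
  obtain ⟨hlt, hdvd⟩ := hdeg θ (Or.inr hθ)
  obtain ⟨-, -, h17, h2', h16, h3', h13, h6'⟩ := degree_options _ hlt hdvd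
  have hmod := B.modY θ hθ
  unfold Int.ModEq at hmod
  have hkill : (δ = -1 ∧ charDegree (θ : G → ℂ) = e) ∨
      (δ = 1 ∧ charDegree (θ : G → ℂ) + e = 19) → False := fun h => by
    have := B.V_eq_one hperf hθ hθne h (by omega)
    omega
  have hopt : e = 6 ∧ 1 ≤ A.card ∧ 2 ≤ A'.card := by
    rcases he with rfl | rfl | rfl <;> rcases B.sign with hδ | hδ <;> subst hδ <;>
      push_cast at hmod
    · rcases h17 (by omega) with h | h | h <;> rw [h] at hrel <;> omega
    · rcases h2' (by omega) with h | h | h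
      · exact (hkill (Or.inl ⟨rfl, h⟩)).elim
      all_goals (rw [h] at hrel; omega)
    · rcases h16 (by omega) with h | h | h
      · exact (hkill (Or.inr ⟨rfl, by omega⟩)).elim
      all_goals (rw [h] at hrel; omega)
    · rcases h3' (by omega) with h | h
      · exact (hkill (Or.inl ⟨rfl, h⟩)).elim
      · rw [h] at hrel; omega
    · rcases h13 (by omega) with h | h | h <;> rw [h] at hrel <;> omega
    · rcases h6' (by omega) with h | h | h
      · exact (hkill (Or.inl ⟨rfl, h⟩)).elim
      all_goals (rw [h] at hrel; omega)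
  obtain ⟨he6, hA, hA'⟩ := hopt
  -- an involution in `V`
  obtain ⟨x, hx⟩ := exists_prime_orderOf_dvd_card' (G := V) 2 (by
    rw [he6] at hve
    omega)
  have hxo : orderOf (x : G) = 2 := by rw [Subgroup.orderOf_coe, hx]
  have hxne : (x : G) ≠ 1 := fun h => by rw [h, orderOf_one] at hxo; norm_num at hxo
  set H := Subgroup.centralizer ({(x : G)} : Set G) with hHdef
  have hSH : (S : Subgroup G) ≤ H := fun y hy => Subgroup.mem_centralizer_singleton_iff.2
    (Subgroup.mem_centralizer_iff.1 (B.V_le x.2) y hy)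
  have hxH : (x : G) ∈ H := Subgroup.mem_centralizer_singleton_iff.2 rfl
  let S' : Sylow 19 H := S.subtype hSH
  have hS'c : Nat.card (S' : Subgroup H) = 19 :=
    (Nat.card_congr (Subgroup.subgroupOfEquivOfLe hSH).toEquiv).trans hS
  have hS'eq : (S' : Subgroup H) = (S : Subgroup G).subgroupOf H := rfl
  set NH := Subgroup.normalizer ((S' : Subgroup H) : Set H) with hNH
  have hcH : Nat.card H = Nat.card (Sylow 19 H) * Nat.card NH := by
    rw [show Nat.card (Sylow 19 H) = NH.index from S'.card_eq_index_normalizer, mul_comm,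
      Subgroup.card_mul_index]
  have h38 : 38 ∣ Nat.card NH := by
    refine Nat.Coprime.mul_dvd_of_dvd_of_dvd (show Nat.Coprime 19 2 by norm_num) ?_ ?_
    · exact hS'c ▸ Subgroup.card_dvd_of_le Subgroup.le_normalizer
    · have hmem : (⟨x, hxH⟩ : H) ∈ NH := by
        refine Subgroup.centralizer_le_normalizer _ (Subgroup.mem_centralizer_iff.2 fun y hy => ?_)
        rw [hS'eq] at hy
        exact Subtype.ext (Subgroup.mem_centralizer_iff.1 (B.V_le x.2) (y : G) hy)
      have h2 := Subgroup.orderOf_dvd_natCard NH hmem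
      rwa [Subgroup.orderOf_mk, hxo] at h2
  have hHdvd := H.card_subgroup_dvd_card
  have hHi := H.card_mul_index
  rw [hG] at hHdvd hHi
  have hnH : Nat.card (Sylow 19 H) = 1 ∨ Nat.card (Sylow 19 H) = 96 ∨
      Nat.card (Sylow 19 H) = 1008 := by
    have h1 : Nat.card (Sylow 19 H) * 19 ∣ 24192 * 19 := by
      refine dvd_trans (dvd_trans ?_ (dvd_of_eq hcH.symm)) hHdvd
      exact Nat.mul_dvd_mul_left _ ((dvd_mul_right 19 2).trans h38)
    have h : Nat.card (Sylow 19 H) ∈ (Nat.divisors 24192).filter fun d => d % 19 = 1 :=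
      Finset.mem_filter.2 ⟨Nat.mem_divisors.2
        ⟨Nat.dvd_of_mul_dvd_mul_right (by norm_num) h1, by norm_num⟩, card_sylow_modEq_one 19 H⟩
    rw [divisors_mod_nineteen] at h
    simpa using h
  -- values at `x`
  have hxV : orderOf x = 2 := hx
  have hvx : ∀ χ ∈ X.erase (principal G), ∀ (z s : ℤ) (k : ℕ),
      sg χ * (charDegree (χ : G → ℂ) : ℤ) = z → sg χ = s → (s * z + 18 * s : ℤ) = 19 * k →
      ∃ m : ℕ, (χ : G → ℂ) x = ((19 * (2 * (m : ℤ) - k) - 18 * s : ℤ) : ℂ) := by
    intro χ hχ z s k hz hs hk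
    have hχX := Finset.mem_of_mem_erase hχ
    have hval : ∀ y ∈ Finset.univ.erase (1 : (S : Subgroup G)), (χ : G → ℂ) y = (s : ℂ) := fun y hy => by
      rw [B.valX χ hχX y y.2 (fun h' => Finset.ne_of_mem_erase hy (Subtype.ext h')), hs]
    have hsum' : ∑ y ∈ Finset.univ.erase (1 : (S : Subgroup G)), (χ : G → ℂ) y = 18 * (s : ℂ) := by
      rw [Finset.sum_congr rfl hval, Finset.sum_const, Finset.card_erase_of_mem (Finset.mem_univ _),
        Finset.card_univ, ← Nat.card_eq_fintype_card, hS, nsmul_eq_mul]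
      norm_num
    have hdz : (charDegree (χ : G → ℂ) : ℤ) = s * z := by
      rw [← hz, hs]
      rcases B.signX χ hχX with h | h <;> rw [hs] at h <;> subst h <;> ring
    have hf1 := B.fix_V (Or.inl hχX) (1 : V)
    rw [OneMemClass.coe_one, irr_one_eq_charDegree, hsum'] at hf1
    have h1 : fixFun (S : Subgroup G) V (χ : G → ℂ) 1 = (k : ℂ) := by
      have hk' : (((s * z + 18 * s : ℤ)) : ℂ) = ((19 * (k : ℤ) : ℤ) : ℂ) := by rw [hk]
      rw [← hdz] at hk'
      push_cast at hk' hf1
      refine mul_left_cancel₀ (show (19 : ℂ) ≠ 0 by norm_num) ?_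
      linear_combination hf1 + hk'
    obtain ⟨m, hm⟩ := value_involution (isCharacter_fixFun _ _ B.V_le_normalizer
      (IsIrrCharacter.isCharacter χ.2)) hxV h1
    refine ⟨m, ?_⟩
    have hfx := B.fix_V (Or.inl hχX) x
    rw [hm, hsum'] at hfx
    push_cast at hfx ⊢
    linear_combination -hfx
  rcases hnH with h1 | h1
  · -- the centralizer lies in the normalizer
    haveI : Subsingleton (Sylow 19 H) := (Nat.card_eq_one_iff_unique.1 h1).1
    have hle : H ≤ N := (Subgroup.normal_subgroupOf_iff_le_normalizer hSH).1 (by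
      rw [← hS'eq]; exact S'.normal_of_subsingleton)
    have hH456 : Nat.card H ≤ 456 := by
      refine (Subgroup.card_le_of_le hle).trans (le_of_eq ?_)
      rw [B.cardN, mul_assoc, hve] <;> norm_num
    obtain ⟨a, ha, b, hb, hab⟩ := Finset.one_lt_card.1 (show 1 < A'.card by omega)
    have hle' := sum_normSq_le (x : G) {a, b}
    rw [Finset.sum_pair hab] at hle'
    have hbig : ∀ c ∈ A', (324 : ℝ) ≤ Complex.normSq ((c : G → ℂ) x) := by
      intro c hc
      obtain ⟨hc1, hc2⟩ := Finset.mem_filter.1 hc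
      have hs : sg c = -1 := by
        rcases B.signX c (Finset.mem_of_mem_erase hc1) with h | h
        · exfalso; rw [h] at hc2; omega
        · exact h
      obtain ⟨m, hm⟩ := hvx c hc1 (-56) (-1) 2 hc2 hs (by norm_num)
      rw [hm, show ((19 * (2 * (m : ℤ) - ((2 : ℕ) : ℤ)) - 18 * -1 : ℤ) : ℂ) =
        (((38 * (m : ℤ) - 20 : ℤ) : ℝ) : ℂ) by push_cast; ring, Complex.normSq_ofReal]
      have h18 : (38 * (m : ℤ) - 20) * (38 * (m : ℤ) - 20) ≥ 324 := by
        rcases Nat.eq_zero_or_pos m with rfl | h
        · norm_num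
        · have : (1 : ℤ) ≤ (m : ℤ) := by exact_mod_cast h
          nlinarith
      exact_mod_cast h18
    have := hbig a ha
    have := hbig b hb
    have hcast : (Nat.card H : ℝ) ≤ 456 := by exact_mod_cast hH456
    rw [← hHdef] at hle'
    linarith
  · -- divisibility of the class sum
    have hkey : H.index ∣ 126 ∨ H.index ∣ 12 := by
      obtain ⟨k, hk⟩ := h38
      rw [hcH, hk] at hHi
      rcases h1 with h1 | h1 <;> rw [h1] at hHi
      · exact Or.inl ⟨k, by linarith⟩
      · exact Or.inr ⟨k, by linarith⟩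
    have hint : ∀ c : IrrCharacter G, ∀ w : ℤ, (c : G → ℂ) x = (w : ℂ) →
        (charDegree (c : G → ℂ) : ℤ) ∣ (H.index : ℤ) * w := by
      intro c w hw
      have h := IsIrrCharacter.isIntegral_centralChar c.2 (x : G)
      rw [← hHdef, hw, irr_one_eq_charDegree] at h
      rcases le_or_gt 0 w with hw0 | hw0
      · obtain ⟨w', rfl⟩ := Int.eq_ofNat_of_zero_le hw0
        have := dvd_of_isIntegral_div (a := H.index * w') (charDegree_pos c).ne' (by
          push_cast at h ⊢; exact h)
        exact_mod_cast this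
      · obtain ⟨w', rfl⟩ : ∃ w' : ℕ, w = -(w' : ℤ) := ⟨w.natAbs, by omega⟩
        have := dvd_of_isIntegral_div (a := H.index * w') (charDegree_pos c).ne' (by
          push_cast at h ⊢
          have := h.neg
          simpa [neg_div] using this)
        rw [mul_neg, dvd_neg]
        exact_mod_cast this
    have hbound : ∀ c : IrrCharacter G, c ≠ principal G → ∀ w : ℤ, (c : G → ℂ) x = (w : ℂ) →
        w.natAbs < charDegree (c : G → ℂ) := by
      intro c hne w hw
      have hn' := norm_le_one (IsIrrCharacter.isCharacter c.2) (irr_one_eq_charDegree c) (x : G)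
      rw [hw, Complex.norm_intCast] at hn'
      rcases lt_or_eq_of_le hn' with h | h
      · rw [← Int.cast_abs, ← Int.natCast_natAbs, Int.cast_natCast] at h
        exact_mod_cast h
      · exfalso
        exact hxne (eq_one_of_norm hperf hne (by rw [hw, Complex.norm_intCast, h]))
    rcases hkey with hkey | hkey
    · obtain ⟨c, hc⟩ := Finset.card_pos.1 (show 0 < A.card by omega)
      obtain ⟨hc1, hc2⟩ := Finset.mem_filter.1 hc
      have hs : sg c = 1 := by
        rcases B.signX c (Finset.mem_of_mem_erase hc1) with h | h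
        · exact h
        · exfalso; rw [h] at hc2; omega
      obtain ⟨m, hm⟩ := hvx c hc1 96 1 6 hc2 hs (by norm_num)
      have hd : (charDegree (c : G → ℂ) : ℤ) = 96 := by rw [hs, one_mul] at hc2; exact hc2
      have h := (hint c _ hm).trans (mul_dvd_mul_right (Int.natCast_dvd_natCast.2 hkey) _)
      have hb := hbound c (Finset.ne_of_mem_erase hc1) _ hm
      rw [hd] at h
      obtain ⟨j, hj⟩ := h
      push_cast at hj
      omega
    · obtain ⟨c, hc⟩ := Finset.card_pos.1 (show 0 < A'.card by omega)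
      obtain ⟨hc1, hc2⟩ := Finset.mem_filter.1 hc
      have hs : sg c = -1 := by
        rcases B.signX c (Finset.mem_of_mem_erase hc1) with h | h
        · exfalso; rw [h] at hc2; omega
        · exact h
      obtain ⟨m, hm⟩ := hvx c hc1 (-56) (-1) 2 hc2 hs (by norm_num)
      have hd : (charDegree (c : G → ℂ) : ℤ) = 56 := by rw [hs] at hc2; omega
      have h := (hint c _ hm).trans (mul_dvd_mul_right (Int.natCast_dvd_natCast.2 hkey) _)
      have hb := hbound c (Finset.ne_of_mem_erase hc1) _ hm
      rw [hd] at h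
      obtain ⟨j, hj⟩ := h
      push_cast at hj
      omega

end Cfsg.Agent.SmallN
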