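import Cfsg.Agent.Lib.SmallN.Base

/-!
The case of a positive exceptional sign: values on `Q` and centralizer orders.
-/

set_option autoImplicit false
set_option linter.style.haveILetI false
set_option linter.unusedSectionVars false

namespace Cfsg.Agent.SmallN

open Cfsg Cfsg.Agent.Char Cfsg.Agent.Blocks Cfsg.Agent.BrauerPairs
open scoped ComplexConjugate Classical

universe u

variable {G : Type u} [Group G] [Fintype G] {p : ℕ} {P Q : Subgroup G} {q n : ℕ}
  (H : Hyp p P Q q n) (T : Table (G := G) p P q n)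

namespace Table

/-- The fixed part of the exceptional character. -/
noncomputable def E (Q : Subgroup G) : Q → ℂ :=
  if h : T.Th.Nonempty then fixFun P Q (h.choose : G → ℂ) else 0

/-- The data of the positive case. -/
structure PosData (Q : Subgroup G) (k : ℕ) : Prop where
  sign : T.δ = 1
  E_one : T.E Q 1 = k
  eqn : T.As.card * (n + 1) + k + 1 = q
  cases : (T.Th = ∅ ∧ k = 0 ∧ T.E Q = 0 ∧ q + 1 = p) ∨
    (2 ≤ T.Th.card ∧ T.Th.card * k = n + 1 ∧ T.Th.card * q + 1 = p ∧
      T.Th.card * T.c = n * p + 1 ∧ T.c + q = p * k)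

include H

theorem E_char : IsCharacter Q (T.E Q) := by
  rw [E]
  split_ifs with h
  · exact H.irr_fix_char h.choose
  · exact isCharacter_zero

theorem exists_posData (hδ : T.δ = 1) : ∃ k, T.PosData Q k := by
  rcases T.count with ⟨hT, -, hc, -, hq, hab⟩ | ⟨ht, htq, hab, hcnt⟩
  · have hE : T.E Q = 0 := by
      rw [E, dif_neg]
      simp [hT]
    refine ⟨0, hδ, by rw [hE]; simp, ?_, Or.inl ⟨hT, rfl, hE, hq⟩⟩
    have h := T.relation_one H
    rw [hc, Nat.cast_zero, mul_zero, add_zero] at h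
    have e1 : (T.As.card : ℤ) + T.Bs.card = q := by exact_mod_cast hab
    have e2 : (q : ℤ) + 1 = p := by exact_mod_cast hq
    have e3 : (1 : ℤ) + T.As.card * ((n : ℤ) * p + 1) - T.Bs.card * ((p : ℤ) - 1) = 0 := by
      exact_mod_cast h
    have e4 : (p : ℤ) * ((T.As.card : ℤ) * (n + 1) + 1 - q) = 0 := by
      linear_combination e3 + ((p : ℤ) - 1) * e1 - e2
    have e5 := (mul_eq_zero.1 e4).resolve_left (by have := H.three; omega)
    have : ((T.As.card * (n + 1) + 0 + 1 : ℕ) : ℤ) = (q : ℤ) := by push_cast; linarith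
    exact_mod_cast this
  · have hne : T.Th.Nonempty := Finset.card_pos.1 (by omega)
    obtain ⟨k, hk, hk'⟩ := T.fix_one_T H hne.choose_spec
    have hcn : T.Th.card * T.c = n * p + 1 := by
      rcases hcnt with ⟨-, h2⟩ | ⟨h1, -⟩
      · exact h2
      · rw [hδ] at h1; norm_num at h1
    rw [hδ, one_mul] at hk'
    have hck : T.c + q = p * k := by exact_mod_cast hk'
    have e1 : (T.As.card : ℤ) + T.Bs.card + 1 = q := by exact_mod_cast hab
    have e2 : (T.Th.card : ℤ) * q + 1 = p := by exact_mod_cast htq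
    have e3 : (1 : ℤ) + T.As.card * ((n : ℤ) * p + 1) - T.Bs.card * ((p : ℤ) - 1) + T.c = 0 := by
      have h := T.relation_one H
      rw [hδ, Int.cast_one, one_mul] at h
      exact_mod_cast h
    have e4 : (p : ℤ) * ((T.As.card : ℤ) * (n + 1) + k + 1 - q) = 0 := by
      linear_combination e3 + ((p : ℤ) - 1) * e1 - hk'
    have e5 := (mul_eq_zero.1 e4).resolve_left (by have := H.three; omega)
    refine ⟨k, hδ, by rw [E, dif_pos hne, hk], ?_, Or.inr ⟨ht, ?_, htq, hcn, hck⟩⟩
    · have : ((T.As.card * (n + 1) + k + 1 : ℕ) : ℤ) = (q : ℤ) := by push_cast; linarith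
      exact_mod_cast this
    · have e6 : (T.Th.card : ℤ) * T.c = n * p + 1 := by exact_mod_cast hcn
      have e7 : (p : ℤ) * ((T.Th.card : ℤ) * k - (n + 1)) = 0 := by
        linear_combination e6 + e2 - (T.Th.card : ℤ) * hk'
      have e8 := (mul_eq_zero.1 e7).resolve_left (by have := H.three; omega)
      have : ((T.Th.card * k : ℕ) : ℤ) = ((n + 1 : ℕ) : ℤ) := by push_cast; linarith
      exact_mod_cast this

theorem E_apply {x : Q} (hx : x ≠ 1) : T.E Q x = T.ex x := by
  rw [E]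
  split_ifs with h
  · rw [H.irr_fix_apply _ hx, T.T_apply H h.choose_spec]
  · rcases T.count with ⟨-, -, -, he, -⟩ | ⟨ht, -⟩
    · rw [he]; rfl
    · exact absurd (Finset.card_pos.1 (by omega)) h

theorem fix_T {θ : IrrCharacter G} (hθ : θ ∈ T.Th) : fixFun P Q (θ : G → ℂ) = T.E Q := by
  have hne : T.Th.Nonempty := ⟨θ, hθ⟩
  funext x
  by_cases hx : x = 1
  · subst hx
    rw [E, dif_pos hne]
    refine mul_left_cancel₀ H.p_ne_zero ?_
    rw [H.fix_one, H.fix_one, T.sumT θ hθ, T.sumT _ hne.choose_spec]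
  · rw [H.irr_fix_apply θ hx, T.T_apply H hθ, T.E_apply H hx]

namespace PosData

variable {T} {k : ℕ} (D : T.PosData Q k)
include D

theorem Th_mul : (T.Th.card : ℂ) * k * T.E Q 1 = ((n : ℂ) + 1) * T.E Q 1 := by
  rcases D.cases with ⟨-, -, hE, -⟩ | ⟨-, htk, -⟩
  · rw [hE]; simp
  · rw [← Nat.cast_mul, htk]; push_cast; ring

/-- `t k f = M f` for the exceptional fixed part. -/
theorem Th_mul_apply (x : Q) : (T.Th.card : ℂ) * k * T.E Q x = ((n : ℂ) + 1) * T.E Q x := by
  rcases D.cases with ⟨-, -, hE, -⟩ | ⟨-, htk, -⟩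
  · rw [hE]; simp
  · rw [← Nat.cast_mul, htk]; push_cast; ring

/-- One plus the fixed parts is the regular character of `Q`. -/
theorem regular (x : Q) : 1 + ∑ χ ∈ T.As, fixFun P Q (χ : G → ℂ) x + T.E Q x =
    if x = 1 then (q : ℂ) else 0 := by
  split_ifs with hx
  · subst hx
    rw [Finset.sum_congr rfl fun χ hχ => T.fix_one_A H hχ, D.E_one, Finset.sum_const, nsmul_eq_mul]
    have := congrArg (fun a : ℕ => (a : ℂ)) D.eqn
    push_cast at this
    linear_combination this
  · rw [Finset.sum_congr rfl fun χ _ => H.irr_fix_apply χ hx, T.E_apply H hx]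
    have h := T.relation_Q H (x := x) hx
    rwa [D.sign, Int.cast_one, one_mul] at h

/-- The fixed parts have no trivial constituent and small norm. -/
theorem sum_facts {f : Q → ℂ}
    (hf : f = T.E Q ∨ ∃ χ ∈ T.As, f = fixFun P Q (χ : G → ℂ)) :
    ∑ x, f x = 0 ∧ ∀ (m d : ℕ), f 1 = d → ∑ x, f x * conj (f x) = (q : ℂ) * m → m ≤ d := by
  have hq : (q : ℂ) ≠ 0 := H.q_ne_zero
  have hchA : ∀ χ : IrrCharacter G, IsCharacter Q (fixFun P Q (χ : G → ℂ)) := H.irr_fix_char
  have hE := T.E_char H (Q := Q)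
  have hfc : IsCharacter Q f := by
    rcases hf with rfl | ⟨χ, -, rfl⟩
    · exact hE
    · exact hchA χ
  -- inner products with the regular character
  have hreg : ∀ {g : Q → ℂ}, IsCharacter Q g →
      ∑ x, g x * conj (1 + ∑ χ ∈ T.As, fixFun P Q (χ : G → ℂ) x + T.E Q x) = (q : ℂ) * g 1 := by
    intro g _
    simp only [PosData.regular H D, apply_ite conj, map_natCast, map_zero, mul_ite, mul_zero,
      Finset.sum_ite_eq', Finset.mem_univ, if_true]
    ring
  have hexp : ∀ g : Q → ℂ, ∑ x, g x * conj (1 + ∑ χ ∈ T.As, fixFun P Q (χ : G → ℂ) x + T.E Q x) =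
      ∑ x, g x + ∑ χ ∈ T.As, ∑ x, g x * conj (fixFun P Q (χ : G → ℂ) x) +
        ∑ x, g x * conj (T.E Q x) := by
    intro g
    simp only [map_add, map_one, map_sum, mul_add, mul_one, Finset.mul_sum, Finset.sum_add_distrib]
    rw [Finset.sum_comm]
  choose a ha using fun χ : IrrCharacter G => sum_mul_conj_nat (isCharacter_one (G := Q)) (hchA χ)
  obtain ⟨aE, haE⟩ := sum_mul_conj_nat (isCharacter_one (G := Q)) hE
  -- no trivial constituents
  have h1 := hreg (isCharacter_one (G := Q))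
  rw [hexp] at h1
  simp only [one_mul, Finset.sum_const, Finset.card_univ, H.card_Q, nsmul_eq_mul, mul_one] at h1
  simp only [one_mul] at ha haE
  rw [Finset.sum_congr rfl fun χ _ => ha χ, haE, H.cardQ, ← Finset.mul_sum] at h1
  have h1' : (q : ℂ) * ((∑ χ ∈ T.As, a χ + aE : ℕ) : ℂ) = (q : ℂ) * 0 := by
    push_cast
    linear_combination h1
  have h2 := mul_left_cancel₀ hq h1'
  rw [Nat.cast_eq_zero, Nat.add_eq_zero_iff, Finset.sum_eq_zero_iff] at h2
  have hsum0 : ∑ x, f x = 0 := by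
    rcases hf with rfl | ⟨χ, hχ, rfl⟩
    · refine (map_eq_zero (starRingEnd ℂ)).1 ?_
      rw [map_sum, haE, h2.2, Nat.cast_zero, mul_zero]
    · refine (map_eq_zero (starRingEnd ℂ)).1 ?_
      rw [map_sum, ha, h2.1 χ hχ, Nat.cast_zero, mul_zero]
  refine ⟨hsum0, fun m d hd hm => ?_⟩
  choose b hb using fun χ : IrrCharacter G => sum_mul_conj_nat hfc (hchA χ)
  obtain ⟨bE, hbE⟩ := sum_mul_conj_nat hfc hE
  have h3 := hreg hfc
  rw [hexp, hsum0, zero_add, Finset.sum_congr rfl fun χ _ => hb χ, hbE, hd, ← Finset.mul_sum,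
    H.cardQ, ← mul_add] at h3
  have h4 : ∑ χ ∈ T.As, b χ + bE = d := by exact_mod_cast mul_left_cancel₀ hq h3
  rcases hf with rfl | ⟨χ, hχ, rfl⟩
  · rw [hbE, H.cardQ] at hm
    have : bE = m := by exact_mod_cast mul_left_cancel₀ hq hm
    omega
  · rw [hb, H.cardQ] at hm
    have : b χ = m := by exact_mod_cast mul_left_cancel₀ hq hm
    have := Finset.single_le_sum (f := b) (fun i _ => Nat.zero_le _) hχ
    omega

theorem sum_A {χ : IrrCharacter G} (hχ : χ ∈ T.As) : ∑ x : Q, fixFun P Q (χ : G → ℂ) x = 0 :=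
  (PosData.sum_facts H D (Or.inr ⟨χ, hχ, rfl⟩)).1

theorem sum_E : ∑ x : Q, T.E Q x = 0 := (PosData.sum_facts H D (Or.inl rfl)).1

/-- The squares of the degrees over `p`. -/
theorem sum_zd_sq : ∑ χ ∈ Zs (G := G) (p := p), zd p χ ^ 2 = n := by
  have hs := T.squares H
  have hr := T.relation_one H
  rw [D.sign, Int.cast_one, one_mul] at hr
  have he := congrArg (fun a : ℕ => (a : ℂ)) D.eqn
  push_cast at he
  have key : (p : ℂ) ^ 2 * ((∑ χ ∈ Zs (G := G) (p := p), zd p χ ^ 2 : ℕ) : ℂ) = (p : ℂ) ^ 2 * n := by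
    push_cast
    rcases D.cases with ⟨hT, hk, -, hq⟩ | ⟨-, htk, htq, htc, hck⟩
    · rcases T.count with ⟨-, -, hc, -, -, hab⟩ | ⟨ht, -⟩
      swap
      · rw [hT, Finset.card_empty] at ht; omega
      have hab' := congrArg (fun a : ℕ => (a : ℂ)) hab
      have hq' := congrArg (fun a : ℕ => (a : ℂ)) hq
      push_cast at hab' hq'
      rw [hT, Finset.card_empty, Nat.cast_zero, zero_mul, add_zero] at hs
      rw [hc, Nat.cast_zero, add_zero] at hr
      rw [hk, Nat.cast_zero, add_zero] at he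
      linear_combination -hs - ((n : ℂ) * p + 1) * hr - ((p : ℂ) - 1) * ((n : ℂ) + 1) * p * hab' +
        ((p : ℂ) - 1) * p * he + (p : ℂ) * (n + 1) * hq'
    · rcases T.count with ⟨hT, -⟩ | ⟨-, -, hab, -⟩
      · rw [hT, Finset.card_empty] at htq; have := H.three; omega
      have hab' := congrArg (fun a : ℕ => (a : ℂ)) hab
      have htk' := congrArg (fun a : ℕ => (a : ℂ)) htk
      have htq' := congrArg (fun a : ℕ => (a : ℂ)) htq
      have htc' := congrArg (fun a : ℕ => (a : ℂ)) htc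
      push_cast at hab' htk' htq' htc'
      linear_combination -hs - ((n : ℂ) * p + 1) * hr - ((p : ℂ) - 1) * ((n : ℂ) + 1) * p * hab' +
        ((p : ℂ) - 1) * p * he - (T.c : ℂ) * htc' - (p : ℂ) * q * htk' + (p : ℂ) * k * htq'
  exact_mod_cast mul_left_cancel₀ (pow_ne_zero 2 H.p_ne_zero) key

/-- Characters of degree divisible by `p` are constant on `Q`. -/
theorem Z_const {χ : IrrCharacter G} (hχ : χ ∈ Zs (p := p)) (x : Q) :
    fixFun P Q (χ : G → ℂ) x = zd p χ := by
  choose ν hν using fun ψ : IrrCharacter G => sum_nat (H.irr_fix_char (Q := Q) ψ)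
  simp only [H.cardQ] at hν
  have hle : ∀ ψ ∈ Zs (G := G) (p := p), ν ψ ≤ zd p ψ := by
    intro ψ hψ
    have hn := norm_le_one (H.irr_fix_char (Q := Q) ψ) (T.zd_spec H hψ).2.1
    have h1 : ‖∑ y : Q, fixFun P Q (ψ : G → ℂ) y‖ ≤ (q : ℝ) * zd p ψ := by
      refine (norm_sum_le _ _).trans ((Finset.sum_le_card_nsmul _ _ _ fun y _ => hn y).trans (le_of_eq ?_))
      rw [Finset.card_univ, H.card_Q, nsmul_eq_mul]
    rw [hν, norm_mul, Complex.norm_natCast, Complex.norm_natCast] at h1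
    have h2 : q * ν ψ ≤ q * zd p ψ := by exact_mod_cast h1
    exact Nat.le_of_mul_le_mul_left h2 (by have := H.two_le; omega)
  have hsum : ∑ ψ ∈ Zs (G := G) (p := p), zd p ψ * ν ψ = n := by
    have h := Table.sum_regular_N H (G := G)
    have hp1 : ∑ y : Q, fixFun P Q ((principal G : IrrCharacter G) : G → ℂ) y = q := by
      have e : ∀ y : Q, fixFun P Q ((principal G : IrrCharacter G) : G → ℂ) y = 1 := fun y => by
        simp [fixFun, principal, ← Nat.card_eq_fintype_card, H.cardP, H.p_ne_zero]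
      simp [e, H.card_Q]
    rw [T.sum_split H, hp1, Finset.sum_eq_zero (fun ψ hψ => by rw [PosData.sum_A H D hψ, mul_zero]),
      Finset.sum_eq_zero (s := T.Bs) (fun ψ hψ => by rw [T.fix_B H hψ]; simp),
      Finset.sum_eq_zero (s := T.Th) (fun ψ hψ => by rw [T.fix_T H hψ, PosData.sum_E H D, mul_zero]),
      show ((principal G : IrrCharacter G) : G → ℂ) 1 = 1 from rfl] at h
    have e : ∑ ψ ∈ Zs (G := G) (p := p), (ψ : G → ℂ) 1 * ∑ y : Q, fixFun P Q (ψ : G → ℂ) y =
        ((q : ℂ) * p) * ((∑ ψ ∈ Zs (G := G) (p := p), zd p ψ * ν ψ : ℕ) : ℂ) := by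
      rw [Nat.cast_sum, Finset.mul_sum]
      exact Finset.sum_congr rfl fun ψ hψ => by rw [(T.zd_spec H hψ).1, hν, Nat.cast_mul]; ring
    rw [e] at h
    have h' : ((q : ℂ) * p) * ((∑ ψ ∈ Zs (G := G) (p := p), zd p ψ * ν ψ : ℕ) : ℂ) =
        ((q : ℂ) * p) * n := by linear_combination h
    exact_mod_cast mul_left_cancel₀ (mul_ne_zero H.q_ne_zero H.p_ne_zero) h'
  have heq : zd p χ * ν χ = zd p χ ^ 2 :=
    (Finset.sum_eq_sum_iff_of_le fun ψ hψ => by
      rw [sq]; exact Nat.mul_le_mul_left _ (hle ψ hψ)).1 (hsum.trans (PosData.sum_zd_sq H D).symm) χ hχ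
  rw [sq] at heq
  have := Nat.eq_of_mul_eq_mul_left (T.zd_spec H hχ).2.2 heq
  exact const_of_sum (H.irr_fix_char χ) (T.zd_spec H hχ).2.1 (by rw [hν, this, H.cardQ]) x

theorem Z_apply {χ : IrrCharacter G} (hχ : χ ∈ Zs (p := p)) {x : Q} (hx : x ≠ 1) :
    (χ : G → ℂ) x = zd p χ := by
  rw [← H.irr_fix_apply χ hx, PosData.Z_const H D hχ]

/-- Column products at elements of `Q`. -/
theorem column {x y : Q} (hx : x ≠ 1) (hy : y ≠ 1) :
    ∑ χ : IrrCharacter G, (χ : G → ℂ) x * conj ((χ : G → ℂ) y) =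
      (n : ℂ) + 1 + ∑ χ ∈ T.As, fixFun P Q (χ : G → ℂ) x * conj (fixFun P Q (χ : G → ℂ) y) +
        (T.Th.card : ℂ) * (T.E Q x * conj (T.E Q y)) := by
  rw [T.sum_split H, show ((principal G : IrrCharacter G) : G → ℂ) x = 1 from rfl,
    show ((principal G : IrrCharacter G) : G → ℂ) y = 1 from rfl,
    Finset.sum_congr rfl fun χ _ => by rw [← H.irr_fix_apply χ hx, ← H.irr_fix_apply χ hy],
    Finset.sum_eq_zero (s := T.Bs) fun χ hχ => by rw [T.B_vanish H hχ hx, zero_mul],
    Finset.sum_congr (s₁ := T.Th) rfl (g := fun _ => T.E Q x * conj (T.E Q y)) fun θ hθ => by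
      rw [← H.irr_fix_apply θ hx, ← H.irr_fix_apply θ hy, T.fix_T H hθ],
    Finset.sum_congr (s₁ := Zs (G := G) (p := p)) rfl (g := fun χ => ((zd p χ ^ 2 : ℕ) : ℂ))
      fun χ hχ => by
        rw [PosData.Z_apply H D hχ hx, PosData.Z_apply H D hχ hy, map_natCast, Nat.cast_pow, sq],
    Finset.sum_const, ← Nat.cast_sum, PosData.sum_zd_sq H D, nsmul_eq_mul, map_one]
  ring

omit H D in
/-- The number of conjugates of `x` in `Q`. -/
noncomputable def mates (x : Q) : ℕ :=
  (Finset.univ.filter fun y : Q => y ≠ 1 ∧ IsConj (x : G) y).card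

theorem centralizer_mul_mates {x : Q} (hx : x ≠ 1) :
    Nat.card (Subgroup.centralizer ({(x : G)} : Set G)) * mates x = q * (n + 1) := by
  have e : ∀ y ∈ Finset.univ.erase (1 : Q), ∑ χ : IrrCharacter G, (χ : G → ℂ) x * conj ((χ : G → ℂ) y) =
      if IsConj (x : G) y then (Nat.card (Subgroup.centralizer ({(x : G)} : Set G)) : ℂ) else 0 := by
    intro y _
    split_ifs with h
    · exact column_orth_of_isConj h
    · exact column_orth_of_not_isConj h
  have hS : ∀ f : Q → ℂ, ∑ y, f y = 0 → ∑ y ∈ Finset.univ.erase (1 : Q), conj (f y) = -conj (f 1) := by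
    intro f hf
    rw [← map_sum, eq_neg_iff_add_eq_zero, ← map_add, Finset.sum_erase_add _ _ (Finset.mem_univ _),
      hf, map_zero]
  have h := Finset.sum_congr rfl e
  rw [Finset.sum_congr rfl fun y hy => PosData.column H D hx (Finset.ne_of_mem_erase hy),
    Finset.sum_add_distrib, Finset.sum_add_distrib, Finset.sum_comm, ← Finset.mul_sum,
    ← Finset.mul_sum] at h
  simp only [← Finset.mul_sum] at h
  rw [hS _ (PosData.sum_E H D), D.E_one, map_natCast, ← Finset.sum_filter, Finset.sum_const,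
    Finset.sum_congr rfl fun χ hχ => by
      rw [hS _ (PosData.sum_A H D hχ), T.fix_one_A H hχ, map_add, map_natCast, map_one],
    Finset.sum_const, Finset.card_erase_of_mem (Finset.mem_univ _), Finset.card_univ, H.card_Q,
    ← Finset.sum_mul, nsmul_eq_mul, nsmul_eq_mul, Nat.cast_sub (by have := H.two_le; omega),
    Nat.cast_one] at h
  have hset : (Finset.univ.erase (1 : Q)).filter (fun y : Q => IsConj (x : G) y) =
      Finset.univ.filter fun y : Q => y ≠ 1 ∧ IsConj (x : G) y := by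
    ext y; simp [Finset.mem_erase, and_comm]
  rw [hset] at h
  have hr := PosData.regular H D x
  rw [if_neg hx] at hr
  have hk := PosData.Th_mul_apply H D x
  have key : ((Nat.card (Subgroup.centralizer ({(x : G)} : Set G)) * mates x : ℕ) : ℂ) =
      ((q * (n + 1) : ℕ) : ℂ) := by
    rw [mates]
    push_cast
    linear_combination -h - ((n : ℂ) + 1) * hr - hk
  exact_mod_cast key

/-- The sum of the centralizer orders. -/
theorem sum_centralizer_le :
    ∑ x ∈ Finset.univ.erase (1 : Q), Nat.card (Subgroup.centralizer ({(x : G)} : Set G)) +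
        T.As.card * (n + 1) ^ 2 + T.Th.card * k ^ 2 ≤
      (q - 1) * (n + 1) + q * (T.As.card * (n + 1) + T.Th.card * k) := by
  choose a ha using fun χ : IrrCharacter G =>
    sum_mul_conj_nat (H.irr_fix_char (Q := Q) χ) (H.irr_fix_char (Q := Q) χ)
  obtain ⟨aE, haE⟩ := sum_mul_conj_nat (T.E_char H (Q := Q)) (T.E_char H (Q := Q))
  rw [H.cardQ] at haE
  simp only [H.cardQ] at ha
  have hA : ∀ χ ∈ T.As, a χ ≤ n + 1 := fun χ hχ =>
    (PosData.sum_facts H D (Or.inr ⟨χ, hχ, rfl⟩)).2 _ _ (by rw [T.fix_one_A H hχ]; push_cast; ring) (ha χ)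
  have hE : aE ≤ k := (PosData.sum_facts H D (Or.inl rfl)).2 _ _ D.E_one haE
  have hsplit : ∀ f : Q → ℂ, ∑ x ∈ Finset.univ.erase (1 : Q), f x = ∑ x, f x - f 1 := fun f => by
    rw [eq_sub_iff_add_eq, Finset.sum_erase_add _ _ (Finset.mem_univ _)]
  have key : ((∑ x ∈ Finset.univ.erase (1 : Q), Nat.card (Subgroup.centralizer ({(x : G)} : Set G)) +
        T.As.card * (n + 1) ^ 2 + T.Th.card * k ^ 2 : ℕ) : ℂ) =
      (((q - 1) * (n + 1) + q * (∑ χ ∈ T.As, a χ + T.Th.card * aE) : ℕ) : ℂ) := by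
    push_cast [Nat.cast_sub (show 1 ≤ q from le_trans (by norm_num) H.two_le)]
    have ec : ∀ x ∈ Finset.univ.erase (1 : Q),
        (Nat.card (Subgroup.centralizer ({(x : G)} : Set G)) : ℂ) =
          (n : ℂ) + 1 + ∑ χ ∈ T.As, fixFun P Q (χ : G → ℂ) x * conj (fixFun P Q (χ : G → ℂ) x) +
            (T.Th.card : ℂ) * (T.E Q x * conj (T.E Q x)) := fun x hx =>
      (column_orth_of_isConj (IsConj.refl (x : G))).symm.trans
        (PosData.column H D (Finset.ne_of_mem_erase hx) (Finset.ne_of_mem_erase hx))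
    rw [Finset.sum_congr rfl ec,
      Finset.sum_add_distrib, Finset.sum_add_distrib, Finset.sum_comm, ← Finset.mul_sum,
      hsplit (fun x => T.E Q x * conj (T.E Q x)), haE, D.E_one,
      Finset.sum_congr (s₁ := T.As) rfl
        (g := fun χ => (q : ℂ) * a χ - ((n : ℂ) + 1) * ((n : ℂ) + 1)) fun χ hχ => by
        rw [hsplit, ha, T.fix_one_A H hχ, map_add, map_natCast, map_one],
      Finset.sum_const, Finset.card_erase_of_mem (Finset.mem_univ _), Finset.card_univ, H.card_Q,
      Finset.sum_sub_distrib, Finset.sum_const, ← Finset.mul_sum, nsmul_eq_mul, nsmul_eq_mul,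
      map_natCast, Nat.cast_sub (show 1 ≤ q from le_trans (by norm_num) H.two_le), Nat.cast_one]
    ring
  have key' : _ = _ := Nat.cast_injective key
  rw [key']
  refine Nat.add_le_add_left (Nat.mul_le_mul_left _ (Nat.add_le_add ?_ (Nat.mul_le_mul_left _ hE))) _
  simpa using Finset.sum_le_card_nsmul T.As a (n + 1) hA

end PosData

end Table

end Cfsg.Agent.SmallN
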