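import Cfsg.Agent.Lib.SmallN.Pos

/-!
The positive case with a character of degree `n p + 1` besides the exceptional ones.
-/

set_option autoImplicit false
set_option linter.style.haveILetI false
set_option linter.unusedSectionVars false

namespace Cfsg.Agent.SmallN

open Cfsg Cfsg.Agent.Char Cfsg.Agent.Blocks Cfsg.Agent.BrauerPairs
open scoped ComplexConjugate Classical

universe u

variable {G : Type u} [Group G] [Fintype G] {p : ℕ} {P Q : Subgroup G} {q n : ℕ}
  (H : Hyp p P Q q n)

namespace Hyp

include H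

theorem le_centralizer_Q {x : G} (hx : x ∈ Q) : Q ≤ Subgroup.centralizer ({x} : Set G) := by
  intro y hy
  haveI := H.cyc
  letI : CommGroup Q := IsCyclic.commGroup
  exact Subgroup.mem_centralizer_singleton_iff.2
    (congrArg Subtype.val (mul_comm (⟨y, hy⟩ : Q) ⟨x, hx⟩))

theorem dvd_card_centralizer {x : G} (hx : x ∈ Q) :
    q ∣ Nat.card (Subgroup.centralizer ({x} : Set G)) :=
  H.cardQ ▸ Subgroup.card_dvd_of_le (H.le_centralizer_Q hx)

theorem centralizer_eq_Q {x : G} (hx : x ∈ Q)
    (h : Nat.card (Subgroup.centralizer ({x} : Set G)) = q) :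
    Subgroup.centralizer ({x} : Set G) = Q :=
  (Subgroup.eq_of_le_of_card_ge (H.le_centralizer_Q hx) (by rw [h, H.cardQ])).symm

end Hyp

theorem mem_centralizer_conj {g x c : G} :
    g * c * g⁻¹ ∈ Subgroup.centralizer ({g * x * g⁻¹} : Set G) ↔
      c ∈ Subgroup.centralizer ({x} : Set G) := by
  rw [Subgroup.mem_centralizer_singleton_iff, Subgroup.mem_centralizer_singleton_iff]
  constructor
  · intro h
    calc c * x = g⁻¹ * (g * c * g⁻¹ * (g * x * g⁻¹)) * g := by group
      _ = g⁻¹ * (g * x * g⁻¹ * (g * c * g⁻¹)) * g := by rw [h]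
      _ = x * c := by group
  · intro h
    calc g * c * g⁻¹ * (g * x * g⁻¹) = g * (c * x) * g⁻¹ := by group
      _ = g * (x * c) * g⁻¹ := by rw [h]
      _ = g * x * g⁻¹ * (g * c * g⁻¹) := by group

namespace Table.PosData

variable {T : Table (G := G) p P q n} {k : ℕ} (D : T.PosData Q k)
include H D

/-- The normalizer of `Q` when some element of `Q` has centralizer `Q`. -/
theorem card_normalizer {x : Q} (hx : x ≠ 1)
    (hC : Nat.card (Subgroup.centralizer ({(x : G)} : Set G)) = q) :
    Nat.card (Subgroup.normalizer (Q : Set G)) = q * (n + 1) := by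
  have hCQ := H.centralizer_eq_Q x.2 hC
  have hm : mates x = n + 1 := by
    have h := PosData.centralizer_mul_mates H D hx
    rw [hC] at h
    exact Nat.eq_of_mul_eq_mul_left (by have := H.two_le; omega) h
  have hN : ∀ g : G, g * (x : G) * g⁻¹ ∈ Q → g ∈ Subgroup.normalizer (Q : Set G) := by
    intro g hg
    have hsub : Q ≤ Subgroup.map (MulAut.conj g).toMonoidHom Q := by
      intro z hz
      refine ⟨g⁻¹ * z * g, ?_, by simp [mul_assoc]⟩
      show g⁻¹ * z * g ∈ Q
      rw [← hCQ]
      have h1 : z ∈ Subgroup.centralizer ({g * (x : G) * g⁻¹} : Set G) := H.le_centralizer_Q hg hz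
      rwa [show z = g * (g⁻¹ * z * g) * g⁻¹ by group, mem_centralizer_conj] at h1
    have heq : Q = Subgroup.map (MulAut.conj g).toMonoidHom Q :=
      Subgroup.eq_of_le_of_card_ge hsub
        (le_of_eq (Subgroup.card_map_of_injective (MulAut.conj g).injective))
    rw [Subgroup.mem_normalizer_iff]
    intro z
    conv_rhs => rw [heq]
    exact ⟨fun hz => ⟨z, hz, rfl⟩, fun ⟨w, hw, e⟩ =>
      (show w = z from (MulAut.conj g).injective e) ▸ hw⟩
  set S := Finset.univ.filter fun g : G => g * (x : G) * g⁻¹ ∈ Q with hSdef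
  have hS : Nat.card (Subgroup.normalizer (Q : Set G)) = S.card := by
    rw [Nat.card_eq_fintype_card]
    refine Fintype.card_of_subtype S fun g => ?_
    simp only [hSdef, Finset.mem_filter, Finset.mem_univ, true_and]
    exact ⟨hN g, fun h => (Subgroup.mem_normalizer_iff.1 h _).1 x.2⟩
  set R := Finset.univ.filter (fun y : Q => y ≠ 1 ∧ IsConj (x : G) y) with hR
  have hfib : ∀ y ∈ R, (Finset.univ.filter fun g : G => g * (x : G) * g⁻¹ = (y : G)).card = q := by
    intro y hy
    obtain ⟨g0, hg0⟩ := isConj_iff.1 (Finset.mem_filter.1 hy).2.2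
    rw [← hC, Nat.card_eq_fintype_card, ← Finset.card_univ]
    refine (Finset.card_bij (s := (Finset.univ : Finset (Subgroup.centralizer ({(x : G)} : Set G))))
      (t := Finset.univ.filter fun g : G => g * (x : G) * g⁻¹ = (y : G))
      (fun c _ => g0 * (c : G)) ?_ ?_ ?_).symm
    · intro c _
      have hc := Subgroup.mem_centralizer_singleton_iff.1 c.2
      rw [Finset.mem_filter]
      refine ⟨Finset.mem_univ _, ?_⟩
      calc g0 * c * x * (g0 * c)⁻¹ = g0 * (c * x) * (c : G)⁻¹ * g0⁻¹ := by group
        _ = g0 * x * g0⁻¹ := by rw [hc]; group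
        _ = y := hg0
    · exact fun a _ b _ e => Subtype.ext (mul_left_cancel e)
    · intro g hg
      have hg' := (Finset.mem_filter.1 hg).2
      refine ⟨⟨g0⁻¹ * g, Subgroup.mem_centralizer_singleton_iff.2 ?_⟩, Finset.mem_univ _, by simp⟩
      calc g0⁻¹ * g * x = g0⁻¹ * (g * x * g⁻¹) * g := by group
        _ = g0⁻¹ * (g0 * x * g0⁻¹) * g := by rw [hg', hg0]
        _ = x * (g0⁻¹ * g) := by group
  have hcard : S.card = ∑ y ∈ R, (Finset.univ.filter fun g : G => g * (x : G) * g⁻¹ = (y : G)).card := by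
    rw [← Finset.card_biUnion]
    · congr 1
      ext g
      simp only [hSdef, hR, Finset.mem_filter, Finset.mem_univ, true_and, Finset.mem_biUnion]
      refine ⟨fun hg => ⟨⟨_, hg⟩, ⟨fun e => hx ?_, isConj_iff.2 ⟨g, rfl⟩⟩, rfl⟩, ?_⟩
      · have h1 : g * (x : G) * g⁻¹ = 1 := congrArg Subtype.val e
        exact Subtype.ext (conj_eq_one_iff.1 h1)
      · rintro ⟨y, -, hy⟩
        rw [hy]
        exact y.2
    · intro a _ b _ hab
      refine Finset.disjoint_left.2 fun g h1 h2 => hab (Subtype.ext ?_)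
      rw [← (Finset.mem_filter.1 h1).2, ← (Finset.mem_filter.1 h2).2]
  rw [hS, hcard, Finset.sum_congr rfl hfib, Finset.sum_const, smul_eq_mul, mul_comm, hR]
  exact congrArg (q * ·) hm

/-- With a character of degree `n p + 1`, the exceptional fixed part is linear. -/
theorem alpha_pos (hα : 0 < T.As.card) :
    k = 1 ∧ T.Th.card = n + 1 ∧ T.Th.card * q + 1 = p ∧ T.Th.card * T.c = n * p + 1 ∧
      Nat.card (Subgroup.normalizer (Q : Set G)) = q * (n + 1) := by
  have hs := PosData.sum_centralizer_le H D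
  have he := D.eqn
  have hq2 := H.two_le
  obtain ⟨x, hx, hC⟩ : ∃ x : Q, x ≠ 1 ∧ Nat.card (Subgroup.centralizer ({(x : G)} : Set G)) = q := by
    by_contra hno
    push Not at hno
    have hbig : ∀ x ∈ Finset.univ.erase (1 : Q),
        2 * q ≤ Nat.card (Subgroup.centralizer ({(x : G)} : Set G)) := by
      intro x hx
      obtain ⟨c, hc⟩ := H.dvd_card_centralizer x.2
      have h0 := hno x (Finset.ne_of_mem_erase hx)
      have hpos := Nat.card_pos (α := Subgroup.centralizer ({(x : G)} : Set G))
      rw [hc] at h0 hpos ⊢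
      rcases c with _ | _ | c
      · simp at hpos
      · simp at h0
      · rw [Nat.mul_comm 2]; exact Nat.mul_le_mul_left q (by omega)
    have h2 := Finset.card_nsmul_le_sum _ _ _ hbig
    rw [Finset.card_erase_of_mem (Finset.mem_univ _), Finset.card_univ, H.card_Q, smul_eq_mul] at h2
    obtain ⟨a, ha⟩ : ∃ a, T.As.card = a + 1 := ⟨T.As.card - 1, by omega⟩
    have hn := H.npos
    rw [ha] at he hs
    obtain ⟨b, rfl⟩ : ∃ b, q = b + 1 := ⟨q - 1, by omega⟩
    rw [Nat.add_sub_cancel] at h2 hs
    rcases D.cases with ⟨hT, hk, -, hqp⟩ | ⟨-, htk, -⟩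
    · rw [hT, hk] at hs
      rw [hk] at he
      simp only [Finset.card_empty, zero_mul, mul_zero, add_zero] at hs
      nlinarith
    · have hk1 : 1 ≤ k := by
        rcases Nat.eq_zero_or_pos k with h | h
        · rw [h, mul_zero] at htk; omega
        · exact h
      have htk2 : T.Th.card * k ^ 2 = (n + 1) * k := by rw [sq, ← mul_assoc, htk]
      rw [htk, htk2] at hs
      have hb : b = (a + 1) * (n + 1) + k := by omega
      subst hb
      have e1 : ((a + 1) * (n + 1) + k) * (2 * ((a + 1) * (n + 1) + k + 1)) ≤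
          (n + 1) * (a + 2) * ((a + 1) * (n + 1) + k + 1) := by nlinarith
      have e2 : ((a + 1) * (n + 1) + k) * 2 ≤ (n + 1) * (a + 2) := by
        rw [← mul_assoc] at e1
        exact Nat.le_of_mul_le_mul_right e1 (by omega)
      nlinarith
  have hN := PosData.card_normalizer H D hx hC
  have hd : n + 1 ∣ n * p + 1 := by
    have h := Subgroup.card_subgroup_dvd_card (Subgroup.normalizer (Q : Set G))
    rw [hN, H.cardG, mul_comm p q, mul_assoc] at h
    have h2 := Nat.dvd_of_mul_dvd_mul_left (by omega) h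
    refine (Nat.Coprime.symm ?_).dvd_of_dvd_mul_left h2
    refine H.hp.coprime_iff_not_dvd.2 fun h3 => ?_
    rcases D.cases with ⟨-, -, -, hqp⟩ | ⟨ht, htk, htq, -, -⟩
    · have h4 : 1 * (n + 1) ≤ T.As.card * (n + 1) := Nat.mul_le_mul_right _ hα
      have := Nat.le_of_dvd (by omega) h3
      omega
    · rw [← htk] at h3
      rcases H.hp.dvd_mul.1 h3 with h4 | h4
      · have h5 : T.Th.card * 2 ≤ T.Th.card * q := Nat.mul_le_mul_left _ H.two_le
        have := Nat.le_of_dvd (by omega) h4
        omega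
      · rcases Nat.eq_zero_or_pos k with h6 | h6
        · rw [h6, mul_zero] at htk
          omega
        · have := Nat.le_of_dvd h6 h4
          have := H.q_lt
          omega
  have hd1 : n + 1 ∣ p - 1 := by
    have h3 : n * p + 1 + (p - 1) = (n + 1) * p := by
      have := H.three
      rw [add_mul, one_mul]
      omega
    exact (Nat.dvd_add_right hd).1 (h3 ▸ dvd_mul_right _ _)
  rcases D.cases with ⟨-, hk, -, hqp⟩ | ⟨ht, htk, htq, htc, -⟩
  · exfalso
    have h1 : n + 1 ∣ T.As.card * (n + 1) := dvd_mul_left _ _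
    have h2 : p - 1 = T.As.card * (n + 1) + 1 := by omega
    rw [h2] at hd1
    have := Nat.le_of_dvd (by norm_num) ((Nat.dvd_add_right h1).1 hd1)
    have := H.npos
    omega
  · have h1 : k ∣ q := by
      have h2 : T.Th.card * k ∣ T.Th.card * q := by
        rw [htk]
        convert hd1 using 1
        omega
      exact Nat.dvd_of_mul_dvd_mul_left (by omega) h2
    have h3 : k ∣ T.As.card * (n + 1) + k := by
      refine dvd_add ?_ dvd_rfl
      rw [← htk]
      exact Dvd.dvd.mul_left (dvd_mul_left k _) _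
    rw [← D.eqn] at h1
    have hk1 : k = 1 := Nat.dvd_one.1 ((Nat.dvd_add_right h3).1 h1)
    exact ⟨hk1, by rw [← htk, hk1, mul_one], htq, htc, hN⟩

end Table.PosData

end Cfsg.Agent.SmallN
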