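import Cfsg.Agent.Lib.SmallN.ThreePrimes.Bound
import Cfsg.Agent.Lib.DefOne.Galois

/-!
Sylow subgroups of a group with an irreducible character of small degree and rational values.
-/

set_option autoImplicit false
set_option linter.style.haveILetI false
set_option linter.unusedSectionVars false

namespace Cfsg.Agent.SmallN

open Cfsg Cfsg.Agent.Char Cfsg.Agent.Blocks
open scoped ComplexConjugate Classical

universe u

variable {G : Type u} [Group G] [Fintype G]

/-- A rational-valued function on the powers of `g`: the eigenvalue multiplicities are constant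
on primitive roots. -/
theorem totient_le_degree {χ : IrrCharacter G} {g : G}
    (hfix : ∀ (σ : ℂ ≃+* ℂ) (j : ℕ), σ ((χ : G → ℂ) (g ^ j)) = (χ : G → ℂ) (g ^ j))
    (hfaith : ∀ h : G, (χ : G → ℂ) h = (χ : G → ℂ) 1 → h = 1) {p k : ℕ} (hp : p.Prime)
    (hg : orderOf g = p ^ (k + 1)) :
    (p ^ (k + 1)).totient ≤ charDegree (χ : G → ℂ) := by
  obtain ⟨d, ρ, hρ, hc⟩ := id χ.2
  obtain ⟨M, hM1, hM2, hM3, -⟩ := exists_eigenvalues ρ g
  rw [hc] at hM3
  rw [hg] at hM2
  set n := p ^ (k + 1) with hn
  have hn0 : n ≠ 0 := pow_ne_zero _ hp.ne_zero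
  have hdeg : charDegree (χ : G → ℂ) = d := by
    simp [charDegree, ← hc, Representation.char_one]
  -- the multiplicity of a root
  have hcount : ∀ z : ℂ, z ^ n = 1 →
      ∑ j ∈ Finset.range n, (χ : G → ℂ) (g ^ j) * (z⁻¹) ^ j = (n : ℂ) * M.count z := by
    intro z hz
    have hz0 : z ≠ 0 := fun h => by rw [h, zero_pow hn0] at hz; exact zero_ne_one hz
    have hw : ∀ w ∈ M, ∑ j ∈ Finset.range n, (w * z⁻¹) ^ j = if z = w then (n : ℂ) else 0 := by
      intro w hw
      split_ifs with h
      · subst h
        simp [mul_inv_cancel₀ hz0]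
      · rw [geom_sum_eq (fun e => h ((mul_inv_eq_one₀ hz0).1 e).symm), mul_pow, inv_pow, hM2 w hw, hz,
          inv_one, mul_one, sub_self, zero_div]
    calc ∑ j ∈ Finset.range n, (χ : G → ℂ) (g ^ j) * (z⁻¹) ^ j
        = (M.map fun w => ∑ j ∈ Finset.range n, (w * z⁻¹) ^ j).sum := by
          simp only [hM3, ← Multiset.sum_map_mul_right, mul_pow, Finset.sum_eq_multiset_sum]
          exact Multiset.sum_map_sum_map _ _
      _ = (M.map fun w => if z = w then (n : ℂ) else 0).sum :=
          congrArg Multiset.sum (Multiset.map_congr rfl hw)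
      _ = (n : ℂ) * M.count z := by
          induction M using Multiset.induction_on with
          | empty => simp
          | cons a s ih =>
            rw [Multiset.map_cons, Multiset.sum_cons, Multiset.count_cons]
            have ih' : (s.map fun w => if z = w then (n : ℂ) else 0).sum = (n : ℂ) * s.count z := by
              clear * -
              induction s using Multiset.induction_on with
              | empty => simp
              | cons b t ih2 =>
                rw [Multiset.map_cons, Multiset.sum_cons, Multiset.count_cons, ih2]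
                split_ifs <;> push_cast <;> ring
            rw [ih']
            split_ifs <;> push_cast <;> ring
  -- a primitive eigenvalue
  obtain ⟨z, hzM, hz⟩ : ∃ z ∈ M, IsPrimitiveRoot z n := by
    by_contra hcon
    push Not at hcon
    have h1 : ∀ w ∈ M, w ^ (p ^ k) = 1 := by
      intro w hw
      by_contra h
      refine hcon w hw (IsPrimitiveRoot.iff_orderOf.2 ?_)
      haveI := Fact.mk hp
      exact orderOf_eq_prime_pow h (hM2 w hw)
    have hone : g ^ (p ^ k) = 1 := by
      apply hfaith
      rw [hM3, Multiset.map_congr rfl h1, Multiset.map_const', Multiset.sum_replicate,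
        nsmul_eq_mul, mul_one, hM1, ← congrFun hc 1, Representation.char_one]
    have := orderOf_dvd_of_pow_eq_one hone
    rw [hg, Nat.pow_dvd_pow_iff_le_right hp.one_lt] at this
    omega
  have hall : ∀ w ∈ primitiveRoots n ℂ, w ∈ M := by
    intro w hw
    rw [mem_primitiveRoots (Nat.pos_of_ne_zero hn0)] at hw
    haveI : NeZero n := ⟨hn0⟩
    obtain ⟨i, -, rfl⟩ := IsPrimitiveRoot.eq_pow_of_pow_eq_one (ξ := w) (ζ := z) hz hw.pow_eq_one
    have hi : i.Coprime n := (hz.pow_iff_coprime (Nat.pos_of_ne_zero hn0) i).1 hw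
    obtain ⟨σ, hσ⟩ := CharGalois.exists_galoisAut hn0 hi
    have h := congrArg σ (hcount z hz.pow_eq_one)
    rw [map_mul, map_natCast, map_natCast, map_sum] at h
    simp only [map_mul, hfix, map_pow, map_inv₀, hσ z hz.pow_eq_one] at h
    rw [hcount _ (by rw [← pow_mul, mul_comm, pow_mul, hz.pow_eq_one, one_pow])] at h
    have h2 : M.count (z ^ i) = M.count z := by
      exact_mod_cast mul_left_cancel₀ (Nat.cast_ne_zero.2 hn0) h
    rw [← Multiset.count_pos, h2, Multiset.count_pos]
    exact hzM
  calc (p ^ (k + 1)).totient = (primitiveRoots n ℂ).card := (Complex.card_primitiveRoots n).symm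
    _ ≤ M.toFinset.card := Finset.card_le_card fun w hw => Multiset.mem_toFinset.2 (hall w hw)
    _ ≤ Multiset.card M := Multiset.toFinset_card_le M
    _ = charDegree (χ : G → ℂ) := by rw [hM1, hdeg]; simp

/-- The average of an eigenvalue sum at an element of prime order. -/
theorem exists_fixed_mult (χ : IrrCharacter G) {g : G} {p : ℕ} (hp : p.Prime) (hg : orderOf g = p)
    (hfaith : ∀ h : G, (χ : G → ℂ) h = (χ : G → ℂ) 1 → h = 1)
    (hfix : ∀ (σ : ℂ ≃+* ℂ), σ ((χ : G → ℂ) g) = (χ : G → ℂ) g) :
    ∃ m : ℕ, m < charDegree (χ : G → ℂ) ∧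
      ((p : ℂ) - 1) * (χ : G → ℂ) g = (p : ℂ) * m - charDegree (χ : G → ℂ) := by
  obtain ⟨d, ρ, hρ, hc⟩ := id χ.2
  obtain ⟨M, hM1, hM2, hM3, -⟩ := exists_eigenvalues ρ g
  rw [hc] at hM3
  rw [hg] at hM2
  have hdeg : charDegree (χ : G → ℂ) = d := by
    simp [charDegree, ← hc, Representation.char_one]
  have hd : Module.finrank ℂ (Fin d → ℂ) = d := by simp
  rw [hd] at hM1
  refine ⟨M.count 1, ?_, ?_⟩
  · rcases (Multiset.count_le_card 1 M).lt_or_eq with h | h
    · omega
    · exfalso
      have h1 : ∀ w ∈ M, w ^ 1 = 1 := fun w hw => by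
        rw [pow_one]
        exact ((Multiset.count_eq_card.1 h) w hw).symm
      have hone := hfaith (g ^ 1) (by
        rw [hM3, Multiset.map_congr rfl h1, Multiset.map_const', Multiset.sum_replicate,
          nsmul_eq_mul, mul_one, hM1, ← congrFun hc 1, Representation.char_one, hd])
      rw [pow_one] at hone
      rw [hone, orderOf_one] at hg
      exact hp.ne_one hg.symm
  have hval : ∀ j ∈ (Finset.range p).erase 0, (χ : G → ℂ) (g ^ j) = (χ : G → ℂ) g := by
    intro j hj
    obtain ⟨hj0, hjp⟩ := Finset.mem_erase.1 hj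
    rw [Finset.mem_range] at hjp
    obtain ⟨σ, hσ⟩ := CharGalois.exists_galoisAut hp.ne_zero
      ((hp.coprime_iff_not_dvd.2 fun h => by
        have := Nat.le_of_dvd (Nat.pos_of_ne_zero hj0) h; omega).symm)
    have h1 := hM3 1
    rw [pow_one] at h1
    rw [← hfix σ, h1, map_multiset_sum, hM3, Multiset.map_map]
    refine congrArg Multiset.sum (Multiset.map_congr rfl fun w hw => ?_)
    simp only [Function.comp_apply, pow_one]
    exact (hσ w (hM2 w hw)).symm
  have hsum : ∑ j ∈ Finset.range p, (χ : G → ℂ) (g ^ j) = (p : ℂ) * M.count 1 := by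
    rw [Finset.sum_congr rfl fun j _ => hM3 j, Finset.sum_eq_multiset_sum,
      Multiset.sum_map_sum_map]
    clear hM3 hM1 hval
    induction M using Multiset.induction_on with
    | empty => simp
    | cons a s ih =>
      rw [Multiset.map_cons, Multiset.sum_cons, Multiset.count_cons,
        ih fun w hw => hM2 w (Multiset.mem_cons_of_mem hw)]
      have ha := hM2 a (Multiset.mem_cons_self a s)
      by_cases h : a = 1
      · subst h
        simp
        ring
      · rw [if_neg (Ne.symm h), Nat.add_zero, ← Finset.sum_eq_multiset_sum, geom_sum_eq h, ha]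
        simp
  rw [← Finset.add_sum_erase _ _ (Finset.mem_range.2 hp.pos), pow_zero, Finset.sum_congr rfl hval,
    Finset.sum_const, Finset.card_erase_of_mem (Finset.mem_range.2 hp.pos), Finset.card_range,
    nsmul_eq_mul, irr_one_eq_charDegree, Nat.cast_sub hp.one_le, Nat.cast_one] at hsum
  linear_combination hsum

/-- A character constant off the identity of a subgroup gives a congruence. -/
theorem card_dvd_of_const (χ : IrrCharacter G) (P : Subgroup G) {c : ℤ}
    (hc : ∀ x ∈ P, x ≠ 1 → (χ : G → ℂ) x = (c : ℂ)) :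
    (Nat.card P : ℤ) ∣ (charDegree (χ : G → ℂ) : ℤ) - c := by
  haveI : Fintype P := Fintype.ofFinite _
  obtain ⟨m, hm⟩ := exists_sum_subgroup_eq P χ
  rw [← Finset.add_sum_erase _ _ (Finset.mem_univ (1 : P)),
    Finset.sum_congr rfl (g := fun _ => (c : ℂ)) (fun (x : P) hx => hc x x.2 fun e =>
      (Finset.mem_erase.1 hx).1 (Subtype.ext e)),
    Finset.sum_const, Finset.card_erase_of_mem (Finset.mem_univ _), Finset.card_univ,
    Fintype.card_eq_nat_card, OneMemClass.coe_one, irr_one_eq_charDegree, nsmul_eq_mul,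
    Nat.cast_sub (Nat.card_pos), Nat.cast_one] at hm
  refine ⟨(m : ℤ) - c, ?_⟩
  have h : (charDegree (χ : G → ℂ) : ℤ) + ((Nat.card P : ℤ) - 1) * c = (Nat.card P : ℤ) * m := by
    exact_mod_cast hm
  linear_combination h

/-- Two automorphism-stable signed sums of irreducible characters have the same members. -/
theorem exists_galT_eq {ι : Type*} (s : Finset ι) (c : ι → ℤ) (φ : ι → IrrCharacter G)
    (hinj : Set.InjOn φ s) (σ : ℂ ≃+* ℂ)
    (hfix : ∀ g : G, σ (∑ i ∈ s, (c i : ℂ) * (φ i : G → ℂ) g) =
      ∑ i ∈ s, (c i : ℂ) * (φ i : G → ℂ) g)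
    {j : ι} (hj : j ∈ s) (hcj : c j ≠ 0) : ∃ i ∈ s, DefOne.galT σ (φ i) = φ j := by
  by_contra hcon
  push Not at hcon
  have h := congrArg (fun f : G → ℂ => classInner f (φ j : G → ℂ))
    (show (∑ i ∈ s, (c i : ℂ) • (DefOne.galT σ (φ i) : G → ℂ)) =
      ∑ i ∈ s, (c i : ℂ) • (φ i : G → ℂ) from funext fun g => by
        have := hfix g
        simp only [map_sum, map_mul, map_intCast] at this
        simpa [Finset.sum_apply, DefOne.galT_apply] using this)
  simp only [classInner_sum_left, classInner_smul_left] at h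
  rw [Finset.sum_eq_zero fun i hi => by
      rw [classInner_irr_of_ne (DefOne.galT σ (φ i)).2 (φ j).2 fun e => hcon i hi (Subtype.ext e),
        mul_zero],
    Finset.sum_eq_single_of_mem j hj fun i hi hij => by
      rw [classInner_irr_of_ne (φ i).2 (φ j).2 fun e => hij (hinj hi hj (Subtype.ext e)), mul_zero],
    classInner_self_irr (φ j).2, mul_one] at h
  exact hcj (by exact_mod_cast h.symm)

end Cfsg.Agent.SmallN
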