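import Cfsg.Agent.Lib.SmallN.Tools
import Cfsg.Agent.Lib.SmallN.Arith
import Cfsg.Agent.Lib.DefOne.Order7920

/-!
Perfect groups with a self-centralizing subgroup of prime order and few conjugates of it.
-/

set_option autoImplicit false
set_option linter.style.haveILetI false
set_option linter.unusedSectionVars false

namespace Cfsg.Agent.SmallN

open Cfsg Cfsg.Agent.Char Cfsg.Agent.Blocks Cfsg.Agent.BrauerPairs
open scoped ComplexConjugate Classical

universe u

variable {G : Type u} [Group G] [Fintype G]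

/-- The hypothesis: `N(P) = P Q`, `C(P) = P`, `1 + n p` conjugates, `2 n < p + 3`. -/
structure Hyp (p : ℕ) (P Q : Subgroup G) (q n : ℕ) : Prop where
  hp : p.Prime
  three : 3 ≤ p
  perfect : commutator G = ⊤
  cardP : Nat.card P = p
  cent : Subgroup.centralizer (P : Set G) = P
  norm_le : Q ≤ Subgroup.normalizer (P : Set G)
  cardQ : Nat.card Q = q
  cyc : IsCyclic Q
  cardN : Nat.card (Subgroup.normalizer (P : Set G)) = p * q
  cardG : Nat.card G = p * q * (n * p + 1)
  two_le : 2 ≤ q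
  dvd : q ∣ p - 1
  npos : 0 < n
  nr : NR p n

theorem eq_principal_of_deg_one (hperf : commutator G = ⊤) {χ : IrrCharacter G}
    (h : (χ : G → ℂ) 1 = 1) : χ = principal G := by
  obtain ⟨f, hf⟩ := exists_hom_of_degree_one (IsIrrCharacter.isCharacter χ.2) h
  refine Subtype.ext (hf.trans (funext fun g => ?_))
  have : g ∈ f.ker := (Abelianization.commutator_subset_ker f) (hperf ▸ Subgroup.mem_top g)
  rw [MonoidHom.mem_ker] at this
  simp [this, principal]

namespace Hyp

variable {p : ℕ} {P Q : Subgroup G} {q n : ℕ} (H : Hyp p P Q q n)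
include H

theorem q_lt : q < p := by
  have := Nat.le_of_dvd (by have := H.three; omega) H.dvd
  have := H.three
  omega

theorem not_dvd_q : ¬ p ∣ q := fun h => by
  have := Nat.le_of_dvd (by have := H.two_le; omega) h
  have := H.q_lt
  omega

theorem not_sq : ¬ p ^ 2 ∣ Nat.card G := by
  intro h
  rw [H.cardG, pow_two, mul_assoc] at h
  have h1 := Nat.dvd_of_mul_dvd_mul_left H.hp.pos h
  rcases H.hp.dvd_mul.1 h1 with h2 | h2
  · exact H.not_dvd_q h2
  · exact H.hp.not_dvd_one ((Nat.dvd_add_right (dvd_mul_left p n)).1 h2)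

theorem eq_one_of_mem {x : G} (hP : x ∈ P) (hQ : x ∈ Q) : x = 1 := by
  have h1 := Subgroup.orderOf_dvd_natCard P hP
  have h2 := Subgroup.orderOf_dvd_natCard Q hQ
  rw [H.cardP] at h1
  rw [H.cardQ] at h2
  exact orderOf_eq_one_iff.1 (Nat.eq_one_of_dvd_coprimes (H.hp.coprime_iff_not_dvd.2 H.not_dvd_q) h1 h2)

theorem regular_Q {x : G} (hx : x ∈ Q) : ¬ p ∣ orderOf x := fun h =>
  H.not_dvd_q (H.cardQ ▸ h.trans (Subgroup.orderOf_dvd_natCard Q hx))

theorem centralizer_y {y : G} (hy : y ∈ P) (hy1 : y ≠ 1) :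
    Subgroup.centralizer ({y} : Set G) = P :=
  (DefOne.centralizer_singleton_eq H.hp H.cardP hy hy1).trans H.cent

/-- The coset of an element of `Q` lies in one class. -/
theorem isConj_coset {x : G} (hx : x ∈ Q) (hx1 : x ≠ 1) {y : G} (hy : y ∈ P) :
    IsConj x (x * y) := by
  let φ : P → P := fun w => ⟨x⁻¹ * (w * x * (w : G)⁻¹), by
    rw [← mul_assoc, ← mul_assoc]
    refine P.mul_mem ?_ (P.inv_mem w.2)
    have := (Subgroup.mem_normalizer_iff.1 (inv_mem (H.norm_le hx)) (w : G)).1 w.2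
    simpa using this⟩
  have hinj : Function.Injective φ := by
    intro a b hab
    have e : (a : G) * x * (a : G)⁻¹ = b * x * (b : G)⁻¹ :=
      mul_left_cancel (congrArg Subtype.val hab)
    by_contra hne
    have hc : x ∈ Subgroup.centralizer ({((b : G)⁻¹ * a)} : Set G) := by
      refine Subgroup.mem_centralizer_singleton_iff.2 ?_
      calc x * ((b : G)⁻¹ * a) = (b : G)⁻¹ * (b * x * (b : G)⁻¹) * a := by group
        _ = (b : G)⁻¹ * (a * x * (a : G)⁻¹) * a := by rw [e]
        _ = (b : G)⁻¹ * a * x := by group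
    rw [H.centralizer_y (P.mul_mem (P.inv_mem b.2) a.2)
      (fun h => hne (Subtype.ext (inv_mul_eq_one.1 h).symm))] at hc
    exact hx1 (H.eq_one_of_mem hc hx)
  obtain ⟨w, hw⟩ := (Finite.injective_iff_surjective.1 hinj) ⟨y, hy⟩
  have e : x⁻¹ * ((w : G) * x * (w : G)⁻¹) = y := congrArg Subtype.val hw
  exact isConj_iff.2 ⟨w, by rw [← e, mul_inv_cancel_left]⟩

theorem fix_apply {χ : G → ℂ} (hχ : IsClassFunction G χ) {x : Q} (hx : x ≠ 1) :
    fixFun P Q χ x = χ x := by
  have hx1 : (x : G) ≠ 1 := fun h => hx (Subtype.ext h)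
  rw [fixFun, Finset.sum_congr rfl fun y _ =>
    ((isClassFunction_iff.1 hχ) _ _ (H.isConj_coset x.2 hx1 y.2)).symm, Finset.sum_const,
    Finset.card_univ, ← Nat.card_eq_fintype_card, nsmul_eq_mul, inv_mul_cancel_left₀
    (Nat.cast_ne_zero.2 Nat.card_pos.ne')]

theorem fix_one (χ : G → ℂ) : (p : ℂ) * fixFun P Q χ 1 = ∑ y : P, χ y := by
  rw [fixFun, ← H.cardP, mul_inv_cancel_left₀ (Nat.cast_ne_zero.2 Nat.card_pos.ne')]
  simp

theorem fix_isCharacter {χ : G → ℂ} (hχ : IsCharacter G χ) : IsCharacter Q (fixFun P Q χ) :=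
  isCharacter_fixFun P Q H.norm_le hχ

end Hyp

/-- The classification of the irreducible characters. -/
structure Table (p : ℕ) (P : Subgroup G) (q n : ℕ) where
  As : Finset (IrrCharacter G)
  Bs : Finset (IrrCharacter G)
  Th : Finset (IrrCharacter G)
  δ : ℤ
  c : ℕ
  ex : G → ℂ
  sign : δ = 1 ∨ δ = -1
  disjAB : Disjoint As Bs
  disjAT : Disjoint As Th
  disjBT : Disjoint Bs Th
  ne_principal : principal G ∉ As ∧ principal G ∉ Bs ∧ principal G ∉ Th
  cover : ∀ χ : IrrCharacter G, χ = principal G ∨ χ ∈ As ∨ χ ∈ Bs ∨ χ ∈ Th ∨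
    p ∣ charDegree (χ : G → ℂ)
  degA : ∀ χ ∈ As, (χ : G → ℂ) 1 = (n : ℂ) * p + 1
  valA : ∀ χ ∈ As, ∀ y ∈ P, y ≠ 1 → (χ : G → ℂ) y = 1
  degB : ∀ χ ∈ Bs, (χ : G → ℂ) 1 = (p : ℂ) - 1
  valB : ∀ χ ∈ Bs, ∀ y ∈ P, y ≠ 1 → (χ : G → ℂ) y = -1
  valZ : ∀ χ : IrrCharacter G, p ∣ charDegree (χ : G → ℂ) →
    ∀ y ∈ P, y ≠ 1 → (χ : G → ℂ) y = 0
  ex_one : ex 1 = c
  agree : ∀ θ ∈ Th, ∀ g, ¬ p ∣ orderOf g → (θ : G → ℂ) g = ex g
  sumT : ∀ θ ∈ Th, ∑ y : P, (θ : G → ℂ) y = (c : ℂ) + δ * q
  relation : ∀ g : G, ¬ p ∣ orderOf g →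
    1 + ∑ χ ∈ As, (χ : G → ℂ) g - ∑ χ ∈ Bs, (χ : G → ℂ) g + δ * ex g = 0
  count : (Th = ∅ ∧ δ = 1 ∧ c = 0 ∧ ex = 0 ∧ q + 1 = p ∧ As.card + Bs.card = q) ∨
    (2 ≤ Th.card ∧ Th.card * q + 1 = p ∧ As.card + Bs.card + 1 = q ∧
      ((δ = 1 ∧ Th.card * c = n * p + 1) ∨ (δ = -1 ∧ Th.card * c + 1 = p)))

theorem exists_table {p : ℕ} [hpF : Fact p.Prime] (S : Sylow p G) {Q : Subgroup G} {q n : ℕ}
    (H : Hyp p (S : Subgroup G) Q q n) : Nonempty (Table (G := G) p (S : Subgroup G) q n) := by
  obtain ⟨V, e, K, -⟩ := DefOne.exists_conf H.hp S H.cardP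
  haveI : Fintype V := Fintype.ofFinite _
  haveI : Fintype (Subgroup.normalizer ((S : Subgroup G) : Set G)) := Fintype.ofFinite _
  haveI : Fintype ((S : Subgroup G) →* ℂˣ) := Fintype.ofFinite _
  have hV1 : Nat.card V = 1 := by
    have h := DefOne.card_centralizer K
    rw [H.cent, H.cardP] at h
    exact (mul_right_eq_self₀.1 h.symm).resolve_right H.hp.ne_zero
  have he : e = q := by
    have h := K.D.hcard
    rw [H.cardN, K.hP, hV1, mul_one, mul_comm p] at h
    exact (Nat.eq_of_mul_eq_mul_right H.hp.pos h).symm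
  obtain ⟨M, hM⟩ := exists_isPModular_witness p
  haveI : M.IsMaximal := hM.2.1
  obtain ⟨eb, X, Y, δ, sg, F⟩ := DefOne.exists_families K hM (DefOne.trivB V)
  have hee : eb = q := (DefOne.eb_triv K F).trans he
  have hB := DefOne.principal_eq K hM F
  have hmem : ∀ χ, χ ∈ X ∨ χ ∈ Y → χ ∈ principalBlock M G := fun χ h => by rw [hB]; exact h
  have hval : ∀ χ, χ ∈ X ∨ χ ∈ Y → ∀ y : (S : Subgroup G), y ≠ 1 →
      (χ : G → ℂ) y = DefOne.phi (χ : G → ℂ) (DefOne.trivB V) y := fun χ h y hy =>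
    (DefOne.phi_principal K hM (hmem χ h) hy).symm
  have hvX : ∀ χ ∈ X, ∀ y : (S : Subgroup G), y ≠ 1 → (χ : G → ℂ) y = (sg χ : ℂ) := fun χ hχ y hy => by
    rw [hval χ (Or.inl hχ) y hy, DefOne.Families.phi_X K F hχ hy]
  have hother : ∀ χ : IrrCharacter G, χ ∉ X → χ ∉ Y → p ∣ charDegree (χ : G → ℂ) := by
    intro χ hx hy
    by_contra hd
    obtain ⟨b, hb⟩ := DefOne.exists_inR K hM hd
    haveI : Subsingleton V := Finite.card_le_one_iff_subsingleton.1 hV1.le
    obtain rfl : b = DefOne.trivB V := Subtype.ext (funext fun x => by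
      have hx : x = 1 := Subsingleton.elim _ _
      rw [hx, degree_one_of_comm (fun _ _ => Subsingleton.elim _ _) b.2]
      rfl)
    exact ((DefOne.mem_iff_inR K F χ).2 hb).elim hx hy
  have h1p : ¬ p ∣ orderOf (1 : G) := by simpa using H.hp.ne_one
  have hdvd : ∀ χ : IrrCharacter G, ¬ p ∣ charDegree (χ : G → ℂ) →
      charDegree (χ : G → ℂ) ∣ q * (n * p + 1) := fun χ hd => by
    have h := charDegree_dvd_card χ
    rw [H.cardG, mul_assoc] at h
    exact ((H.hp.coprime_iff_not_dvd.2 hd).symm).dvd_of_dvd_mul_left h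
  obtain ⟨w, hw⟩ : ∃ w, w * q = p - 1 := ⟨Y.card, hee ▸ F.cardY⟩
  have hwpos : 0 < w := Nat.pos_of_ne_zero fun h => by
    rw [h, zero_mul] at hw; have := H.three; omega
  have hne : ∀ χ : IrrCharacter G, χ ≠ principal G → 2 ≤ charDegree (χ : G → ℂ) := fun χ hne => by
    by_contra h
    refine hne (eq_principal_of_deg_one H.perfect ?_)
    rw [irr_one_eq_charDegree, show charDegree (χ : G → ℂ) = 1 by have := charDegree_pos χ; omega,
      Nat.cast_one]
  have hsqsum : ∀ s : Finset (IrrCharacter G), principal G ∉ s →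
      1 + ∑ χ ∈ s, charDegree (χ : G → ℂ) ^ 2 ≤ Nat.card G := by
    intro s hs
    have h := sum_sq_degree (G := G)
    simp only [irr_one_eq_charDegree] at h
    have h' : ∑ χ : IrrCharacter G, charDegree (χ : G → ℂ) ^ 2 = Nat.card G := by exact_mod_cast h
    rw [← h', ← Finset.sum_erase_add _ _ (Finset.mem_univ (principal G)), add_comm 1,
      show charDegree (principal G : G → ℂ) ^ 2 = 1 by
        rw [show charDegree (principal G : G → ℂ) = 1 from Cfsg.Agent.CharX.charDegree_one, one_pow]]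
    exact Nat.add_le_add_right (Finset.sum_le_sum_of_subset fun χ hχ =>
      Finset.mem_erase.2 ⟨fun e => hs (by rw [← e]; exact hχ), Finset.mem_univ χ⟩) 1
  have hcardG' : Nat.card G ≤ p * ((p - 1) * (n * p + 1)) := by
    rw [H.cardG, mul_assoc]
    exact Nat.mul_le_mul_left _ (Nat.mul_le_mul_right _
      (Nat.le_of_dvd (by have := H.three; omega) H.dvd))
  have hcongr : ∀ χ : IrrCharacter G, (χ ∈ X ∨ χ ∈ Y) →
      (charDegree (χ : G → ℂ) : ℤ) ≡ -(∑ l, DefOne.acoef K χ (DefOne.trivB V) l) [ZMOD p] :=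
    fun χ h => DefOne.degree_congr K hM (hmem χ h)
  -- degrees and values, given the sign at `P`
  have hclass : ∀ χ : IrrCharacter G, χ ≠ principal G → ∀ ε : ℤ, (ε = 1 ∨ ε = -1) →
      (charDegree (χ : G → ℂ) : ℤ) ≡ ε [ZMOD p] →
      (ε = 1 → (χ : G → ℂ) 1 = (n : ℂ) * p + 1) ∧ (ε = -1 → (χ : G → ℂ) 1 = (p : ℂ) - 1) := by
    intro χ hne' ε hε hmod
    have hnd : ¬ p ∣ charDegree (χ : G → ℂ) := fun h => by
      have h2 : (p : ℤ) ∣ ε := by
        have := (Int.modEq_iff_dvd.1 hmod)
        have h3 : (p : ℤ) ∣ (charDegree (χ : G → ℂ) : ℤ) := Int.natCast_dvd_natCast.2 h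
        simpa using dvd_add this h3
      have := Int.le_of_dvd (by norm_num) (show (p : ℤ) ∣ 1 by
        rcases hε with rfl | rfl
        · exact h2
        · exact dvd_neg.1 h2)
      have := H.three
      omega
    have h1 : charDegree (χ : G → ℂ) ∣ (p - 1) * (n * p + 1) :=
      (hdvd χ hnd).trans (mul_dvd_mul_right H.dvd _)
    have h2 := hsqsum {χ} (by simpa using hne'.symm)
    rw [Finset.sum_singleton] at h2
    refine ⟨fun e => ?_, fun e => ?_⟩ <;> subst e <;> rw [irr_one_eq_charDegree]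
    · rw [deg_plus H.three H.nr h1 (hne χ hne') hmod]
      push_cast; ring
    · have := deg_minus H.three H.npos H.nr h1 (by omega) hmod
      rw [eq_sub_iff_add_eq]
      exact_mod_cast this
  have hXmod : ∀ χ ∈ X, (charDegree (χ : G → ℂ) : ℤ) ≡ sg χ [ZMOD p] := fun χ hχ => by
    have h := hcongr χ (Or.inl hχ)
    rw [DefOne.Families.sum_X K F hχ] at h
    exact h.trans (Int.modEq_iff_dvd.2 ⟨sg χ, by ring⟩)
  have hYsum : ∀ θ ∈ Y, ∑ y : (S : Subgroup G), (θ : G → ℂ) y =
      (θ : G → ℂ) 1 + (δ : ℂ) * q := by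
    intro θ hθ
    rw [← Finset.add_sum_erase _ _ (Finset.mem_univ (1 : (S : Subgroup G))), OneMemClass.coe_one]
    congr 1
    rw [Finset.sum_congr rfl fun y hy => (hval θ (Or.inr hθ) y (Finset.ne_of_mem_erase hy)).trans
      (DefOne.phi_eq_acoef K θ (DefOne.trivB V) (Finset.ne_of_mem_erase hy)), Finset.sum_neg_distrib,
      Finset.sum_comm]
    simp only [← Finset.mul_sum]
    have hl : ∀ l : (S : Subgroup G) →* ℂˣ,
        ∑ y ∈ Finset.univ.erase (1 : (S : Subgroup G)), ((l y : ℂˣ) : ℂ) =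
          (if l = 1 then (p : ℂ) else 0) - 1 := by
      intro l
      have h := Finset.add_sum_erase Finset.univ (fun y : (S : Subgroup G) => ((l y : ℂˣ) : ℂ))
        (Finset.mem_univ 1)
      simp only [map_one, Units.val_one] at h
      rw [eq_sub_iff_add_eq, add_comm, h]
      split_ifs with h1
      · subst h1
        simp [← Nat.card_eq_fintype_card, H.cardP]
      · exact sum_hom_units_eq_zero ((Units.coeHom ℂ).comp l) fun e =>
          h1 (MonoidHom.ext fun y => Units.ext (DFunLike.congr_fun e y))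
    simp only [hl, mul_sub, mul_ite, mul_zero, mul_one, Finset.sum_sub_distrib, Finset.sum_ite_eq',
      Finset.mem_univ, if_true, DefOne.acoef_one, Int.cast_zero, zero_mul, zero_sub, neg_neg]
    rw [← Int.cast_sum, F.sumY θ hθ, hee]
    push_cast
    ring
  have hp1 : (principal G : G → ℂ) 1 = 1 := rfl
  obtain ⟨θ0, hθ0⟩ := F.nonempty
  have hrel : ∀ g : G, ¬ p ∣ orderOf g →
      ∑ χ ∈ X, (sg χ : ℂ) * (χ : G → ℂ) g + (δ : ℂ) * (θ0 : G → ℂ) g = 0 :=
    fun g hg => DefOne.Families.relation K F hθ0 hg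
  have hpr : principal G ∈ X ∨ principal G ∈ Y := by
    have := principal_mem_principalBlock (M := M) (G := G)
    rw [hB] at this
    exact this
  have hprX : principal G ∈ X → sg (principal G) = 1 := fun h => by
    haveI : Nontrivial (S : Subgroup G) := Finite.one_lt_card_iff_nontrivial.1 (by rw [H.cardP]; exact H.hp.one_lt)
    obtain ⟨y, hy⟩ := exists_ne (1 : (S : Subgroup G))
    have := hvX _ h y hy
    simp only [principal] at this
    exact_mod_cast this.symm
  by_cases hw1 : w = 1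
  · -- a single exceptional character: all nonprincipal characters of the block are alike
    have hY1 : Y = {θ0} := by
      have hc : Y.card = 1 := by
        have h := F.cardY
        rw [hee, ← hw, hw1] at h
        exact Nat.eq_of_mul_eq_mul_right (by have := H.two_le; omega) h
      obtain ⟨a, ha⟩ := Finset.card_eq_one.1 hc
      rw [ha, Finset.mem_singleton] at hθ0
      rw [ha, hθ0]
    have hqp : q + 1 = p := by rw [hw1, one_mul] at hw; have := H.three; omega
    set s : IrrCharacter G → ℤ := fun χ => if χ ∈ X then sg χ else δ with hs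
    have hsX : ∀ χ ∈ X, s χ = sg χ := fun χ h => if_pos h
    have hsY : s θ0 = δ := if_neg fun h => Finset.disjoint_left.1 F.disj h hθ0
    have hvθ : ∀ y : (S : Subgroup G), y ≠ 1 → (θ0 : G → ℂ) y = (δ : ℂ) := by
      intro y hy
      rw [hval θ0 (Or.inr hθ0) y hy, DefOne.phi_eq_acoef K θ0 _ hy]
      have hall : ∀ l : (S : Subgroup G) →* ℂˣ, l ≠ 1 → DefOne.acoef K θ0 (DefOne.trivB V) l = δ := by
        by_contra hcon
        push Not at hcon
        obtain ⟨l, hl, hla⟩ := hcon
        have h0 : DefOne.acoef K θ0 (DefOne.trivB V) l = 0 := (F.valY θ0 hθ0 l).resolve_right hla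
        have hb : ∀ m, δ * DefOne.acoef K θ0 (DefOne.trivB V) m ≤ 1 := fun m => by
          rcases F.valY θ0 hθ0 m with e | e <;> rw [e] <;> rcases F.sign with e' | e' <;> simp [e']
        have hne1 : l ∈ Finset.univ.erase (1 : (S : Subgroup G) →* ℂˣ) :=
          Finset.mem_erase.2 ⟨hl, Finset.mem_univ _⟩
        have h := F.sumY θ0 hθ0
        rw [← Finset.add_sum_erase _ _ (Finset.mem_univ (1 : (S : Subgroup G) →* ℂˣ)), DefOne.acoef_one,
          zero_add, ← Finset.add_sum_erase _ _ hne1, h0, zero_add, hee] at h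
        have h2 := congrArg (δ * ·) h
        simp only [Finset.mul_sum, ← mul_assoc,
          show δ * δ = 1 by rcases F.sign with e | e <;> rw [e] <;> norm_num, one_mul] at h2
        have h3 := Finset.sum_le_card_nsmul ((Finset.univ.erase (1 : (S : Subgroup G) →* ℂˣ)).erase l)
          (fun m => δ * DefOne.acoef K θ0 (DefOne.trivB V) m) 1 fun m _ => hb m
        rw [h2, Finset.card_erase_of_mem hne1, Finset.card_erase_of_mem (Finset.mem_univ _),
          Finset.card_univ, CCSylow.card_dual K.D, H.cardP, nsmul_eq_mul, mul_one] at h3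
        have := H.three
        omega
      have h := CCSylow.sum_linear K.D y
      rw [if_neg hy, ← Finset.add_sum_erase _ _ (Finset.mem_univ (1 : (S : Subgroup G) →* ℂˣ))] at h
      rw [← Finset.add_sum_erase _ _ (Finset.mem_univ (1 : (S : Subgroup G) →* ℂˣ)), DefOne.acoef_one,
        Int.cast_zero, zero_mul, zero_add, Finset.sum_congr rfl fun l hl => by
          rw [hall l (Finset.ne_of_mem_erase hl)], ← Finset.mul_sum]
      simp only [MonoidHom.one_apply, Units.val_one] at h
      linear_combination -(δ : ℂ) * h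
    set R := (X ∪ Y).erase (principal G) with hR
    have hsv : ∀ χ ∈ X ∪ Y, (s χ = 1 ∨ s χ = -1) ∧
        (charDegree (χ : G → ℂ) : ℤ) ≡ s χ [ZMOD p] ∧
        ∀ y : (S : Subgroup G), y ≠ 1 → (χ : G → ℂ) y = (s χ : ℂ) := by
      intro χ hχ
      rcases Finset.mem_union.1 hχ with h | h
      · rw [hsX χ h]
        exact ⟨F.signX χ h, hXmod χ h, hvX χ h⟩
      · rw [hY1, Finset.mem_singleton] at h
        subst h
        rw [hsY]
        refine ⟨F.sign, ?_, hvθ⟩
        have h := hcongr χ (Or.inr hθ0)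
        rw [F.sumY χ hθ0, hee] at h
        refine h.trans (Int.modEq_iff_dvd.2 ⟨δ, ?_⟩)
        have hq' : (q : ℤ) + 1 = p := by exact_mod_cast hqp
        linear_combination δ * hq'
    have hprU : principal G ∈ X ∪ Y := Finset.mem_union.2 hpr
    have hs1 : s (principal G) = 1 := by
      haveI : Nontrivial (S : Subgroup G) := Finite.one_lt_card_iff_nontrivial.1 (by rw [H.cardP]; exact H.hp.one_lt)
      obtain ⟨y, hy⟩ := exists_ne (1 : (S : Subgroup G))
      have := (hsv _ hprU).2.2 y hy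
      simp only [principal] at this
      exact_mod_cast this.symm
    have hdeg : ∀ χ ∈ R, (s χ = 1 → (χ : G → ℂ) 1 = (n : ℂ) * p + 1) ∧
        (s χ = -1 → (χ : G → ℂ) 1 = (p : ℂ) - 1) := fun χ hχ =>
      hclass χ (Finset.ne_of_mem_erase hχ) _ (hsv χ (Finset.mem_of_mem_erase hχ)).1
        (hsv χ (Finset.mem_of_mem_erase hχ)).2.1
    have hcover : ∀ χ : IrrCharacter G, χ = principal G ∨ χ ∈ R.filter (fun χ => s χ = 1) ∨
        χ ∈ R.filter (fun χ => s χ = -1) ∨ χ ∈ (∅ : Finset (IrrCharacter G)) ∨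
        p ∣ charDegree (χ : G → ℂ) := by
      intro χ
      by_cases hχ : χ ∈ X ∪ Y
      · by_cases h1 : χ = principal G
        · exact Or.inl h1
        · rcases (hsv χ hχ).1 with e | e
          · exact Or.inr (Or.inl (Finset.mem_filter.2 ⟨Finset.mem_erase.2 ⟨h1, hχ⟩, e⟩))
          · exact Or.inr (Or.inr (Or.inl (Finset.mem_filter.2 ⟨Finset.mem_erase.2 ⟨h1, hχ⟩, e⟩)))
      · rw [Finset.mem_union, not_or] at hχ
        exact Or.inr (Or.inr (Or.inr (Or.inr (hother χ hχ.1 hχ.2))))
    refine ⟨⟨R.filter (fun χ => s χ = 1), R.filter (fun χ => s χ = -1), ∅, 1, 0, 0, Or.inl rfl,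
      Finset.disjoint_filter.2 fun χ _ e e' => by rw [e] at e'; norm_num at e',
      Finset.disjoint_empty_right _, Finset.disjoint_empty_right _, ⟨by simp [R], by simp [R], by simp⟩,
      hcover, fun χ h => (hdeg χ (Finset.mem_filter.1 h).1).1 (Finset.mem_filter.1 h).2,
      fun χ h y hy hy1 => ?_, fun χ h => (hdeg χ (Finset.mem_filter.1 h).1).2 (Finset.mem_filter.1 h).2,
      fun χ h y hy hy1 => ?_, ?_, by simp, by simp, by simp, fun g hg => ?_, Or.inl ⟨rfl, rfl, rfl, rfl, hqp, ?_⟩⟩⟩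
    · rw [(hsv χ (Finset.mem_of_mem_erase (Finset.mem_filter.1 h).1)).2.2 ⟨y, hy⟩
        (fun e => hy1 (congrArg Subtype.val e)), (Finset.mem_filter.1 h).2, Int.cast_one]
    · rw [(hsv χ (Finset.mem_of_mem_erase (Finset.mem_filter.1 h).1)).2.2 ⟨y, hy⟩
        (fun e => hy1 (congrArg Subtype.val e)), (Finset.mem_filter.1 h).2, Int.cast_neg, Int.cast_one]
    · intro χ hd y hy hy1
      have h := DefOne.section_zero_of_dvd K hM hd (y := ⟨y, hy⟩)
        (fun e => hy1 (congrArg Subtype.val e)) (v := 1)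
      simpa using h
    · have h := hrel g hg
      have e : ∑ χ ∈ X, (sg χ : ℂ) * (χ : G → ℂ) g + (δ : ℂ) * (θ0 : G → ℂ) g =
          ∑ χ ∈ X ∪ Y, (s χ : ℂ) * (χ : G → ℂ) g := by
        rw [Finset.sum_union F.disj, hY1, Finset.sum_singleton, hsY]
        congr 1
        exact Finset.sum_congr rfl fun χ hχ => by rw [hsX χ hχ]
      rw [e, ← Finset.add_sum_erase _ _ hprU, ← hR, hs1,
        ← Finset.sum_filter_add_sum_filter_not R (fun χ => s χ = 1),
        Finset.filter_congr (q := fun χ => s χ = -1) fun χ hχ => ⟨fun e =>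
          (hsv χ (Finset.mem_of_mem_erase hχ)).1.resolve_left e,
          fun e e' => by rw [e] at e'; norm_num at e'⟩,
        Finset.sum_congr (s₁ := R.filter fun χ => s χ = 1) rfl
          (f := fun χ => (s χ : ℂ) * (χ : G → ℂ) g) (g := fun χ : IrrCharacter G => (χ : G → ℂ) g)
          fun χ hχ => by simp [(Finset.mem_filter.1 hχ).2],
        Finset.sum_congr (s₁ := R.filter fun χ => s χ = -1) rfl
          (f := fun χ => (s χ : ℂ) * (χ : G → ℂ) g) (g := fun χ : IrrCharacter G => -((χ : G → ℂ) g))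
          fun χ hχ => by simp [(Finset.mem_filter.1 hχ).2],
        Finset.sum_neg_distrib] at h
      simp only [principal, Int.cast_one, one_mul] at h
      simp only [Int.cast_one, Pi.zero_apply, mul_zero, add_zero]
      linear_combination h
    · rw [← Finset.filter_congr (q := fun χ => s χ = -1) (s := R) (p := fun χ => ¬ s χ = 1)
        fun χ hχ => ⟨fun e => (hsv χ (Finset.mem_of_mem_erase hχ)).1.resolve_left e,
          fun e e' => by rw [e] at e'; norm_num at e'⟩, Finset.card_filter_add_card_filter_not,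
        hR, Finset.card_erase_of_mem hprU, Finset.card_union_of_disjoint F.disj, F.cardX, hY1,
        Finset.card_singleton, hee, Nat.add_sub_cancel]
  · -- at least two exceptional characters
    have hYc : Y.card = w := by
      have h := F.cardY
      rw [hee, ← hw] at h
      exact Nat.eq_of_mul_eq_mul_right (by have := H.two_le; omega) h
    have hprin : principal G ∈ X := hpr.resolve_right fun h => by
      have : Y = {principal G} := Finset.eq_singleton_iff_unique_mem.2 ⟨h, fun θ hθ => by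
        obtain ⟨σ, -, rfl⟩ := F.transY _ h θ hθ
        exact Subtype.ext (funext fun g => map_one σ)⟩
      rw [this, Finset.card_singleton] at hYc
      omega
    have hY0 : principal G ∉ Y := Finset.disjoint_left.1 F.disj hprin
    set c := charDegree (θ0 : G → ℂ) with hc
    have hθne : θ0 ≠ principal G := fun e => hY0 (e ▸ hθ0)
    have hθmod : (c : ℤ) ≡ -δ * q [ZMOD p] := by
      have h := hcongr θ0 (Or.inr hθ0)
      rw [F.sumY θ0 hθ0, hee] at h
      rwa [neg_mul]
    have hcnd : ¬ p ∣ c := fun h => by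
      have h2 := Int.modEq_iff_dvd.1 hθmod
      have h3 : (p : ℤ) ∣ (c : ℤ) := Int.natCast_dvd_natCast.2 h
      have h4 : (p : ℤ) ∣ -δ * q := by simpa using dvd_add h2 h3
      have h5 : (p : ℤ) ∣ (q : ℤ) := by
        rcases F.sign with e | e <;> rw [e] at h4 <;> simpa using h4
      exact H.not_dvd_q (Int.natCast_dvd_natCast.1 h5)
    have hdv : w * c ∣ (p - 1) * (n * p + 1) := by
      rw [← hw, mul_assoc]
      exact mul_dvd_mul_left _ (hdvd θ0 hcnd)
    have hsq : (w * c) ^ 2 < p * ((p - 1) * (n * p + 1)) := by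
      have h := hsqsum Y hY0
      rw [Finset.sum_congr rfl (g := fun _ => c ^ 2) fun θ hθ => by
        have h := DefOne.Families.agree K F hθ hθ0 h1p
        rw [irr_one_eq_charDegree, irr_one_eq_charDegree] at h
        rw [hc, show charDegree (θ : G → ℂ) = charDegree (θ0 : G → ℂ) by exact_mod_cast h],
        Finset.sum_const, hYc, smul_eq_mul] at h
      have h2 : Nat.card G * w = p * ((p - 1) * (n * p + 1)) := by rw [H.cardG, ← hw]; ring
      rw [← h2]
      calc (w * c) ^ 2 = w * c ^ 2 * w := by ring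
        _ < Nat.card G * w := Nat.mul_lt_mul_of_pos_right (by omega) hwpos
    have hwc2 : 2 ≤ w * c := le_trans (hne θ0 hθne) (Nat.le_mul_of_pos_left _ hwpos)
    have hwmod : ((w * c : ℕ) : ℤ) ≡ δ [ZMOD p] := by
      push_cast
      refine (hθmod.mul_left _).trans (Int.modEq_iff_dvd.2 ⟨δ, ?_⟩)
      have : (w : ℤ) * q = p - 1 := by
        have := H.three
        rw [← Nat.cast_one, ← Nat.cast_sub (by omega), ← hw]; push_cast; ring
      linear_combination δ * this
    have hcnt : (δ = 1 ∧ Y.card * c = n * p + 1) ∨ (δ = -1 ∧ Y.card * c + 1 = p) := by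
      rw [hYc]
      rcases F.sign with e | e
      · exact Or.inl ⟨e, deg_plus H.three H.nr hdv hwc2 (e ▸ hwmod)⟩
      · exact Or.inr ⟨e, deg_minus H.three H.npos H.nr hdv hsq (e ▸ hwmod)⟩
    set R := X.erase (principal G) with hR
    have hdeg : ∀ χ ∈ R, (sg χ = 1 → (χ : G → ℂ) 1 = (n : ℂ) * p + 1) ∧
        (sg χ = -1 → (χ : G → ℂ) 1 = (p : ℂ) - 1) := fun χ hχ =>
      hclass χ (Finset.ne_of_mem_erase hχ) _ (F.signX χ (Finset.mem_of_mem_erase hχ))
        (hXmod χ (Finset.mem_of_mem_erase hχ))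
    have hcover : ∀ χ : IrrCharacter G, χ = principal G ∨ χ ∈ R.filter (fun χ => sg χ = 1) ∨
        χ ∈ R.filter (fun χ => sg χ = -1) ∨ χ ∈ Y ∨ p ∣ charDegree (χ : G → ℂ) := by
      intro χ
      by_cases h1 : χ = principal G
      · exact Or.inl h1
      by_cases hy : χ ∈ Y
      · exact Or.inr (Or.inr (Or.inr (Or.inl hy)))
      by_cases hx : χ ∈ X
      · rcases F.signX χ hx with e | e
        · exact Or.inr (Or.inl (Finset.mem_filter.2 ⟨Finset.mem_erase.2 ⟨h1, hx⟩, e⟩))
        · exact Or.inr (Or.inr (Or.inl (Finset.mem_filter.2 ⟨Finset.mem_erase.2 ⟨h1, hx⟩, e⟩)))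
      · exact Or.inr (Or.inr (Or.inr (Or.inr (hother χ hx hy))))
    refine ⟨⟨R.filter (fun χ => sg χ = 1), R.filter (fun χ => sg χ = -1), Y, δ, c, (θ0 : G → ℂ),
      F.sign, Finset.disjoint_filter.2 fun χ _ e e' => by rw [e] at e'; norm_num at e',
      F.disj.mono_left ((Finset.filter_subset _ _).trans (Finset.erase_subset _ _)),
      F.disj.mono_left ((Finset.filter_subset _ _).trans (Finset.erase_subset _ _)),
      ⟨by simp [R], by simp [R], hY0⟩,
      hcover, fun χ h => (hdeg χ (Finset.mem_filter.1 h).1).1 (Finset.mem_filter.1 h).2,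
      fun χ h y hy hy1 => ?_, fun χ h => (hdeg χ (Finset.mem_filter.1 h).1).2 (Finset.mem_filter.1 h).2,
      fun χ h y hy hy1 => ?_, ?_, irr_one_eq_charDegree θ0,
      fun θ hθ g hg => DefOne.Families.agree K F hθ hθ0 hg, fun θ hθ => ?_, fun g hg => ?_,
      Or.inr ⟨by omega, ?_, ?_, hcnt⟩⟩⟩
    · rw [hvX χ (Finset.mem_of_mem_erase (Finset.mem_filter.1 h).1) ⟨y, hy⟩
        (fun e => hy1 (congrArg Subtype.val e)), (Finset.mem_filter.1 h).2, Int.cast_one]
    · rw [hvX χ (Finset.mem_of_mem_erase (Finset.mem_filter.1 h).1) ⟨y, hy⟩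
        (fun e => hy1 (congrArg Subtype.val e)), (Finset.mem_filter.1 h).2, Int.cast_neg, Int.cast_one]
    · intro χ hd y hy hy1
      have h := DefOne.section_zero_of_dvd K hM hd (y := ⟨y, hy⟩)
        (fun e => hy1 (congrArg Subtype.val e)) (v := 1)
      simpa using h
    · rw [hYsum θ hθ, DefOne.Families.agree K F hθ hθ0 h1p, irr_one_eq_charDegree]
    · have h := hrel g hg
      rw [← Finset.add_sum_erase _ _ hprin, ← hR, hprX hprin,
        ← Finset.sum_filter_add_sum_filter_not R (fun χ => sg χ = 1),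
        Finset.filter_congr (q := fun χ => sg χ = -1) fun χ hχ => ⟨fun e =>
          (F.signX χ (Finset.mem_of_mem_erase hχ)).resolve_left e,
          fun e e' => by rw [e] at e'; norm_num at e'⟩,
        Finset.sum_congr (s₁ := R.filter fun χ => sg χ = 1) rfl
          (f := fun χ => (sg χ : ℂ) * (χ : G → ℂ) g) (g := fun χ : IrrCharacter G => (χ : G → ℂ) g)
          fun χ hχ => by simp [(Finset.mem_filter.1 hχ).2],
        Finset.sum_congr (s₁ := R.filter fun χ => sg χ = -1) rfl
          (f := fun χ => (sg χ : ℂ) * (χ : G → ℂ) g) (g := fun χ : IrrCharacter G => -((χ : G → ℂ) g))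
          fun χ hχ => by simp [(Finset.mem_filter.1 hχ).2],
        Finset.sum_neg_distrib] at h
      simp only [principal, Int.cast_one, one_mul] at h
      linear_combination h
    · rw [hYc]; have := H.three; omega
    · rw [← Finset.filter_congr (q := fun χ => sg χ = -1) (s := R) (p := fun χ => ¬ sg χ = 1)
        fun χ hχ => ⟨fun e => (F.signX χ (Finset.mem_of_mem_erase hχ)).resolve_left e,
          fun e e' => by rw [e] at e'; norm_num at e'⟩, Finset.card_filter_add_card_filter_not,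
        hR, Finset.card_erase_of_mem hprin, F.cardX, hee]
      have := H.two_le
      omega

end Cfsg.Agent.SmallN
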