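import Cfsg.Agent.Lib.SmallN.KleinPQ

/-!
Simple groups of order `3 * 2 ^ c * r ^ d`.
-/

set_option autoImplicit false
set_option linter.style.haveILetI false
set_option linter.unusedSectionVars false

namespace Cfsg.Agent.SmallN

open Cfsg Cfsg.Agent.Char Cfsg.Agent.Blocks
open scoped ComplexConjugate Classical

universe u

variable {G : Type u} [Group G] [Fintype G]

/-- An element outside the regular ones is conjugate into the section of the block. -/
theorem PBlock.exists_conj_section {p : ℕ} [Fact p.Prime] (S : Sylow p G) {V : Subgroup G} {e : ℕ}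
    {X Y : Finset (IrrCharacter G)} {δ : ℤ} {sg : IrrCharacter G → ℤ}
    (B : PBlock p (S : Subgroup G) V e X Y δ sg) {g : G} (hg : p ∣ orderOf g) :
    ∃ y ∈ (S : Subgroup G), y ≠ 1 ∧ ∃ x ∈ V, IsConj g (x * y) := by
  have hp : p.Prime := B.hp
  -- the two parts of `g`
  obtain ⟨n, hn⟩ := hg
  have ho : 0 < orderOf g := orderOf_pos g
  have hn0 : n ≠ 0 := fun h => by rw [h, mul_zero] at hn; omega
  have hpn : ¬ p ∣ n := by
    intro h
    obtain ⟨m, rfl⟩ := h
    have h1 : p * p ∣ Nat.card G :=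
      (Dvd.intro m (by rw [hn, mul_assoc])).trans (orderOf_dvd_natCard g)
    have h2 := S.pow_dvd_card_of_pow_dvd_card (n := 2) (by rwa [pow_two])
    rw [B.cardS, pow_two] at h2
    have := Nat.le_of_dvd hp.pos h2
    nlinarith [hp.two_le]
  obtain ⟨s, t, hst⟩ : ∃ s t : ℤ, s * n + t * p = 1 := by
    have h := Int.isCoprime_iff_gcd_eq_one.2 (show Int.gcd (n : ℤ) (p : ℤ) = 1 by
      rw [Int.gcd_natCast_natCast]; exact ((hp.coprime_iff_not_dvd.2 hpn).symm))
    obtain ⟨s, t, h⟩ := h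
    exact ⟨s, t, h⟩
  set u := g ^ (s * n) with hu
  set v := g ^ (t * p) with hv
  have huv : v * u = g := by rw [hu, hv, ← zpow_add, add_comm, hst, zpow_one]
  have hgo : g ^ ((orderOf g : ℕ) : ℤ) = 1 := by rw [zpow_natCast, pow_orderOf_eq_one]
  have hup : u ^ p = 1 := by
    rw [hu, ← zpow_natCast, ← zpow_mul,
      show s * n * p = ((orderOf g : ℕ) : ℤ) * s by rw [hn]; push_cast; ring, zpow_mul, hgo, one_zpow]
  have hvn : v ^ n = 1 := by
    rw [hv, ← zpow_natCast, ← zpow_mul,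
      show t * p * n = ((orderOf g : ℕ) : ℤ) * t by rw [hn]; push_cast; ring, zpow_mul, hgo, one_zpow]
  have hu1 : u ≠ 1 := by
    intro h
    rw [h, mul_one] at huv
    rw [huv] at hvn
    have := Nat.le_of_dvd (Nat.pos_of_ne_zero hn0) (orderOf_dvd_of_pow_eq_one hvn)
    rw [hn] at this
    nlinarith [hp.two_le, Nat.pos_of_ne_zero hn0]
  have hcomm : Commute v u := (Commute.refl g).zpow_zpow _ _
  -- move `u` into `S`
  have hord : orderOf u = p := orderOf_eq_prime hup hu1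
  obtain ⟨T, hT⟩ := (IsPGroup.of_card (n := 1) (by
    rw [Nat.card_zpowers, hord, pow_one]) : IsPGroup p (Subgroup.zpowers u)).exists_le_sylow
  obtain ⟨c, hc⟩ := MulAction.exists_smul_eq G T S
  have hy : c * u * c⁻¹ ∈ (S : Subgroup G) := by
    rw [← hc, Sylow.coe_subgroup_smul]
    exact Subgroup.smul_mem_pointwise_smul u (MulAut.conj c) _ (hT (Subgroup.mem_zpowers u))
  have hy1 : c * u * c⁻¹ ≠ 1 := fun h => hu1 (conj_eq_one_iff.1 h)
  have hw : (c * v * c⁻¹) ^ n = 1 := by rw [conj_pow, hvn, mul_one, mul_inv_cancel]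
  have hSz : Subgroup.zpowers (c * u * c⁻¹) = (S : Subgroup G) :=
    Subgroup.eq_of_le_of_card_ge ((Subgroup.zpowers_le).2 hy) (by
      rw [Nat.card_zpowers, B.cardS, orderOf_eq_prime (by rw [conj_pow, hup, mul_one, mul_inv_cancel]) hy1])
  have hwC : c * v * c⁻¹ ∈ Subgroup.centralizer ((S : Subgroup G) : Set G) := by
    rw [← hSz, Subgroup.zpowers_eq_closure, Subgroup.centralizer_closure, Subgroup.mem_centralizer_singleton_iff]
    calc c * v * c⁻¹ * (c * u * c⁻¹) = c * (v * u) * c⁻¹ := by group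
      _ = c * (u * v) * c⁻¹ := by rw [hcomm.eq]
      _ = c * u * c⁻¹ * (c * v * c⁻¹) := by group
  refine ⟨_, hy, hy1, c * v * c⁻¹, ?_, isConj_iff.2 ⟨c, by rw [← huv]; group⟩⟩
  -- the centralizer is the product of `S` and `V`
  have hSV : ∀ a ∈ (S : Subgroup G), a ∈ V → a = 1 := by
    intro a haS haV
    have h1 : orderOf a ∣ p := B.cardS ▸ Subgroup.orderOf_dvd_natCard _ haS
    rcases (Nat.dvd_prime hp).1 h1 with h | h
    · exact orderOf_eq_one_iff.1 h
    · exact absurd (h ▸ Subgroup.orderOf_dvd_natCard _ haV) B.regular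
  have hSC : (S : Subgroup G) ≤ Subgroup.centralizer ((S : Subgroup G) : Set G) := by
    intro a ha
    rw [← hSz, Subgroup.zpowers_eq_closure, Subgroup.centralizer_closure, Subgroup.mem_centralizer_singleton_iff]
    rw [← hSz] at ha
    obtain ⟨k, rfl⟩ := Subgroup.mem_zpowers_iff.1 ha
    exact ((Commute.refl _).zpow_left k).eq
  let f : ↥(S : Subgroup G) × ↥V → ↥(Subgroup.centralizer ((S : Subgroup G) : Set G)) :=
    fun a => ⟨(a.1 : G) * (a.2 : G),
      mul_mem (hSC (SetLike.coe_mem a.1)) (B.V_le (SetLike.coe_mem a.2))⟩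
  have hinj : Function.Injective f := by
    rintro ⟨a, b⟩ ⟨a', b'⟩ h
    have h1 : (a : G) * b = a' * b' := congrArg Subtype.val h
    have h2 : (a' : G)⁻¹ * a = (b' : G) * (b : G)⁻¹ := by
      rw [eq_mul_inv_iff_mul_eq, mul_assoc, h1, inv_mul_cancel_left]
    have h3 := hSV _ (mul_mem (inv_mem a'.2) a.2) (h2 ▸ mul_mem b'.2 (inv_mem b.2))
    have h4 : (a : G) = a' := (inv_mul_eq_one.1 h3).symm
    rw [h4] at h1
    exact Prod.ext (Subtype.ext h4) (Subtype.ext (mul_left_cancel h1))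
  have hsurj := hinj.bijective_of_nat_card_le (by rw [Nat.card_prod, B.cardS, B.cardC])
  obtain ⟨⟨a, b⟩, hab⟩ := hsurj.2 ⟨_, hwC⟩
  have hab' : (a : G) * b = c * v * c⁻¹ := congrArg Subtype.val hab
  have hcm : Commute (a : G) b := (Subgroup.mem_centralizer_iff.1 (B.V_le b.2) a a.2)
  have ha1 : (a : G) = 1 := by
    have h1 : (a : G) ^ n * (b : G) ^ n = 1 := by rw [← hcm.mul_pow, hab', hw]
    have h2 := hSV _ (pow_mem a.2 n) (by
      rw [eq_inv_of_mul_eq_one_left h1]; exact inv_mem (pow_mem b.2 n))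
    have h3 : orderOf (a : G) ∣ Nat.gcd n p := Nat.dvd_gcd (orderOf_dvd_of_pow_eq_one h2)
      (by have := Subgroup.orderOf_dvd_natCard _ a.2; rwa [B.cardS] at this)
    rw [(hp.coprime_iff_not_dvd.2 hpn).symm.gcd_eq_one, Nat.dvd_one] at h3
    exact orderOf_eq_one_iff.1 h3
  rw [← hab', ha1, one_mul]
  exact b.2

/-- The exceptional value of a block with three characters at the prime three. -/
theorem PBlock.value_three {S V : Subgroup G} {X Y : Finset (IrrCharacter G)} {δ : ℤ}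
    {sg : IrrCharacter G → ℤ} (B : PBlock 3 S V 2 X Y δ sg) {θ : IrrCharacter G} (hθ : θ ∈ Y)
    {y : G} (hy : y ∈ S) (hy1 : y ≠ 1) : (θ : G → ℂ) y = (δ : ℂ) := by
  obtain ⟨L, hL1, hLc, hL⟩ := B.linY θ hθ
  have hy1' : (⟨y, hy⟩ : S) ≠ 1 := fun h => hy1 (congrArg Subtype.val h)
  rw [show y = ((⟨y, hy⟩ : S) : G) from rfl, hL _ hy1']
  set w : S := ⟨y, hy⟩
  haveI : Fact (Nat.Prime 3) := ⟨Nat.prime_three⟩
  have hw3 : w ^ 3 = 1 := by rw [← B.cardS]; exact pow_card_eq_one'
  have hgen : ∀ a : S, a ∈ Subgroup.zpowers w := fun a => by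
    rw [Subgroup.eq_top_of_card_eq (Subgroup.zpowers w) (by
      rw [Nat.card_zpowers, orderOf_eq_prime hw3 hy1', B.cardS])]
    exact Subgroup.mem_top a
  have hext : ∀ l l' : S →* ℂˣ, l w = l' w → l = l' := fun l l' h => MonoidHom.ext fun a => by
    obtain ⟨k, rfl⟩ := Subgroup.mem_zpowers_iff.1 (hgen a)
    rw [map_zpow, map_zpow, h]
  obtain ⟨l, l', hne, rfl⟩ := Finset.card_eq_two.1 hLc
  rw [Finset.sum_pair hne]
  have key : ∀ m ∈ ({l, l'} : Finset (S →* ℂˣ)),
      ((m w : ℂˣ) : ℂ) * ((m w : ℂˣ) : ℂ) + ((m w : ℂˣ) : ℂ) + 1 = 0 := by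
    intro m hm
    have h1 : ((m w : ℂˣ) : ℂ) ≠ 1 := fun h => hL1 ((hext m 1 (by
      rw [MonoidHom.one_apply]; exact Units.ext (by simpa using h))) ▸ hm)
    have h3 : ((m w : ℂˣ) : ℂ) ^ 3 = 1 := by
      rw [← Units.val_pow_eq_pow_val, ← map_pow, hw3, map_one, Units.val_one]
    apply mul_left_cancel₀ (sub_ne_zero.2 h1)
    linear_combination h3
  have ha := key l (by simp)
  have hb := key l' (by simp)
  have hd : ((l w : ℂˣ) : ℂ) - ((l' w : ℂˣ) : ℂ) ≠ 0 := sub_ne_zero.2 fun h =>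
    hne (hext l l' (Units.ext h))
  have hs : ((l w : ℂˣ) : ℂ) + ((l' w : ℂˣ) : ℂ) + 1 = 0 := by
    apply mul_left_cancel₀ hd
    linear_combination ha - hb
  linear_combination (-(δ : ℂ)) * hs

/-- No simple group has order `3 * 2 ^ c * r ^ 2`. -/
theorem three_sq [IsSimpleGroup G] (hperf : commutator G = ⊤) {r c : ℕ} (hr : r.Prime) (hr2 : r ≠ 2)
    (hr3 : r ≠ 3) (hG : Nat.card G = 3 * (2 ^ c * r ^ 2)) : False := by
  haveI h3F : Fact (Nat.Prime 3) := ⟨Nat.prime_three⟩
  haveI hrF : Fact r.Prime := ⟨hr⟩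
  have h3k : ¬ 3 ∣ 2 ^ c * r ^ 2 := by
    intro h
    rcases Nat.prime_three.dvd_mul.1 h with h | h
    · have := (Nat.prime_dvd_prime_iff_eq Nat.prime_three Nat.prime_two).1
        (Nat.prime_three.dvd_of_dvd_pow h)
      omega
    · exact hr3 ((Nat.prime_dvd_prime_iff_eq Nat.prime_three hr).1
        (Nat.prime_three.dvd_of_dvd_pow h)).symm
  obtain ⟨S, hS⟩ := exists_sylow_card hG h3k
  obtain ⟨V, e, X, Y, δ, sg, B⟩ := exists_pblock S hS
  have he2 := PBlock.two_le hperf S B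
  have hY := B.cardY
  have hYpos := B.nonempty.card_pos
  obtain ⟨rfl, hY1⟩ : e = 2 ∧ Y.card = 1 := by
    have : e ≤ 2 := Nat.le_of_dvd (by norm_num) ⟨Y.card, by rw [mul_comm]; exact hY.symm⟩
    obtain rfl : e = 2 := by omega
    exact ⟨rfl, by omega⟩
  obtain ⟨θ, hθY⟩ := Finset.card_eq_one.1 hY1
  have hθ : θ ∈ Y := by rw [hθY]; simp
  have hθX : θ ∉ X := fun h => Finset.disjoint_left.1 B.disj h hθ
  set s : Finset (IrrCharacter G) := insert θ X with hs
  set co : IrrCharacter G → ℤ := fun χ => if χ = θ then δ else sg χ with hco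
  have hmem : ∀ χ ∈ s, χ ∈ X ∨ χ ∈ Y := fun χ h => by
    rcases Finset.mem_insert.1 h with h | h
    · exact Or.inr (h ▸ hθ)
    · exact Or.inl h
  have hco1 : ∀ χ ∈ s, co χ = 1 ∨ co χ = -1 := fun χ h => by
    simp only [hco]
    split_ifs with he
    · exact B.sign
    · exact B.signX χ ((Finset.mem_insert.1 h).resolve_left he)
  have hsum : ∀ g : G, ∑ χ ∈ s, (co χ : ℂ) * (χ : G → ℂ) g =
      ∑ χ ∈ X, (sg χ : ℂ) * (χ : G → ℂ) g + (δ : ℂ) * (θ : G → ℂ) g := fun g => by
    rw [hs, Finset.sum_insert hθX, add_comm]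
    refine congrArg₂ (· + ·) (Finset.sum_congr rfl fun χ hχ => ?_) (by simp [hco])
    rw [show co χ = sg χ by simp [hco, show χ ≠ θ from fun h => hθX (h ▸ hχ)]]
  have hF : ∀ g : G, ∑ χ ∈ s, (co χ : ℂ) * (χ : G → ℂ) g = if 3 ∣ orderOf g then 3 else 0 := by
    intro g
    rw [hsum]
    split_ifs with hg
    · obtain ⟨y, hy, hy1, x, hx, hconj⟩ := PBlock.exists_conj_section S B hg
      rw [irr_isConj θ hconj.symm, Finset.sum_congr rfl fun χ _ => by rw [irr_isConj χ hconj.symm],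
        B.sect θ (Or.inr hθ) y hy hy1 x hx, B.value_three hθ hy hy1,
        Finset.sum_congr rfl fun χ hχ => by
          rw [B.sect χ (Or.inl hχ) y hy hy1 x hx, B.valX χ hχ y hy hy1]]
      have h1 : ∀ a : ℤ, a = 1 ∨ a = -1 → (a : ℂ) * (a : ℂ) = 1 := by
        intro a ha
        rcases ha with h | h <;> rw [h] <;> norm_num
      rw [Finset.sum_congr rfl fun χ hχ => h1 _ (B.signX χ hχ), h1 δ B.sign, Finset.sum_const,
        B.cardX]
      norm_num
    · exact B.relation g hg θ hθ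
  -- the two nonprincipal members
  have hπ : principal G ∈ s := by
    rcases B.prin with h | h
    · exact Finset.mem_insert_of_mem h
    · rw [hθY, Finset.mem_singleton] at h
      rw [hs, h]
      exact Finset.mem_insert_self _ _
  obtain ⟨f, e', hne, hfe⟩ := Finset.card_eq_two.1 (show (s.erase (principal G)).card = 2 by
    rw [Finset.card_erase_of_mem hπ, hs, Finset.card_insert_of_notMem hθX, B.cardX])
  have hmemf : ∀ χ, χ ∈ s.erase (principal G) ↔ χ = f ∨ χ = e' := fun χ => by simp [hfe]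
  have hprop : ∀ χ ∈ s.erase (principal G), χ ∈ s ∧ 2 ≤ charDegree (χ : G → ℂ) ∧
      charDegree (χ : G → ℂ) ∣ 2 ^ c * r ^ 2 := by
    intro χ hχ
    obtain ⟨h1, h2⟩ := Finset.mem_erase.1 hχ
    refine ⟨h2, two_le_deg hperf fun h => h1 (Subtype.ext h), ?_⟩
    have h3 := charDegree_dvd_card χ
    rw [hG] at h3
    exact ((Nat.prime_three.coprime_iff_not_dvd.2 (B.not_dvd χ (hmem χ h2))).symm).dvd_of_dvd_mul_left h3
  have hdp : charDegree (principal G : G → ℂ) = 1 := Cfsg.Agent.CharX.charDegree_one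
  have hrel : co (principal G) + co f * (charDegree (f : G → ℂ) : ℤ) +
      co e' * (charDegree (e' : G → ℂ) : ℤ) = 0 := by
    have h := hF 1
    rw [if_neg (by simp), ← Finset.add_sum_erase _ _ hπ, hfe, Finset.sum_pair hne] at h
    simp only [irr_one_eq_charDegree, hdp] at h
    have h' : ((co (principal G) + co f * (charDegree (f : G → ℂ) : ℤ) +
        co e' * (charDegree (e' : G → ℂ) : ℤ) : ℤ) : ℂ) = ((0 : ℤ) : ℂ) := by
      push_cast
      push_cast at h
      linear_combination h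
    exact_mod_cast h'
  obtain ⟨hf_s, hf2, hfd⟩ := hprop f ((hmemf f).2 (Or.inl rfl))
  obtain ⟨he_s, he2', hed⟩ := hprop e' ((hmemf e').2 (Or.inr rfl))
  obtain ⟨χ, ψ, hχs, hχr, hψ, hall⟩ : ∃ χ ψ : IrrCharacter G, χ ∈ s ∧
      charDegree (χ : G → ℂ) = r ∧ charDegree (ψ : G → ℂ) ≠ r ∧
      ∀ φ ∈ s, φ = principal G ∨ φ = χ ∨ φ = ψ := by
    have key : ∀ a b : ℕ, 2 ≤ a → 2 ≤ b → a ∣ 2 ^ c * r ^ 2 → b ∣ 2 ^ c * r ^ 2 →
        (b = a + 1 ∨ a = b + 1) → Odd a → a = r ∧ b ≠ r := by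
      intro a b ha hb had hbd hab hodd
      have ha' : a ∣ r ^ 2 := (Nat.Coprime.pow_right c
        ((Nat.prime_two.coprime_iff_not_dvd.2 (by
          rw [Nat.odd_iff] at hodd; omega)).symm)).dvd_of_dvd_mul_left had
      obtain ⟨k, hk, rfl⟩ := (Nat.dvd_prime_pow hr).1 ha'
      rcases (show k = 0 ∨ k = 1 ∨ k = 2 by omega) with rfl | rfl | rfl
      · simp at ha
      · exact ⟨pow_one r, by rw [pow_one] at hab; omega⟩
      exfalso
      have hcop : Nat.Coprime b r := (hr.coprime_iff_not_dvd.2 fun h => by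
        have h1 : r ∣ r ^ 2 := dvd_pow_self r two_ne_zero
        rcases hab with h2 | h2
        · exact hr.not_dvd_one ((Nat.dvd_add_right h1).1 (h2 ▸ h))
        · exact hr.not_dvd_one ((Nat.dvd_add_right h).1 (h2 ▸ h1))).symm
      obtain ⟨l, -, rfl⟩ := (Nat.dvd_prime_pow Nat.prime_two).1
        ((hcop.pow_right 2).dvd_of_dvd_mul_right hbd)
      have hr3' : r % 3 ≠ 0 := fun h =>
        hr3 ((Nat.prime_dvd_prime_iff_eq Nat.prime_three hr).1 (Nat.dvd_of_mod_eq_zero h)).symm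
      have hsq : r ^ 2 % 3 = 1 := by
        rw [Nat.pow_mod]
        rcases (show r % 3 = 1 ∨ r % 3 = 2 by omega) with h | h <;> rw [h]
      rcases hab with h2 | h2
      · have hl : 2 ≤ l := by
          by_contra hlt
          have := Nat.pow_le_pow_right (show 1 ≤ 2 by norm_num) (show l ≤ 1 by omega)
          have := Nat.pow_le_pow_left (show 3 ≤ r by have := hr.two_le; omega) 2
          omega
        have h4 : 4 ∣ 2 ^ l := (show (4 : ℕ) = 2 ^ 2 from rfl) ▸ Nat.pow_dvd_pow 2 hl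
        have hsq4 : r ^ 2 % 4 = 1 := by
          rw [Nat.pow_mod]
          have := Nat.odd_iff.1 (hr.odd_of_ne_two hr2)
          rcases (show r % 4 = 1 ∨ r % 4 = 3 by omega) with h | h <;> rw [h]
        omega
      · have h3 : 3 ∣ 2 ^ l := by omega
        have := (Nat.prime_dvd_prime_iff_eq Nat.prime_three Nat.prime_two).1
          (Nat.prime_three.dvd_of_dvd_pow h3)
        omega
    have hab : charDegree (e' : G → ℂ) = charDegree (f : G → ℂ) + 1 ∨
        charDegree (f : G → ℂ) = charDegree (e' : G → ℂ) + 1 := by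
      rcases hco1 _ hπ with h | h <;> rcases hco1 _ hf_s with h' | h' <;>
        rcases hco1 _ he_s with h'' | h'' <;> rw [h, h', h''] at hrel <;> omega
    have hall : ∀ φ ∈ s, φ = principal G ∨ φ = f ∨ φ = e' := fun φ hφ => by
      by_cases h : φ = principal G
      · exact Or.inl h
      · exact Or.inr ((hmemf φ).1 (Finset.mem_erase.2 ⟨h, hφ⟩))
    rcases Nat.even_or_odd (charDegree (f : G → ℂ)) with h | h
    · have ho : Odd (charDegree (e' : G → ℂ)) := by
        rw [Nat.even_iff] at h; rw [Nat.odd_iff]; omega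
      obtain ⟨h1, h2⟩ := key _ _ he2' hf2 hed hfd hab.symm ho
      exact ⟨e', f, he_s, h1, h2, fun φ hφ => (hall φ hφ).imp_right Or.symm⟩
    · obtain ⟨h1, h2⟩ := key _ _ hf2 he2' hfd hed hab h
      exact ⟨f, e', hf_s, h1, h2, hall⟩
  -- the member of degree `r` is rational
  have hrat : ∀ (σ : ℂ ≃+* ℂ) (g : G), σ ((χ : G → ℂ) g) = (χ : G → ℂ) g := by
    intro σ g
    obtain ⟨i, hi, hiσ⟩ := exists_galT_eq s co id Function.injective_id.injOn σ (fun g => by
      simp only [id_eq]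
      rw [hF g]
      split_ifs
      · exact map_ofNat σ 3
      · exact map_zero σ) (j := χ) hχs (by rcases hco1 _ hχs with h | h <;> omega)
    simp only [id_eq] at hiσ
    have hd : charDegree (i : G → ℂ) = r := by
      have h := DefOne.galT_one σ i
      rw [hiσ, irr_one_eq_charDegree, irr_one_eq_charDegree, hχr] at h
      exact_mod_cast h.symm
    rcases hall i hi with h | h | h <;> subst h
    · rw [hdp] at hd; exact absurd hd hr.one_lt.ne
    · exact congrFun (congrArg Subtype.val hiσ) g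
    · exact absurd hd hψ
  have hne1 : χ ≠ principal G := fun h => by
    rw [h, hdp] at hχr
    exact hr.one_lt.ne hχr
  have hfaith : ∀ h : G, (χ : G → ℂ) h = (χ : G → ℂ) 1 → h = 1 := fun h hh =>
    faithful_of_simple hperf hne1 hh
  obtain ⟨R⟩ : Nonempty (Sylow r G) := inferInstance
  have hval : ∀ x ∈ (R : Subgroup G), x ≠ 1 → (χ : G → ℂ) x = ((0 : ℤ) : ℂ) := by
    intro x hx hx1
    obtain ⟨k, hk⟩ := IsPGroup.iff_orderOf.1 R.isPGroup' ⟨x, hx⟩
    rw [← Subgroup.orderOf_coe] at hk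
    have hr5 : 4 ≤ r := by have := hr.two_le; omega
    rcases k with _ | _ | k
    · rw [pow_zero, orderOf_eq_one_iff] at hk; exact absurd hk hx1
    · rw [zero_add, pow_one] at hk
      obtain ⟨m, hm, he⟩ := exists_fixed_mult χ hr hk hfaith fun σ => hrat σ x
      obtain ⟨n, hn⟩ := Blocks.exists_int_of_fixed
        (IsCharacter.isIntegral (IsIrrCharacter.isCharacter χ.2) x) fun σ => hrat σ x
      rw [hn, hχr] at he
      rw [hχr] at hm
      have he' : ((r : ℤ) - 1) * n = r * (m : ℤ) - r := by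
        have : ((((r : ℤ) - 1) * n : ℤ) : ℂ) = (((r : ℤ) * (m : ℤ) - r : ℤ) : ℂ) := by
          push_cast; exact he
        exact_mod_cast this
      have hd : ((r : ℤ) - 1) ∣ (m : ℤ) - 1 := ⟨n - ((m : ℤ) - 1), by linear_combination (-1) * he'⟩
      have h0 : (m : ℤ) - 1 = 0 := Int.eq_zero_of_dvd_of_natAbs_lt_natAbs hd (by omega)
      have hn0 : ((r : ℤ) - 1) * n = 0 := by rw [he']; linear_combination (r : ℤ) * h0
      rcases mul_eq_zero.1 hn0 with h | h
      · omega
      · rw [hn, h]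
    · exfalso
      have h := totient_le_degree (fun σ l => hrat σ (x ^ l)) hfaith hr hk
      rw [hχr, Nat.totient_prime_pow_succ hr, pow_succ] at h
      have h1 := Nat.one_le_pow k r hr.pos
      have h2 : 1 * r * (r - 1) ≤ r := (Nat.mul_le_mul_right _ (Nat.mul_le_mul_right r h1)).trans h
      have h3 : r * 2 ≤ r * (r - 1) := Nat.mul_le_mul_left r (by omega)
      rw [one_mul] at h2
      omega
  have h := card_dvd_of_const χ (R : Subgroup G) hval
  rw [hχr, sub_zero, Int.natCast_dvd_natCast] at h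
  have h2 : r ^ 2 ∣ r :=
    (R.pow_dvd_card_of_pow_dvd_card (n := 2) ⟨3 * 2 ^ c, by rw [hG]; ring⟩).trans h
  have := Nat.le_of_dvd hr.pos h2
  nlinarith [hr.two_le]

end Cfsg.Agent.SmallN
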